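import Mathlib
import Cfsg.Prelude.Def_Balance
set_option linter.all false

set_option autoImplicit false
open Cfsg

namespace Cfsg.Agent.SignalizersComponents.QsBasic

open Subgroup

/-- A proper normal subgroup of a quasisimple group is central. -/
theorem normal_le_center_of_ne_top {L : Type*} [Group L] (hL : Cfsg.IsQuasisimple L)
    (N : Subgroup L) [hN : N.Normal] (hne : N ≠ ⊤) : N ≤ Subgroup.center L := by
  obtain ⟨hperf, hsimple⟩ := hL
  set π := QuotientGroup.mk' (Subgroup.center L) with hπ
  have hmapN : (N.map π).Normal := hN.map π (QuotientGroup.mk'_surjective _)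
  rcases hmapN.eq_bot_or_eq_top with h | h
  · rw [Subgroup.map_eq_bot_iff, hπ, QuotientGroup.ker_mk'] at h
    exact h
  · exfalso
    apply hne
    -- L = N Z(L) so L / N is abelian, hence N ≥ [L,L] = L
    have hsup : N ⊔ Subgroup.center L = ⊤ := by
      have := congrArg (Subgroup.comap π) h
      rw [Subgroup.comap_map_eq, Subgroup.comap_top, hπ, QuotientGroup.ker_mk'] at this
      exact this
    have hcomm : commutator L ≤ N := by
      rw [commutator_def, Subgroup.commutator_le]
      intro a _ b _
      have ha : a ∈ N ⊔ Subgroup.center L := hsup ▸ Subgroup.mem_top a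
      obtain ⟨n, hn, z, hz, rfl⟩ := Subgroup.mem_sup_of_normal_left.mp ha
      have hz' := Subgroup.mem_center_iff.mp hz
      have e : (n * z) * b * (n * z)⁻¹ * b⁻¹ = n * (b * n⁻¹ * b⁻¹) := by
        have h1 : n * z * b * (n * z)⁻¹ * b⁻¹ = n * (z * (b * z⁻¹) * n⁻¹ * b⁻¹) := by group
        rw [h1, ← mul_assoc z b, ← hz' b]; group
      rw [commutatorElement_def, e]
      exact mul_mem hn (hN.conj_mem _ (inv_mem hn) b)
    rw [hperf.commutator_eq_top] at hcomm
    exact top_le_iff.mp hcomm

/-- In a finite 2-group of 2-rank at most 1 there is at most one subgroup of order 2. -/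
theorem unique_of_rank_one {P : Type*} [Group P] [Finite P] (hP : IsPGroup 2 P)
    (hrk : Cfsg.PRankLE 2 1 P) (H K : Subgroup P) (hH : Nat.card H = 2) (hK : Nat.card K = 2) :
    H = K := by
  have hnt : Nontrivial P := by
    have h1 : 1 < Nat.card H := by omega
    have : Nontrivial H := Finite.one_lt_card_iff_nontrivial.mp h1
    exact Subtype.val_injective.nontrivial (α := H)
  have : Fact (Nat.Prime 2) := ⟨Nat.prime_two⟩
  -- a central involution
  have hc : Nontrivial (Subgroup.center P) := hP.center_nontrivial
  have hdvd : 2 ∣ Nat.card (Subgroup.center P) := by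
    have hpc : IsPGroup 2 (Subgroup.center P) := hP.to_subgroup _
    obtain ⟨k, hk⟩ := IsPGroup.iff_card.mp hpc
    have h1 : 1 < Nat.card (Subgroup.center P) := Finite.one_lt_card_iff_nontrivial.mpr hc
    rcases k with _ | k
    · rw [pow_zero] at hk; omega
    · rw [hk, pow_succ]; exact Dvd.intro_left _ rfl
  obtain ⟨z, hz⟩ := exists_prime_orderOf_dvd_card' 2 hdvd
  have hzc : (z : P) ∈ Subgroup.center P := z.2
  have hzo : orderOf (z : P) = 2 := by rw [Subgroup.orderOf_coe]; exact hz
  have key : ∀ H : Subgroup P, Nat.card H = 2 → H = Subgroup.zpowers (z : P) := by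
    intro H hH
    obtain ⟨h, hh⟩ := exists_prime_orderOf_dvd_card' (G := H) 2 (by rw [hH])
    have hho : orderOf (h : P) = 2 := by rw [Subgroup.orderOf_coe]; exact hh
    have hHz : H = Subgroup.zpowers (h : P) := by
      symm
      apply Subgroup.eq_of_le_of_card_ge
      · rw [Subgroup.zpowers_le]; exact h.2
      · rw [Nat.card_zpowers, hho, hH]
    have hcomm : (h : P) * z = z * h := (Subgroup.mem_center_iff.mp hzc (h : P))
    -- A = closure {h, z} elementary abelian
    set A : Subgroup P := Subgroup.closure {(h : P), (z : P)} with hA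
    have hAcomm : IsMulCommutative A := by
      rw [hA]
      apply Subgroup.isMulCommutative_closure
      intro x hx y hy
      simp only [Set.mem_insert_iff, Set.mem_singleton_iff] at hx hy
      rcases hx with rfl | rfl <;> rcases hy with rfl | rfl <;> simp [hcomm]
    have hA2 : ∀ a ∈ A, a ^ 2 = 1 := by
      intro a ha
      rw [hA] at ha
      refine Subgroup.closure_induction (p := fun a _ => a ^ 2 = 1) ?_ ?_ ?_ ?_ ha
      · intro x hx
        simp only [Set.mem_insert_iff, Set.mem_singleton_iff] at hx
        rcases hx with rfl | rfl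
        · rw [← hho]; exact pow_orderOf_eq_one _
        · rw [← hzo]; exact pow_orderOf_eq_one _
      · simp
      · intro x y hx hy hx2 hy2
        have hc : Commute x y := by
          have := hAcomm.is_comm.comm ⟨x, hx⟩ ⟨y, hy⟩
          exact congrArg Subtype.val this
        rw [hc.mul_pow, hx2, hy2, one_mul]
      · intro x _ hx2
        rw [inv_pow, hx2, inv_one]
    have hcard := hrk A hAcomm hA2
    have hhA : (h : P) ∈ A := Subgroup.subset_closure (by simp)
    have hzA : (z : P) ∈ A := Subgroup.subset_closure (by simp)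
    have h1 : Subgroup.zpowers (h : P) = A := by
      apply Subgroup.eq_of_le_of_card_ge
      · rw [Subgroup.zpowers_le]; exact hhA
      · rw [Nat.card_zpowers, hho]; simpa using hcard
    have h2 : Subgroup.zpowers (z : P) = A := by
      apply Subgroup.eq_of_le_of_card_ge
      · rw [Subgroup.zpowers_le]; exact hzA
      · rw [Nat.card_zpowers, hzo]; simpa using hcard
    rw [hHz, h1, h2]
  rw [key H hH, key K hK]

/-- The 2-rank bound passes to subgroups. -/
theorem pRankLE_subgroup {L : Type*} [Group L] {p k : ℕ} (h : Cfsg.PRankLE p k L)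
    (S : Subgroup L) : Cfsg.PRankLE p k S := by
  intro A hA hA2
  have h1 : IsMulCommutative (A.map S.subtype) := by
    infer_instance
  have h2 := h (A.map S.subtype) h1 (by
    rintro _ ⟨a, ha, rfl⟩
    have := hA2 a ha
    simpa using congrArg Subtype.val this)
  rwa [Nat.card_congr (Subgroup.equivMapOfInjective A S.subtype
    (Subgroup.subtype_injective S)).toEquiv.symm] at h2

/-- A finite nontrivial perfect group whose Sylow 2-subgroup is cyclic has odd order. -/
theorem not_isCyclic_sylow {L : Type*} [Group L] [Finite L] [Group.IsPerfect L]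
    (heven : Even (Nat.card L)) (S : Sylow 2 L) : ¬ IsCyclic S := by
  intro hS
  have hmf : (Nat.card L).minFac = 2 := by
    rw [Nat.minFac_eq_two_iff]; exact heven.two_dvd
  have hcompl := IsCyclic.isComplement' (P := S) hmf hS
  set K := (MonoidHom.transferSylow S (hS.normalizer_le_centralizer hmf)).ker
  have hK : K = ⊤ := by
    have hle : commutator L ≤ K := by
      rw [commutator_def, Subgroup.commutator_le]
      intro a _ b _
      rw [MonoidHom.mem_ker, map_commutatorElement, commutatorElement_eq_one_iff_mul_comm]
      exact (IsCyclic.isMulCommutative (α := S)).is_comm.comm _ _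
    rw [Group.IsPerfect.commutator_eq_top] at hle
    exact top_le_iff.mp hle
  rw [hK, Subgroup.isComplement'_top_left] at hcompl
  have h2 : Nat.card (S : Subgroup L) = 1 := by rw [hcompl]; simp
  have : ¬ 2 ∣ Nat.card L := by
    have := S.card_eq_multiplicity
    intro hd
    have h3 : 2 ∣ Nat.card (S : Subgroup L) := by
      rw [this]
      have : Fact (Nat.Prime 2) := ⟨Nat.prime_two⟩
      apply dvd_pow_self
      rw [← pos_iff_ne_zero]
      exact Nat.prime_two.factorization_pos_of_dvd Nat.card_pos.ne' hd
    rw [h2] at h3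
    omega
  exact this heven.two_dvd

/-- Every finite group has a normal subgroup of odd order modulo which there are no nontrivial
normal subgroups of odd order. -/
theorem exists_maximal_odd_normal (L : Type*) [Group L] [Finite L] :
    ∃ N : Subgroup L, N.Normal ∧ Odd (Nat.card N) ∧
      ∀ [N.Normal], ∀ M : Subgroup (L ⧸ N), M.Normal → Odd (Nat.card M) → M = ⊥ := by
  classical
  have hfin : {N : Subgroup L | N.Normal ∧ Odd (Nat.card N)}.Finite := Set.toFinite _
  have hne : {N : Subgroup L | N.Normal ∧ Odd (Nat.card N)}.Nonempty :=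
    ⟨⊥, inferInstance, by simp⟩
  obtain ⟨N, ⟨hN1, hN2⟩, hmax⟩ := hfin.exists_maximalFor (fun N : Subgroup L => Nat.card N) _ hne
  refine ⟨N, hN1, hN2, ?_⟩
  intro hN M hM hodd
  set M' := M.comap (QuotientGroup.mk' N) with hM'
  have hNM : N ≤ M' := by
    rw [hM']
    intro x hx
    rw [Subgroup.mem_comap, QuotientGroup.mk'_apply, (QuotientGroup.eq_one_iff x).mpr hx]
    exact one_mem _
  have hcard : Nat.card M' = Nat.card N * Nat.card M := by
    have h1 := Subgroup.card_mul_index M'
    have h2 := Subgroup.card_mul_index M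
    have h3 := Subgroup.card_mul_index N
    have h4 : M'.index = M.index :=
      Subgroup.index_comap_of_surjective _ (QuotientGroup.mk'_surjective N)
    have h5 : N.index = Nat.card (L ⧸ N) := rfl
    have h6 : 0 < M.index := Nat.pos_of_ne_zero Subgroup.FiniteIndex.index_ne_zero
    rw [h4] at h1
    apply Nat.eq_of_mul_eq_mul_right h6
    rw [h1, mul_assoc, h2, ← h5, h3]
  have hM'n : M'.Normal := hM.comap _
  have hM'o : Odd (Nat.card M') := by rw [hcard]; exact hN2.mul hodd
  have hle0 : Nat.card N ≤ Nat.card M' := by
    rw [hcard]; exact Nat.le_mul_of_pos_right _ Nat.card_pos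
  have hle : Nat.card M' ≤ Nat.card N := hmax (j := M') ⟨hM'n, hM'o⟩ hle0
  have hM1 : Nat.card M = 1 := by
    rw [hcard] at hle
    have hp : 0 < Nat.card N := Nat.card_pos
    have hp' : 0 < Nat.card M := Nat.card_pos
    nlinarith
  exact Subgroup.card_eq_one.mp hM1

theorem map_center_mulEquiv {A B : Type*} [Group A] [Group B] (e : A ≃* B) :
    (Subgroup.center A).map (e : A →* B) = Subgroup.center B := by
  ext b
  rw [Subgroup.mem_map]
  constructor
  · rintro ⟨a, ha, rfl⟩
    rw [Subgroup.mem_center_iff] at ha ⊢
    intro g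
    obtain ⟨c, rfl⟩ := e.surjective g
    have := congrArg e (ha c)
    simpa using this
  · intro hb
    refine ⟨e.symm b, ?_, by simp⟩
    rw [Subgroup.mem_center_iff] at hb ⊢
    intro g
    have := congrArg e.symm (hb (e g))
    simpa using this

/-- Quasisimplicity is invariant under isomorphism. -/
theorem isQuasisimple_of_mulEquiv {A B : Type*} [Group A] [Group B] (e : A ≃* B)
    (hA : Cfsg.IsQuasisimple A) : Cfsg.IsQuasisimple B := by
  obtain ⟨hp, hs⟩ := hA
  refine ⟨Group.IsPerfect.ofSurjective (f := e.toMonoidHom) e.surjective, ?_⟩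
  exact (QuotientGroup.congr _ _ e (map_center_mulEquiv e)).symm.isSimpleGroup

end Cfsg.Agent.SignalizersComponents.QsBasic
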