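import Cfsg.Prelude.Def_Local
import Mathlib.GroupTheory.IsPerfect
import Mathlib.GroupTheory.IsSubnormal
import Mathlib.Tactic
set_option linter.all false

set_option autoImplicit false

/-!
Distinct components of a finite group commute; transport of components under conjugation, for
components of subgroups (`IsComponent (L.subgroupOf C)`).
-/

namespace Cfsg.Agent.SignalizersComponents.DistinctComponents

universe u

theorem quasisimple_congr {H H' : Type*} [Group H] [Group H'] (e : H ≃* H')
    (h : Cfsg.IsQuasisimple H) : Cfsg.IsQuasisimple H' := by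
  obtain ⟨hp, hs⟩ := h
  refine ⟨Group.IsPerfect.ofSurjective (f := e.toMonoidHom) e.surjective, ?_⟩
  have hc : (Subgroup.center H).map (e : H →* H') = Subgroup.center H' := by
    ext x
    constructor
    · rintro ⟨y, hy, rfl⟩
      rw [Subgroup.mem_center_iff]
      intro g
      have := (Subgroup.mem_center_iff.mp hy) (e.symm g)
      have h2 := congrArg e this
      simpa using h2
    · intro hx
      refine ⟨e.symm x, ?_, by simp⟩
      show e.symm x ∈ Subgroup.center H
      rw [Subgroup.mem_center_iff]
      intro g
      have := (Subgroup.mem_center_iff.mp hx) (e g)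
      have h2 := congrArg e.symm this
      simpa using h2
  have e2 : (H ⧸ Subgroup.center H) ≃* (H' ⧸ Subgroup.center H') :=
    QuotientGroup.congr _ _ e hc
  have : Nontrivial (H' ⧸ Subgroup.center H') := e2.symm.toEquiv.nontrivial
  exact IsSimpleGroup.isSimpleGroup_of_surjective e2.toMonoidHom e2.surjective

/-- In a quasisimple group a normal subgroup is everything or central. -/
theorem quasisimple_normal {H : Type*} [Group H] (h : Cfsg.IsQuasisimple H) (N : Subgroup H)
    (hN : N.Normal) : N = ⊤ ∨ N ≤ Subgroup.center H := by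
  obtain ⟨hp, hs⟩ := h
  have hm : (N.map (QuotientGroup.mk' (Subgroup.center H))).Normal :=
    Subgroup.Normal.map hN _ (QuotientGroup.mk'_surjective _)
  rcases hm.eq_bot_or_eq_top with hb | ht
  · right
    rw [Subgroup.map_eq_bot_iff, QuotientGroup.ker_mk'] at hb
    exact hb
  · left
    have hsup : N ⊔ Subgroup.center H = ⊤ := by
      have := congrArg (Subgroup.comap (QuotientGroup.mk' (Subgroup.center H))) ht
      rw [Subgroup.comap_map_eq, QuotientGroup.ker_mk', Subgroup.comap_top] at this
      exact this
    have hcomm : commutator H ≤ N :=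
      Subgroup.Normal.commutator_le_of_self_sup_commutative_eq_top hsup inferInstance
    rw [hp.commutator_eq_top] at hcomm
    exact top_le_iff.mp hcomm

/-- In a quasisimple group a subnormal subgroup is everything or central. -/
theorem quasisimple_subnormal {H : Type*} [Group H] (h : Cfsg.IsQuasisimple H) (N : Subgroup H)
    (hN : N.IsSubnormal) : N = ⊤ ∨ N ≤ Subgroup.center H := by
  rcases hN.lt_normal with h1 | ⟨K, hK, hNK, hKt⟩
  · exact Or.inl h1
  · rcases quasisimple_normal h K hK with h2 | h2
    · exact absurd h2 hKt.ne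
    · exact Or.inr (hNK.trans h2)

theorem isComponent_subgroupOf {G : Type*} [Group G] {L H : Subgroup G} (hL : Cfsg.IsComponent L)
    (hLH : L ≤ H) : Cfsg.IsComponent (L.subgroupOf H) :=
  ⟨hL.1.subgroupOf, quasisimple_congr (Subgroup.subgroupOfEquivOfLe hLH).symm hL.2⟩

theorem commutator_subgroupOf_eq_bot {G : Type*} [Group G] {L H M : Subgroup G} (hL : L ≤ M)
    (h : ⁅L.subgroupOf M, H.subgroupOf M⁆ = ⊥) : ⁅L, H ⊓ M⁆ = ⊥ := by
  have := congrArg (Subgroup.map M.subtype) h
  rw [Subgroup.map_commutator, Subgroup.map_bot, Subgroup.subgroupOf_map_subtype,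
    Subgroup.subgroupOf_map_subtype, inf_of_le_left hL] at this
  exact this

/-- A component lies in, or commutes with, any given subnormal subgroup. -/
theorem component_le_or_commute : ∀ (n : ℕ) (G : Type u) [Group G] [Finite G], Nat.card G = n →
    ∀ L H : Subgroup G, Cfsg.IsComponent L → H.IsSubnormal → L ≤ H ∨ ⁅L, H⁆ = ⊥ := by
  intro n
  induction n using Nat.strong_induction_on with
  | _ n ih =>
    intro G _ _ hn L H hL hH
    rcases hH.lt_normal with h1 | ⟨N, hN, hHN, hNt⟩
    · left; rw [h1]; exact le_top
    rcases hL.1.lt_normal with h2 | ⟨M, hM, hLM, hMt⟩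
    · right
      have hq : Cfsg.IsQuasisimple G := by
        have := hL.2
        rw [h2] at this
        exact quasisimple_congr Subgroup.topEquiv this
      have hc : N ≤ Subgroup.center G := by
        rcases quasisimple_normal hq N hN with h3 | h3
        · exact absurd h3 hNt.ne
        · exact h3
      rw [h2]
      exact Subgroup.commutator_top_left_eq_bot_iff_le_center.mpr (hHN.trans hc)
    by_cases hLN : L ≤ N
    · have hcard : Nat.card N < n := by
        rw [← hn]
        exact lt_of_le_of_ne (Subgroup.card_le_card_group N)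
          (fun h => hNt.ne (Subgroup.eq_top_of_card_eq N h))
      rcases ih (Nat.card N) hcard N rfl (L.subgroupOf N) (H.subgroupOf N)
        (isComponent_subgroupOf hL hLN) hH.subgroupOf with h3 | h3
      · left
        intro x hx
        have : (⟨x, hLN hx⟩ : N) ∈ L.subgroupOf N := Subgroup.mem_subgroupOf.mpr hx
        exact Subgroup.mem_subgroupOf.mp (h3 this)
      · right
        have := commutator_subgroupOf_eq_bot hLN h3
        rwa [inf_of_le_left hHN] at this
    · right
      have hcard : Nat.card M < n := by
        rw [← hn]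
        exact lt_of_le_of_ne (Subgroup.card_le_card_group M)
          (fun h => hMt.ne (Subgroup.eq_top_of_card_eq M h))
      have h3 : ⁅L, N ⊓ M⁆ = ⊥ := by
        rcases ih (Nat.card M) hcard M rfl (L.subgroupOf M) (N.subgroupOf M)
          (isComponent_subgroupOf hL hLM) hN.isSubnormal.subgroupOf with h3 | h3
        · exfalso
          apply hLN
          intro x hx
          have : (⟨x, hLM hx⟩ : M) ∈ L.subgroupOf M := Subgroup.mem_subgroupOf.mpr hx
          exact Subgroup.mem_subgroupOf.mp (h3 this)
        · exact commutator_subgroupOf_eq_bot hLM h3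
      have h4 : ⁅L, N⁆ ≤ N ⊓ M :=
        le_inf (Subgroup.commutator_le_right _ _)
          ((Subgroup.commutator_mono hLM le_rfl).trans (Subgroup.commutator_le_left _ _))
      have h5 : ⁅⁅L, N⁆, L⁆ = ⊥ := by
        rw [Subgroup.commutator_comm]
        exact le_bot_iff.mp ((Subgroup.commutator_mono le_rfl h4).trans h3.le)
      have h6 : ⁅⁅N, L⁆, L⁆ = ⊥ := by
        rw [Subgroup.commutator_comm N L]; exact h5
      have h7 : ⁅⁅L, L⁆, N⁆ = ⊥ := Subgroup.commutator_commutator_eq_bot_of_rotate h5 h6
      have hp : ⁅L, L⁆ = L := Subgroup.isPerfect_iff.mp hL.2.1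
      rw [hp] at h7
      exact le_bot_iff.mp ((Subgroup.commutator_mono le_rfl hHN).trans h7.le)

/-- Distinct components of a finite group commute elementwise. -/
theorem distinct_components_commute {G : Type u} [Group G] [Finite G] {L K : Subgroup G}
    (hL : Cfsg.IsComponent L) (hK : Cfsg.IsComponent K) (hne : L ≠ K) : ⁅L, K⁆ = ⊥ := by
  rcases component_le_or_commute (Nat.card G) G rfl L K hL hK.1 with h | h
  · rcases quasisimple_subnormal hK.2 (L.subgroupOf K) hL.1.subgroupOf with h1 | h1
    · exact absurd (le_antisymm h (Subgroup.subgroupOf_eq_top.mp h1)) hne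
    · have h2 : ⁅L.subgroupOf K, K.subgroupOf K⁆ = ⊥ := by
        rw [Subgroup.subgroupOf_self]
        exact Subgroup.commutator_top_right_eq_bot_iff_le_center.mpr h1
      have := commutator_subgroupOf_eq_bot h h2
      rwa [inf_idem] at this
  · exact h

/-- Components of a subgroup, transported by conjugation. -/
theorem isComponent_subgroupOf_conj {G : Type*} [Group G] {L C : Subgroup G} (hLC : L ≤ C)
    (hL : Cfsg.IsComponent (L.subgroupOf C)) (g : G) :
    Cfsg.IsComponent ((L.map (MulAut.conj g).toMonoidHom).subgroupOf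
      (C.map (MulAut.conj g).toMonoidHom)) := by
  have hq : Cfsg.IsQuasisimple L := quasisimple_congr (Subgroup.subgroupOfEquivOfLe hLC) hL.2
  refine ⟨?_, ?_⟩
  · -- subnormality
    let e : C ≃* (C.map (MulAut.conj g).toMonoidHom) :=
      C.equivMapOfInjective _ (MulAut.conj g).injective
    have h1 : ((L.subgroupOf C).map e.toMonoidHom).IsSubnormal :=
      hL.1.map (f := e.toMonoidHom) e.surjective
    have h2 : (L.subgroupOf C).map e.toMonoidHom
        = (L.map (MulAut.conj g).toMonoidHom).subgroupOf (C.map (MulAut.conj g).toMonoidHom) := by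
      ext x
      simp only [Subgroup.mem_map, Subgroup.mem_subgroupOf]
      constructor
      · rintro ⟨y, hy, rfl⟩
        exact ⟨(y : G), hy, rfl⟩
      · rintro ⟨y, hy, hyx⟩
        refine ⟨⟨y, hLC hy⟩, hy, ?_⟩
        exact Subtype.ext hyx
    rw [← h2]; exact h1
  · have h1 : Cfsg.IsQuasisimple (L.map (MulAut.conj g).toMonoidHom) :=
      quasisimple_congr (L.equivMapOfInjective _ (MulAut.conj g).injective) hq
    exact quasisimple_congr
      (Subgroup.subgroupOfEquivOfLe (Subgroup.map_mono hLC)).symm h1

theorem map_conj_centralizer_singleton {G : Type*} [Group G] (g y : G) :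
    (Subgroup.centralizer ({y} : Set G)).map (MulAut.conj g).toMonoidHom
      = Subgroup.centralizer ({g * y * g⁻¹} : Set G) := by
  ext x
  simp only [Subgroup.mem_map, Subgroup.mem_centralizer_singleton_iff]
  constructor
  · rintro ⟨z, hz, rfl⟩
    simp only [MulEquiv.coe_toMonoidHom, MulAut.conj_apply]
    calc g * z * g⁻¹ * (g * y * g⁻¹) = g * (z * y) * g⁻¹ := by group
      _ = g * (y * z) * g⁻¹ := by rw [hz]
      _ = g * y * g⁻¹ * (g * z * g⁻¹) := by group
  · intro hx
    refine ⟨g⁻¹ * x * g, ?_, ?_⟩
    · calc g⁻¹ * x * g * y = g⁻¹ * (x * (g * y * g⁻¹)) * g := by group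
        _ = g⁻¹ * (g * y * g⁻¹ * x) * g := by rw [hx]
        _ = y * (g⁻¹ * x * g) := by group
    · simp only [MulEquiv.coe_toMonoidHom, MulAut.conj_apply]
      group

end Cfsg.Agent.SignalizersComponents.DistinctComponents
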