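import Cfsg.Prelude.Def_Local
import Cfsg.Agent.Lib.ComponentSolvable
import Cfsg.Agent.SignalizersComponents.Components
set_option linter.all false

set_option autoImplicit false

namespace Cfsg.Agent.SignalizersComponents.ComponentImage

open Subgroup Cfsg
open Cfsg.Agent.Lib.ComponentSolvable
open Cfsg.Agent.SignalizersComponents.Components (component_commutator_eq_bot_of_ne)

/-- A nontrivial homomorphic image of a quasisimple group is quasisimple. -/
theorem isQuasisimple_of_surjective {K Q : Type*} [Group K] [Group Q] (h : IsQuasisimple K)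
    (f : K →* Q) (hf : Function.Surjective f) (hne : Nontrivial Q) : IsQuasisimple Q := by
  have hperf : Group.IsPerfect Q := by
    have := h.1
    exact Group.IsPerfect.ofSurjective hf
  refine ⟨hperf, ?_⟩
  have hnt : Nontrivial (Q ⧸ center Q) := by
    rw [← not_subsingleton_iff_nontrivial]
    intro hs
    rw [QuotientGroup.subsingleton_iff] at hs
    have hc : IsMulCommutative Q :=
      ⟨⟨fun a b => (Subgroup.mem_center_iff.mp (hs ▸ Subgroup.mem_top b : b ∈ center Q) a)⟩⟩
    exact not_subsingleton Q inferInstance
  refine { exists_pair_ne := hnt.exists_pair_ne, eq_bot_or_eq_top_of_normal := ?_ }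
  intro N hN
  let g : K →* Q ⧸ center Q := (QuotientGroup.mk' (center Q)).comp f
  have hg : Function.Surjective g := (QuotientGroup.mk'_surjective _).comp hf
  rcases quasisimple_normal_cases h (hN.comap g) with h1 | h1
  · right
    rw [← Subgroup.map_comap_eq_self_of_surjective hg N, h1,
      Subgroup.map_top_of_surjective g hg]
  · left
    rw [← Subgroup.map_comap_eq_self_of_surjective hg N, eq_bot_iff]
    rintro _ ⟨k, hk, rfl⟩
    rw [Subgroup.mem_bot]
    change QuotientGroup.mk' (center Q) (f k) = 1
    rw [← MonoidHom.mem_ker, QuotientGroup.ker_mk', Subgroup.mem_center_iff]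
    intro q
    obtain ⟨k', rfl⟩ := hf q
    rw [← map_mul, ← map_mul, Subgroup.mem_center_iff.mp (h1 hk) k']

section Map

variable {G G' : Type*} [Group G] [Group G']

/-- The image of a component under a surjective homomorphism is trivial or a component. -/
theorem map_eq_bot_or_isComponent {f : G →* G'} (hf : Function.Surjective f) {K : Subgroup G}
    (hK : IsComponent K) : K.map f = ⊥ ∨ IsComponent (K.map f) := by
  by_cases h : K.map f = ⊥
  · exact Or.inl h
  · right
    refine ⟨hK.1.map hf, ?_⟩
    have hne : Nontrivial (K.map f) := (Subgroup.nontrivial_iff_ne_bot _).mpr h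
    exact isQuasisimple_of_surjective hK.2 (f.subgroupMap K) (f.subgroupMap_surjective K) hne

/-- The image of the layer under a surjective homomorphism lies in the layer. -/
theorem map_layer_le {f : G →* G'} (hf : Function.Surjective f) :
    (layer G).map f ≤ layer G' := by
  rw [Subgroup.map_le_iff_le_comap]
  refine sSup_le fun K hK => ?_
  rw [← Subgroup.map_le_iff_le_comap]
  rcases map_eq_bot_or_isComponent hf hK with h | h
  · rw [h]; exact bot_le
  · exact le_sSup h

/-- A component is not commutative. -/
theorem commutator_ne_bot {K : Subgroup G} (hK : IsComponent K) : ⁅K, K⁆ ≠ ⊥ := by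
  rw [Subgroup.isPerfect_iff.mp hK.2.1]
  exact (Subgroup.nontrivial_iff_ne_bot _).mp (quasisimple_nontrivial hK.2)

/-- A component contained in a join of components is one of them. -/
theorem mem_of_le_sSup {S : Set (Subgroup G)} (hS : ∀ L ∈ S, L = ⊥ ∨ IsComponent L)
    {K : Subgroup G} (hK : IsComponent K) (h : K ≤ sSup S) : K ∈ S := by
  by_contra hcon
  apply commutator_ne_bot hK
  have h1 : sSup S ≤ centralizer (K : Set G) := by
    refine sSup_le fun L hL => ?_
    rcases hS L hL with h2 | h2
    · rw [h2]; exact bot_le
    · rw [← commutator_eq_bot_iff_le_centralizer]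
      exact component_commutator_eq_bot_of_ne h2 hK (fun h3 => hcon (h3 ▸ hL))
  rw [commutator_eq_bot_iff_le_centralizer]
  exact h.trans h1

/-- A component contained in the image of the layer is the image of a component. -/
theorem exists_component_map_eq {f : G →* G'} (hf : Function.Surjective f) {K : Subgroup G'}
    (hK : IsComponent K) (h : K ≤ (layer G).map f) : ∃ L : Subgroup G, IsComponent L ∧ L.map f = K := by
  have h1 : (layer G).map f = sSup {M : Subgroup G' | ∃ L : Subgroup G, IsComponent L ∧ L.map f = M} := by
    apply le_antisymm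
    · rw [Subgroup.map_le_iff_le_comap]
      refine sSup_le fun L hL => ?_
      rw [← Subgroup.map_le_iff_le_comap]
      exact le_sSup ⟨L, hL, rfl⟩
    · refine sSup_le ?_
      rintro _ ⟨L, hL, rfl⟩
      exact Subgroup.map_mono (le_sSup hL)
  rw [h1] at h
  refine mem_of_le_sSup ?_ hK h
  rintro _ ⟨L, hL, rfl⟩
  exact map_eq_bot_or_isComponent hf hL

/-- A component which is not contained in `O_{p'}` is a
`p`-component. -/
theorem isPComponent_of_isComponent {p : ℕ} {K : Subgroup G} (hK : IsComponent K)
    (h : K.map (QuotientGroup.mk' (pPrimeCore p G)) ≠ ⊥) : IsPComponent p K := by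
  have hc := (map_eq_bot_or_isComponent (QuotientGroup.mk'_surjective (pPrimeCore p G)) hK).resolve_left h
  refine ⟨hK.1, hc, ?_⟩
  intro H hH hle hmap
  rcases quasisimple_subnormal_cases hK.2 (hH.subgroupOf (K := K)) with h1 | h1
  · exact le_antisymm hle (Subgroup.subgroupOf_eq_top.mp h1)
  · exfalso
    apply commutator_ne_bot hc
    rw [← hmap, ← Subgroup.map_commutator]
    have h2 : ⁅H, H⁆ = ⊥ := by
      rw [commutator_eq_bot_iff_le_centralizer]
      intro x hx
      rw [mem_centralizer_iff]
      intro y hy
      have hx' : (⟨x, hle hx⟩ : K) ∈ center K := h1 (show (⟨x, hle hx⟩ : K) ∈ H.subgroupOf K from hx)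
      exact congrArg Subtype.val (Subgroup.mem_center_iff.mp hx' ⟨y, hle hy⟩)
    rw [h2, Subgroup.map_bot]

end Map

end Cfsg.Agent.SignalizersComponents.ComponentImage
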