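import Cfsg.Agent.Lib.Cores
import Cfsg.Agent.Lib.ComponentSolvable
set_option linter.all false

/-!
# `F*(G) = O_p(G)` from a self-centralizing normal `p`-subgroup
-/

set_option autoImplicit false

namespace Cfsg.Agent.SignalizersComponents.FStarPCore

open Subgroup Cfsg
open Cfsg.Agent.Lib.Cores Cfsg.Agent.Lib.ComponentSolvable

/-- If a normal solvable subgroup contains its centralizer, there is no component. -/
theorem layer_eq_bot_of_centralizer_le {G : Type*} [Group G] {Q : Subgroup G} (hn : Q.Normal)
    (hs : Group.IsSolvable Q) (hc : centralizer (Q : Set G) ≤ Q) : layer G = ⊥ := by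
  have hle : layer G ≤ Q := (layer_le_centralizer_of_normal_solvable hn hs).trans hc
  change sSup {K : Subgroup G | IsComponent K} = ⊥
  rw [sSup_eq_bot]
  intro K hK
  exfalso
  have hKQ : K ≤ Q := le_trans (le_sSup hK) hle
  have hK2 : IsQuasisimple K := hK.2
  refine quasisimple_not_solvable hK2 ?_
  exact Group.isSolvable_of_isSolvable_injective (f := Subgroup.inclusion hKQ)
    (Subgroup.inclusion_injective hKQ)

/-- If a normal `p`-subgroup `Q` of a finite group contains its centralizer, then `F(G) = O_p(G)`. -/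
theorem fitting_eq_pCore_of_centralizer_le {G : Type*} [Group G] [Finite G] {p : ℕ}
    [hpf : Fact p.Prime] {Q : Subgroup G} (hn : Q.Normal) (hp : IsPGroup p Q)
    (hc : centralizer (Q : Set G) ≤ Q) : fittingSubgroup G = pCore p G := by
  apply le_antisymm _ (pCore_le_fittingSubgroup p)
  rw [fittingSubgroup_eq_iSup_pCore]
  refine iSup_le fun r => ?_
  by_cases hr : (r : ℕ) = p
  · rw [hr]
  · have : Fact (r : ℕ).Prime := ⟨r.2⟩
    have := pCore_normal (G := G) (r : ℕ)
    have hdis : Disjoint (pCore (r : ℕ) G) Q :=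
      IsPGroup.disjoint_of_ne (r : ℕ) p hr _ _ (pCore_isPGroup (r : ℕ)) hp
    have hcomm : pCore (r : ℕ) G ≤ centralizer (Q : Set G) := by
      rw [← commutator_eq_bot_iff_le_centralizer]
      exact le_bot_iff.mp ((commutator_le_inf _ _).trans hdis.le_bot)
    have h1 : pCore (r : ℕ) G ≤ Q := hcomm.trans hc
    have h2 : pCore (r : ℕ) G = ⊥ := le_bot_iff.mp (hdis le_rfl h1)
    rw [h2]
    exact bot_le

/-- If a normal `p`-subgroup `Q` of a finite group contains its centralizer, then
`F*(G) = O_p(G)`. -/
theorem generalizedFitting_eq_pCore_of_centralizer_le {G : Type*} [Group G] [Finite G] {p : ℕ}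
    [hpf : Fact p.Prime] {Q : Subgroup G} (hn : Q.Normal) (hp : IsPGroup p Q)
    (hc : centralizer (Q : Set G) ≤ Q) : generalizedFittingSubgroup G = pCore p G := by
  have := hp.isNilpotent
  have h1 := layer_eq_bot_of_centralizer_le hn (inferInstance : Group.IsSolvable Q) hc
  have h2 := fitting_eq_pCore_of_centralizer_le hn hp hc
  change layer G ⊔ fittingSubgroup G = _
  rw [h1, h2, bot_sup_eq]

end Cfsg.Agent.SignalizersComponents.FStarPCore
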