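import Mathlib
import Cfsg.Prelude.Def_Local
set_option linter.all false

set_option autoImplicit false
open Cfsg

namespace Cfsg.Agent.SignalizersComponents.ComponentExists

section

variable {G : Type*} [Group G]

/-- The join of a solvable subgroup and a normal solvable subgroup is solvable. -/
theorem isSolvable_sup_of_normal {H N : Subgroup G} [hN : N.Normal] (hH : Group.IsSolvable H)
    (hNs : Group.IsSolvable N) : Group.IsSolvable ↥(H ⊔ N) := by
  have h1 : Group.IsSolvable (N.subgroupOf (H ⊔ N)) :=
    Group.isSolvable_of_surjective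
      (f := (Subgroup.subgroupOfEquivOfLe (le_sup_right : N ≤ H ⊔ N)).symm.toMonoidHom)
      (Subgroup.subgroupOfEquivOfLe (le_sup_right : N ≤ H ⊔ N)).symm.surjective
  have h2 : Group.IsSolvable (↥(H ⊔ N) ⧸ N.subgroupOf (H ⊔ N)) := by
    have e := QuotientGroup.quotientInfEquivProdNormalQuotient H N
    exact Group.isSolvable_of_surjective (f := e.toMonoidHom) e.surjective
  exact (Group.isSolvable_iff_subgroup_quotient (N.subgroupOf (H ⊔ N))).2 ⟨h1, h2⟩

/-- Images of solvable subgroups are solvable. -/
theorem isSolvable_map {G' : Type*} [Group G'] {H : Subgroup G} (hH : Group.IsSolvable H)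
    (f : G →* G') : Group.IsSolvable (H.map f) :=
  Group.isSolvable_of_surjective (f := f.subgroupMap H) (f.subgroupMap_surjective H)

/-- Subgroups of solvable subgroups are solvable. -/
theorem isSolvable_of_le {H K : Subgroup G} (hHK : H ≤ K) (hK : Group.IsSolvable K) :
    Group.IsSolvable H :=
  Group.isSolvable_of_isSolvable_injective (Subgroup.inclusion_injective hHK)

/-- A finite group has a largest normal solvable subgroup, which is characteristic. -/
theorem exists_solvableRadical (G : Type*) [Group G] [Finite G] :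
    ∃ R : Subgroup G, R.Characteristic ∧ Group.IsSolvable R ∧
      ∀ N : Subgroup G, N.Normal → Group.IsSolvable N → N ≤ R := by
  obtain ⟨R, hR⟩ := Set.Finite.exists_maximal
    (s := {N : Subgroup G | N.Normal ∧ Group.IsSolvable N}) (Set.toFinite _)
    ⟨⊥, inferInstance, inferInstance⟩
  have hmax : ∀ N : Subgroup G, N.Normal → Group.IsSolvable N → N ≤ R := by
    intro N hN hNs
    have := hR.prop.1
    have h1 : R ⊔ N ∈ {N : Subgroup G | N.Normal ∧ Group.IsSolvable N} :=
      ⟨inferInstance, isSolvable_sup_of_normal hR.prop.2 hNs⟩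
    exact le_sup_right.trans (hR.le_of_ge h1 le_sup_left)
  refine ⟨R, ?_, hR.prop.2, hmax⟩
  rw [Subgroup.characteristic_iff_map_le]
  intro φ
  exact hmax _ (hR.prop.1.map _ φ.surjective) (isSolvable_map hR.prop.2 _)

/-- A subnormal solvable subgroup of a finite group lies in a normal solvable subgroup. -/
theorem exists_normal_isSolvable_of_isSubnormal [Finite G] {H : Subgroup G}
    (hH : H.IsSubnormal) (hs : Group.IsSolvable H) :
    ∃ N : Subgroup G, N.Normal ∧ Group.IsSolvable N ∧ H ≤ N := by
  suffices key : ∀ K : Subgroup G, K.IsSubnormal → ∀ N : Subgroup G, N ≤ K →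
      (N.subgroupOf K).Normal → Group.IsSolvable N →
      ∃ M : Subgroup G, M.Normal ∧ Group.IsSolvable M ∧ N ≤ M by
    exact key H hH H le_rfl (by rw [Subgroup.subgroupOf_self]; infer_instance) hs
  intro K hK
  induction hK with
  | top =>
    intro N _ hN hNs
    refine ⟨N, ?_, hNs, le_rfl⟩
    rw [Subgroup.normal_subgroupOf_iff_le_normalizer le_top, top_le_iff,
      Subgroup.normalizer_eq_top_iff] at hN
    exact hN
  | step H K h_le hSubn hN ih =>
    intro N hNH hNn hNs
    obtain ⟨R, hRc, hRs, hRm⟩ := exists_solvableRadical ↥(H.subgroupOf K)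
    set R' : Subgroup G := (R.map (H.subgroupOf K).subtype).map K.subtype with hR'
    have h1 : (R.map (H.subgroupOf K).subtype).Normal :=
      ConjAct.normal_of_characteristic_of_normal
    have h2 : R'.subgroupOf K = R.map (H.subgroupOf K).subtype := by
      rw [hR', Subgroup.subgroupOf, Subgroup.comap_map_eq_self_of_injective K.subtype_injective]
    have h3 : N ≤ R' := by
      have hN1 : ((N.subgroupOf K).subgroupOf (H.subgroupOf K)).Normal := by
        rw [Subgroup.normal_subgroupOf_iff_le_normalizer hNH] at hNn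
        have hle : N.subgroupOf K ≤ H.subgroupOf K := Subgroup.comap_mono hNH
        rw [Subgroup.normal_subgroupOf_iff_le_normalizer hle]
        exact (Subgroup.comap_mono hNn).trans (Subgroup.le_normalizer_comap K.subtype)
      have hN2 : Group.IsSolvable ((N.subgroupOf K).subgroupOf (H.subgroupOf K)) := by
        have e1 := Subgroup.subgroupOfEquivOfLe
          (Subgroup.comap_mono hNH : N.subgroupOf K ≤ H.subgroupOf K)
        have e2 := Subgroup.subgroupOfEquivOfLe (hNH.trans h_le)
        exact Group.isSolvable_of_surjective (f := (e1.trans e2).symm.toMonoidHom)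
          (e1.trans e2).symm.surjective
      have h4 := hRm _ hN1 hN2
      intro x hx
      have h5 : (⟨⟨x, h_le (hNH hx)⟩, hNH hx⟩ : ↥(H.subgroupOf K)) ∈ R := h4 hx
      exact ⟨⟨x, h_le (hNH hx)⟩, ⟨⟨⟨x, h_le (hNH hx)⟩, hNH hx⟩, h5, rfl⟩, rfl⟩
    obtain ⟨M, hM1, hM2, hM3⟩ := ih R' (Subgroup.map_subtype_le _) (by rw [h2]; exact h1)
      (isSolvable_map (isSolvable_map hRs _) _)
    exact ⟨M, hM1, hM2, h3.trans hM3⟩

/-- A normal nilpotent subgroup lies in the Fitting subgroup. -/
theorem le_fittingSubgroup {N : Subgroup G} (h1 : N.Normal) (h2 : Group.IsNilpotent N) :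
    N ≤ Cfsg.fittingSubgroup G :=
  le_sSup ⟨h1, h2⟩

/-- The Fitting subgroup is normal. -/
theorem fittingSubgroup_normal (G : Type*) [Group G] : (Cfsg.fittingSubgroup G).Normal :=
  Subgroup.sSup_normal _ (fun _ h => h.1)

/-- A subgroup whose commutator subgroup it centralizes is nilpotent. -/
theorem isNilpotent_of_commutator_commutator {M : Subgroup G} (h : ⁅⁅M, M⁆, M⁆ = ⊥) :
    Group.IsNilpotent M := by
  apply Subgroup.isNilpotent_of_lowerCentralSeries_eq_bot (n := 2)
  rw [Subgroup.lowerCentralSeries_succ, Subgroup.lowerCentralSeries_succ,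
    Subgroup.lowerCentralSeries_zero]
  exact h

/-- A normal solvable subgroup of a finite group `G` centralizing `F(G)` lies in `F(G)`. -/
theorem le_fitting_of_normal_of_isSolvable [Finite G] {N : Subgroup G} (hN : N.Normal)
    (hs : Group.IsSolvable N)
    (hc : N ≤ Subgroup.centralizer (Cfsg.fittingSubgroup G : Set G)) :
    N ≤ Cfsg.fittingSubgroup G := by
  by_contra hcon
  obtain ⟨M, hM⟩ := Set.Finite.exists_minimal
    (s := {M : Subgroup G | M.Normal ∧ M ≤ N ∧ ¬ M ≤ Cfsg.fittingSubgroup G}) (Set.toFinite _)
    ⟨N, hN, le_rfl, hcon⟩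
  obtain ⟨hM1, hM2, hM3⟩ := hM.prop
  have hMs : Group.IsSolvable M := isSolvable_of_le hM2 hs
  have hne : M ≠ ⊥ := by
    rintro rfl
    exact hM3 bot_le
  have hlt : ⁅M, M⁆ < M := by
    have : Nontrivial M := (Subgroup.nontrivial_iff_ne_bot M).2 hne
    have h1 := Group.IsSolvable.commutator_lt_top_of_nontrivial M
    have h2 := (Subgroup.map_subtype_lt_map_subtype (G' := M)).2 h1
    rwa [Subgroup.map_subtype_commutator, ← MonoidHom.range_eq_map, Subgroup.range_subtype] at h2
  have hle : ⁅M, M⁆ ≤ Cfsg.fittingSubgroup G := by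
    by_contra h
    have h1 : ⁅M, M⁆ ∈ {M : Subgroup G | M.Normal ∧ M ≤ N ∧ ¬ M ≤ Cfsg.fittingSubgroup G} :=
      ⟨inferInstance, hlt.le.trans hM2, h⟩
    exact hlt.not_ge (hM.le_of_le h1 hlt.le)
  apply hM3
  apply le_fittingSubgroup hM1
  apply isNilpotent_of_commutator_commutator
  rw [Subgroup.commutator_comm, Subgroup.commutator_eq_bot_iff_le_centralizer]
  exact (hM2.trans hc).trans (Subgroup.centralizer_le hle)

/-- A subnormal solvable subgroup of a finite group `G` centralizing `F(G)` lies in `F(G)`. -/
theorem le_fitting_of_isSubnormal_of_isSolvable [Finite G] {N : Subgroup G}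
    (hN : N.IsSubnormal) (hs : Group.IsSolvable N)
    (hc : N ≤ Subgroup.centralizer (Cfsg.fittingSubgroup G : Set G)) :
    N ≤ Cfsg.fittingSubgroup G := by
  obtain ⟨M, hM1, hM2, hM3⟩ := exists_normal_isSolvable_of_isSubnormal hN hs
  have := fittingSubgroup_normal G
  have h := le_fitting_of_normal_of_isSolvable
    (N := M ⊓ Subgroup.centralizer (Cfsg.fittingSubgroup G : Set G)) inferInstance
    (isSolvable_of_le inf_le_left hM2) inf_le_right
  exact (le_inf hM3 hc).trans h

/-- A subnormal nonsolvable subgroup `C` of a finite group `G` centralizing `F(G)`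
contains a component of `G`. -/
theorem exists_isComponent_le [Finite G] {C : Subgroup G} (hC : C.IsSubnormal)
    (hns : ¬ Group.IsSolvable C)
    (hc : C ≤ Subgroup.centralizer (Cfsg.fittingSubgroup G : Set G)) :
    ∃ K : Subgroup G, Cfsg.IsComponent K ∧ K ≤ C := by
  obtain ⟨K, hK⟩ := Set.Finite.exists_minimal
    (s := {K : Subgroup G | K.IsSubnormal ∧ K ≤ C ∧ ¬ Group.IsSolvable K}) (Set.toFinite _)
    ⟨C, hC, le_rfl, hns⟩
  obtain ⟨hK1, hK2, hK3⟩ := hK.prop
  -- every proper normal subgroup of `K` is central
  have key : ∀ N : Subgroup K, N.Normal → N ≠ ⊤ → N ≤ Subgroup.center K := by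
    intro N hN hNt
    have hsub : (N.map K.subtype).IsSubnormal := hN.isSubnormal.trans' hK1
    have hle : N.map K.subtype ≤ K := Subgroup.map_subtype_le N
    have hsol : Group.IsSolvable (N.map K.subtype) := by
      by_contra hcon
      have h1 := hK.le_of_le (y := N.map K.subtype) ⟨hsub, hle.trans hK2, hcon⟩ hle
      apply hNt
      rw [← Subgroup.map_subtype_inj, ← MonoidHom.range_eq_map, Subgroup.range_subtype]
      exact le_antisymm hle h1
    have h2 := le_fitting_of_isSubnormal_of_isSolvable hsub hsol ((hle.trans hK2).trans hc)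
    intro x hx
    rw [Subgroup.mem_center_iff]
    intro g
    have h3 : (g : G) ∈ Subgroup.centralizer (Cfsg.fittingSubgroup G : Set G) := hc (hK2 g.2)
    have h4 : (x : G) ∈ Cfsg.fittingSubgroup G := h2 ⟨x, hx, rfl⟩
    rw [Subgroup.mem_centralizer_iff] at h3
    exact Subtype.ext (h3 x h4).symm
  have hcomm : commutator K = ⊤ := by
    by_contra hne
    apply hK3
    have h1 : Group.IsSolvable (commutator K) := by
      have := key _ inferInstance hne
      apply Group.isSolvable_of_comm
      intro a b
      exact Subtype.ext ((Subgroup.mem_center_iff.1 (this b.2)) a)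
    have h2 : Group.IsSolvable (K ⧸ commutator K) := by
      change Group.IsSolvable (Abelianization K)
      infer_instance
    exact (Group.isSolvable_iff_subgroup_quotient (commutator K)).2 ⟨h1, h2⟩
  have hcen : Subgroup.center K ≠ ⊤ := by
    intro h
    apply hK3
    apply Group.isSolvable_of_comm
    intro a b
    have : b ∈ Subgroup.center K := by rw [h]; trivial
    exact (Subgroup.mem_center_iff.1 this) a
  refine ⟨K, ⟨hK1, ⟨⟨hcomm⟩, ?_⟩⟩, hK2⟩
  refine { exists_pair_ne := ?_, eq_bot_or_eq_top_of_normal := ?_ }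
  · have : Nontrivial (K ⧸ Subgroup.center K) := by
      rw [QuotientGroup.nontrivial_iff]
      exact hcen
    exact this.exists_pair_ne
  · intro N hN
    by_cases hNt : N.comap (QuotientGroup.mk' (Subgroup.center K)) = ⊤
    · right
      rw [← Subgroup.map_comap_eq_self_of_surjective
        (QuotientGroup.mk'_surjective (Subgroup.center K)) N, hNt,
        Subgroup.map_top_of_surjective _ (QuotientGroup.mk'_surjective (Subgroup.center K))]
    · left
      have h1 := key _ inferInstance hNt
      rw [← Subgroup.map_comap_eq_self_of_surjective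
        (QuotientGroup.mk'_surjective (Subgroup.center K)) N, Subgroup.map_eq_bot_iff,
        QuotientGroup.ker_mk']
      exact h1

/-- A quasisimple group is nontrivial, and even not solvable. -/
theorem not_isSolvable_of_isQuasisimple {H : Type*} [Group H] (hH : Cfsg.IsQuasisimple H) :
    ¬ Group.IsSolvable H := by
  intro h
  have h1 := hH.1
  have h2 := hH.2
  have : Nontrivial H := by
    by_contra hn
    rw [not_nontrivial_iff_subsingleton] at hn
    have : Subsingleton (H ⧸ Subgroup.center H) := inferInstance
    exact not_nontrivial _ h2.toNontrivial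
  exact Group.IsPerfect.not_isSolvable H h

/-- The trivial subgroup is not a component. -/
theorem not_isComponent_of_isSolvable {K : Subgroup G} (hK : Group.IsSolvable K) :
    ¬ Cfsg.IsComponent K :=
  fun h => not_isSolvable_of_isQuasisimple h.2 hK

/-- The layer is trivial if and only if there is no component. -/
theorem layer_eq_bot_iff : Cfsg.layer G = ⊥ ↔ ∀ K : Subgroup G, ¬ Cfsg.IsComponent K := by
  constructor
  · intro h K hK
    have h1 : K ≤ Cfsg.layer G := le_sSup hK
    rw [h, le_bot_iff] at h1
    subst h1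
    exact not_isComponent_of_isSolvable inferInstance hK
  · intro h
    apply le_antisymm _ bot_le
    exact sSup_le (fun K hK => absurd hK (h K))

/-- If `G` is a finite group without components, then `C_G(F(G)) ≤ F(G)`. -/
theorem centralizer_fitting_le_of_layer_eq_bot [Finite G] (h : Cfsg.layer G = ⊥) :
    Subgroup.centralizer (Cfsg.fittingSubgroup G : Set G) ≤ Cfsg.fittingSubgroup G := by
  have := fittingSubgroup_normal G
  have hn : (Subgroup.centralizer (Cfsg.fittingSubgroup G : Set G)).Normal := inferInstance
  by_cases hs : Group.IsSolvable (Subgroup.centralizer (Cfsg.fittingSubgroup G : Set G))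
  · exact le_fitting_of_isSubnormal_of_isSolvable hn.isSubnormal hs le_rfl
  · obtain ⟨K, hK, _⟩ := exists_isComponent_le hn.isSubnormal hs le_rfl
    exact absurd hK (layer_eq_bot_iff.1 h K)

end

end Cfsg.Agent.SignalizersComponents.ComponentExists
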