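import Mathlib
import Cfsg.Agent.Lib.CoprimeCommutator
import Cfsg.Agent.Lib.CoprimeHyperplane
import Cfsg.Agent.SignalizersComponents.GoldschmidtGen
set_option linter.all false

set_option autoImplicit false

/-!
Generation of `[K, L]` by the `[C_K(B), L]` (coprime action, `K` solvable).
-/

namespace Cfsg.Agent.SignalizersComponents.CoprimeGen

open Subgroup
open scoped commutatorElement
open Cfsg.Agent.Lib.CoprimeCommutator
open Cfsg.Agent.SignalizersComponents.GoldschmidtGen (le_normalizer_of_conj_mem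
  conj_mem_of_le_normalizer le_normalizer_commutator le_normalizer_inf_centralizer le_normalizer_sup
  le_normalizer_of_commutator_le sup_commutator_ne)

variable {G : Type*} [Group G]

/-- The elements of `G` which normalise `M` and `Z` and act trivially on `Z / M`. -/
def actTriv (M Z : Subgroup G) : Subgroup G where
  carrier := {g | g ∈ normalizer (M : Set G) ∧ g ∈ normalizer (Z : Set G) ∧ ∀ z ∈ Z, ⁅g, z⁆ ∈ M}
  one_mem' := ⟨one_mem _, one_mem _, fun z _ => by simp⟩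
  mul_mem' := by
    rintro g h ⟨hg1, hg2, hg3⟩ ⟨hh1, hh2, hh3⟩
    refine ⟨mul_mem hg1 hh1, mul_mem hg2 hh2, fun z hz => ?_⟩
    have h1 : ⁅g * h, z⁆ = g * ⁅h, z⁆ * g⁻¹ * ⁅g, z⁆ := by
      simp only [commutatorElement_def]; group
    rw [h1]
    exact M.mul_mem ((mem_normalizer_iff.mp hg1 _).mp (hh3 z hz)) (hg3 z hz)
  inv_mem' := by
    rintro g ⟨hg1, hg2, hg3⟩
    refine ⟨inv_mem hg1, inv_mem hg2, fun z hz => ?_⟩
    have h1 : ⁅g⁻¹, z⁆ = g⁻¹ * ⁅g, z⁆⁻¹ * g⁻¹⁻¹ := by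
      simp only [commutatorElement_def]; group
    rw [h1]
    exact (mem_normalizer_iff.mp (inv_mem hg1) _).mp (M.inv_mem (hg3 z hz))

theorem mem_actTriv {M Z : Subgroup G} {g : G} :
    g ∈ actTriv M Z ↔ g ∈ normalizer (M : Set G) ∧ g ∈ normalizer (Z : Set G) ∧ ∀ z ∈ Z, ⁅g, z⁆ ∈ M :=
  Iff.rfl

theorem conj_mem_actTriv {M Z : Subgroup G} {g n : G} (hg : g ∈ actTriv M Z)
    (hn1 : n ∈ normalizer (M : Set G)) (hn2 : n ∈ normalizer (Z : Set G)) :
    n * g * n⁻¹ ∈ actTriv M Z := by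
  obtain ⟨hg1, hg2, hg3⟩ := hg
  refine ⟨mul_mem (mul_mem hn1 hg1) (inv_mem hn1), mul_mem (mul_mem hn2 hg2) (inv_mem hn2),
    fun z hz => ?_⟩
  have hz' : n⁻¹ * z * n⁻¹⁻¹ ∈ Z := (mem_normalizer_iff.mp (inv_mem hn2) _).mp hz
  have h1 : ⁅n * g * n⁻¹, z⁆ = n * ⁅g, n⁻¹ * z * n⁻¹⁻¹⁆ * n⁻¹ := by
    simp only [commutatorElement_def]; group
  rw [h1]
  exact (mem_normalizer_iff.mp hn1 _).mp (hg3 _ hz')

/-- If `L` acts trivially on `Z / M`, so does `⁅K, L⁆`. -/
theorem commutator_le_actTriv {M Z K L : Subgroup G} (hK1 : K ≤ normalizer (M : Set G))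
    (hK2 : K ≤ normalizer (Z : Set G)) (hL : L ≤ actTriv M Z) : ⁅K, L⁆ ≤ actTriv M Z := by
  rw [commutator_le]
  intro k hk l hl
  rw [commutatorElement_def]
  exact mul_mem (conj_mem_actTriv (hL hl) (hK1 hk) (hK2 hk)) (inv_mem (hL hl))

/-- **Coprime generation of commutators.** `A` is an abelian `p`-group acting on the solvable
`p'`-group `K`, `L ≤ A`, and `𝓑` a family of subgroups of `A` such that every `A`-invariant subgroup
`Z` of `K` is generated by the `C_Z(B)`. If `K = ⁅K, L⁆` then `K` is generated by the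
`⁅C_K(B), L⁆`. -/
theorem le_iSup_commutator_aux [Finite G] {A K L : Subgroup G}
    (𝓑 : Set (Subgroup G))
    (hcomm : ∀ a ∈ A, ∀ b ∈ A, a * b = b * a) (hLA : L ≤ A) (hKs : Group.IsSolvable K)
    (hAK : A ≤ normalizer (K : Set G))
    (h𝓑 : ∀ B ∈ 𝓑, B ≤ A)
    (hgen : ∀ Z ≤ K, A ≤ normalizer (Z : Set G) →
      Z ≤ ⨆ B : 𝓑, Z ⊓ centralizer ((B : Subgroup G) : Set G))
    (hKL : ⁅K, L⁆ = K) :
    ∀ (n : ℕ) (Z : Subgroup G), Nat.card Z = n → Z ≤ K → A ≤ normalizer (Z : Set G) →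
      K ≤ normalizer (Z : Set G) →
      K ≤ (⨆ B : 𝓑, ⁅K ⊓ centralizer ((B : Subgroup G) : Set G), L⁆) ⊔ Z →
      K ≤ ⨆ B : 𝓑, ⁅K ⊓ centralizer ((B : Subgroup G) : Set G), L⁆ := by
  set K₁ : Subgroup G := ⨆ B : 𝓑, ⁅K ⊓ centralizer ((B : Subgroup G) : Set G), L⁆ with hK₁
  have hK₁K : K₁ ≤ K := by
    rw [hK₁]
    refine iSup_le fun B => ?_
    conv_rhs => rw [← hKL]
    exact commutator_mono inf_le_left le_rfl
  have hAK₁ : A ≤ normalizer (K₁ : Set G) := by
    apply le_normalizer_of_conj_mem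
    intro a ha
    have h1 : K₁ ≤ K₁.comap (MulAut.conj a).toMonoidHom := by
      conv_lhs => rw [hK₁]
      refine iSup_le fun B => ?_
      rw [commutator_le]
      intro x hx l hl
      show a * ⁅x, l⁆ * a⁻¹ ∈ K₁
      have h2 : a * ⁅x, l⁆ * a⁻¹ = ⁅a * x * a⁻¹, a * l * a⁻¹⁆ := by
        simp only [commutatorElement_def]; group
      have h3 : a * l * a⁻¹ = l := by rw [hcomm a ha l (hLA hl)]; group
      rw [h2, h3]
      have h4 : A ≤ normalizer ((K ⊓ centralizer ((B : Subgroup G) : Set G) : Subgroup G) : Set G) :=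
        le_normalizer_inf_centralizer hAK fun a ha b hb => hcomm a ha b (h𝓑 B B.2 hb)
      exact (le_iSup (fun B : 𝓑 => ⁅K ⊓ centralizer ((B : Subgroup G) : Set G), L⁆) B)
        (commutator_mem_commutator (conj_mem_of_le_normalizer h4 ha hx) hl)
    exact fun x hx => h1 hx
  intro n
  induction n using Nat.strong_induction_on with
  | _ n ih =>
  intro Z hZn hZK hAZ hKZ hKle
  by_cases hZ1 : Z = ⊥
  · rw [hZ1, sup_bot_eq] at hKle
    exact hKle
  -- a maximal proper `AK`-invariant subgroup of `Z`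
  let S : Set (Subgroup G) := {M | M ≤ Z ∧ M ≠ Z ∧ A ≤ normalizer (M : Set G) ∧
    K ≤ normalizer (M : Set G)}
  have hbot : (⊥ : Subgroup G) ∈ S := by
    refine ⟨bot_le, fun h => hZ1 h.symm, ?_, ?_⟩ <;>
    · apply le_normalizer_of_conj_mem
      intro a _ x hx
      rw [mem_bot] at hx ⊢
      rw [hx]; group
  obtain ⟨M, hMmax⟩ := (Set.toFinite S).exists_maximal ⟨⊥, hbot⟩
  obtain ⟨hMZ, hMne, hAM, hKM⟩ := hMmax.1
  have hZs : Group.IsSolvable Z :=
    Group.isSolvable_of_isSolvable_injective (f := inclusion hZK) (inclusion_injective hZK)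
  have hZM : Z ≤ normalizer (M : Set G) := hZK.trans hKM
  -- conjugation invariance of the derived subgroup
  have hconj : ∀ {X : Subgroup G}, X ≤ normalizer (Z : Set G) →
      X ≤ normalizer ((⁅Z, Z⁆ : Subgroup G) : Set G) := by
    intro X hX
    apply le_normalizer_of_conj_mem
    intro a ha
    have h1 : ⁅Z, Z⁆ ≤ (⁅Z, Z⁆ : Subgroup G).comap (MulAut.conj a).toMonoidHom := by
      rw [commutator_le]
      intro y hy y' hy'
      show a * ⁅y, y'⁆ * a⁻¹ ∈ (⁅Z, Z⁆ : Subgroup G)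
      have h2 : a * ⁅y, y'⁆ * a⁻¹ = ⁅a * y * a⁻¹, a * y' * a⁻¹⁆ := by
        simp only [commutatorElement_def]; group
      rw [h2]
      exact commutator_mem_commutator (conj_mem_of_le_normalizer hX ha hy)
        (conj_mem_of_le_normalizer hX ha hy')
    exact fun x hx => h1 hx
  have hZZle : ⁅Z, Z⁆ ≤ Z := by
    rw [commutator_le]
    intro y hy y' hy'
    rw [commutatorElement_def]
    exact Z.mul_mem (Z.mul_mem (Z.mul_mem hy hy') (Z.inv_mem hy)) (Z.inv_mem hy')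
  have hZZ : ⁅Z, Z⁆ ≤ M := by
    have h1 : M ⊔ ⁅Z, Z⁆ ∈ S :=
      ⟨sup_le hMZ hZZle, sup_commutator_ne hZs hMZ hMne hZM,
        le_normalizer_sup hAM (hconj hAZ), le_normalizer_sup hKM (hconj hKZ)⟩
    exact le_sup_right.trans (hMmax.2 h1 le_sup_left)
  -- `M` is smaller
  have hMlt : Nat.card M < n := by
    rw [← hZn]
    have h1 : (M : Set G) ⊂ (Z : Set G) := SetLike.coe_ssubset_coe.mpr (lt_of_le_of_ne hMZ hMne)
    exact Set.ncard_lt_ncard h1 (Set.toFinite _)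
  refine ih _ hMlt M rfl (hMZ.trans hZK) hAM hKM ?_
  -- the intersection `T = K₁ M ∩ Z`
  set T : Subgroup G := (K₁ ⊔ M) ⊓ Z with hT
  have hK₁M : K₁ ≤ normalizer (M : Set G) := hK₁K.trans hKM
  have hMT : M ≤ T := le_inf le_sup_right hMZ
  have hAT : A ≤ normalizer (T : Set G) := by
    apply le_normalizer_of_conj_mem
    intro a ha x hx
    exact ⟨conj_mem_of_le_normalizer (le_normalizer_sup hAK₁ hAM) ha hx.1,
      conj_mem_of_le_normalizer hAZ ha hx.2⟩
  have hKT : K ≤ normalizer (T : Set G) := by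
    refine hKle.trans (sup_le ?_ ?_)
    · apply le_normalizer_of_conj_mem
      intro a ha x hx
      have h1 : K₁ ≤ normalizer ((K₁ ⊔ M : Subgroup G) : Set G) :=
        le_sup_left.trans (Subgroup.le_normalizer (H := K₁ ⊔ M))
      exact ⟨conj_mem_of_le_normalizer h1 ha hx.1, conj_mem_of_le_normalizer hKZ (hK₁K ha) hx.2⟩
    · exact le_normalizer_of_commutator_le inf_le_right (hZZ.trans hMT)
  by_cases hTZ : T = Z
  · refine hKle.trans (sup_le le_sup_left ?_)
    calc Z = T := hTZ.symm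
      _ ≤ K₁ ⊔ M := inf_le_left
  · have hTM : T ≤ M := hMmax.2 (⟨inf_le_right, hTZ, hAT, hKT⟩ : T ∈ S) hMT
    -- `L` acts trivially on `Z / M`
    have hLnM : L ≤ normalizer (M : Set G) := hLA.trans hAM
    have hLnZ : L ≤ normalizer (Z : Set G) := hLA.trans hAZ
    have hL : L ≤ actTriv M Z := by
      intro l hl
      refine ⟨hLnM hl, hLnZ hl, ?_⟩
      let X : Subgroup G :=
        { carrier := {z | z ∈ Z ∧ ⁅l, z⁆ ∈ M}
          one_mem' := ⟨one_mem _, by simp⟩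
          mul_mem' := by
            rintro x y ⟨hx, hx'⟩ ⟨hy, hy'⟩
            refine ⟨mul_mem hx hy, ?_⟩
            have h1 : ⁅l, x * y⁆ = ⁅l, x⁆ * (x * ⁅l, y⁆ * x⁻¹) := by
              simp only [commutatorElement_def]; group
            rw [h1]
            exact mul_mem hx' (conj_mem_of_le_normalizer hZM hx hy')
          inv_mem' := by
            rintro x ⟨hx, hx'⟩
            refine ⟨inv_mem hx, ?_⟩
            have h1 : ⁅l, x⁻¹⁆ = x⁻¹ * ⁅l, x⁆⁻¹ * x⁻¹⁻¹ := by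
              simp only [commutatorElement_def]; group
            rw [h1]
            exact conj_mem_of_le_normalizer hZM (Z.inv_mem hx) (M.inv_mem hx') }
      have hX : Z ≤ X := by
        refine (hgen Z hZK hAZ).trans (iSup_le fun B => ?_)
        rintro z ⟨hz, hzB⟩
        refine ⟨hz, hTM ⟨mem_sup_left ?_, ?_⟩⟩
        · have h1 : ⁅z, l⁆ ∈ K₁ :=
            (le_iSup (fun B : 𝓑 => ⁅K ⊓ centralizer ((B : Subgroup G) : Set G), L⁆) B)
              (commutator_mem_commutator ⟨hZK hz, hzB⟩ hl)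
          rw [← commutatorElement_inv]
          exact K₁.inv_mem h1
        · rw [commutatorElement_def]
          exact Z.mul_mem (conj_mem_of_le_normalizer hLnZ hl hz) (Z.inv_mem hz)
      exact fun z hz => (hX hz).2
    have hKact : K ≤ actTriv M Z := by
      conv_lhs => rw [← hKL]
      exact commutator_le_actTriv hKM hKZ hL
    -- `K = ⁅K, L⁆ ≤ K₁ M`
    conv_lhs => rw [← hKL]
    have hZT₁ : Z ≤ normalizer ((K₁ ⊔ M : Subgroup G) : Set G) := by
      apply le_normalizer_of_conj_mem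
      intro z hz
      have h1 : K₁ ⊔ M ≤ (K₁ ⊔ M).comap (MulAut.conj z).toMonoidHom := by
        refine sup_le (fun k hk => ?_) (fun m hm => ?_)
        · show z * k * z⁻¹ ∈ K₁ ⊔ M
          have h2 : z * k * z⁻¹ = ⁅k, z⁆⁻¹ * k := by
            simp only [commutatorElement_def]; group
          rw [h2]
          exact mul_mem (mem_sup_right (inv_mem ((hKact (hK₁K hk)).2.2 z hz))) (mem_sup_left hk)
        · exact mem_sup_right (conj_mem_of_le_normalizer hZM hz hm)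
      exact fun x hx => h1 hx
    have hKT₁ : K ≤ normalizer ((K₁ ⊔ M : Subgroup G) : Set G) :=
      hKle.trans (sup_le (le_sup_left.trans (Subgroup.le_normalizer (H := K₁ ⊔ M))) hZT₁)
    rw [commutator_le]
    intro k hk l hl
    obtain ⟨k₁, hk₁, z, hz, rfl⟩ :=
      (Cfsg.Agent.SignalizersComponents.CoprimeBasic.mem_sup_iff (X := Z) (Y := K₁)
        (hK₁K.trans hKZ) k).mp (by rw [sup_comm]; exact hKle hk)
    have h1 : ⁅k₁ * z, l⁆ = k₁ * ⁅z, l⁆ * k₁⁻¹ * ⁅k₁, l⁆ := by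
      simp only [commutatorElement_def]; group
    rw [h1]
    have h2 : k₁ ∈ Z := hk₁
    have h3 : z ∈ K₁ := hz
    -- here the order of the factors is `Z K₁`
    have h4 : ⁅k₁, l⁆ ∈ M := by
      have := (hL hl).2.2 k₁ h2
      rw [← commutatorElement_inv]
      exact inv_mem this
    have h5 : ⁅z, l⁆ ∈ K₁ := by
      rw [commutatorElement_def]
      have h6 : z * l * z⁻¹ * l⁻¹ = z * (l * z⁻¹ * l⁻¹) := by group
      rw [h6]
      exact mul_mem h3 (conj_mem_of_le_normalizer hAK₁ (hLA hl) (inv_mem h3))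
    exact mul_mem (conj_mem_of_le_normalizer hZT₁ h2 (mem_sup_left h5)) (mem_sup_right h4)

/-- **Coprime generation of commutators.** `A` an abelian `p`-group acting on the solvable
`p'`-group `K`, `L ≤ A`, `𝓑` a family of subgroups of `A` such that every `A`-invariant subgroup
`Z` of `K` is generated by the `C_Z(B)`, `B ∈ 𝓑`. Then `⁅K, L⁆` is generated by the
`⁅C_K(B), L⁆`. -/
theorem le_iSup_commutator [Finite G] {p : ℕ} [hp : Fact p.Prime] {A K L : Subgroup G}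
    (𝓑 : Set (Subgroup G)) (hA : IsPGroup p A)
    (hcomm : ∀ a ∈ A, ∀ b ∈ A, a * b = b * a) (hLA : L ≤ A) (hKs : Group.IsSolvable K)
    (hKp : ¬ p ∣ Nat.card K) (hAK : A ≤ normalizer (K : Set G))
    (h𝓑 : ∀ B ∈ 𝓑, B ≤ A)
    (hgen : ∀ Z ≤ K, A ≤ normalizer (Z : Set G) →
      Z ≤ ⨆ B : 𝓑, Z ⊓ centralizer ((B : Subgroup G) : Set G)) :
    ⁅K, L⁆ ≤ ⨆ B : 𝓑, ⁅K ⊓ centralizer ((B : Subgroup G) : Set G), L⁆ := by
  have hLK : L ≤ normalizer (K : Set G) := hLA.trans hAK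
  have hK'K : ⁅K, L⁆ ≤ K := commutator_le_left hLK
  have hAK' : A ≤ normalizer ((⁅K, L⁆ : Subgroup G) : Set G) :=
    le_normalizer_commutator hAK fun a ha b hb => hcomm a ha b (hLA hb)
  have hcop : (Nat.card L).Coprime (Nat.card K) := by
    obtain ⟨k, hk⟩ := (hA.to_le hLA).exists_card_eq
    rw [hk]
    apply Nat.Coprime.pow_left
    rw [hp.out.coprime_iff_not_dvd]
    exact hKp
  have hs : Group.IsSolvable ↥(⁅K, L⁆ : Subgroup G) :=
    Group.isSolvable_of_isSolvable_injective (f := inclusion hK'K) (inclusion_injective hK'K)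
  refine (le_iSup_commutator_aux (K := ⁅K, L⁆) 𝓑 hcomm hLA hs hAK' h𝓑
    (fun Z hZ hAZ => hgen Z (hZ.trans hK'K) hAZ)
    (commutator_commutator_eq L K hLK hcop) _ ⁅K, L⁆ rfl le_rfl hAK' Subgroup.le_normalizer
    le_sup_right).trans ?_
  exact iSup_mono fun B => commutator_mono (inf_le_inf_right _ hK'K) le_rfl

theorem isPGroup_of_isElementaryAbelian {p : ℕ} {A : Subgroup G} (hA : Cfsg.IsElementaryAbelian p A) :
    IsPGroup p A := fun a => ⟨1, by
  apply Subtype.ext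
  simpa using hA.2 a a.2⟩

theorem comm_of_isElementaryAbelian {p : ℕ} {A : Subgroup G} (hA : Cfsg.IsElementaryAbelian p A) :
    ∀ a ∈ A, ∀ b ∈ A, a * b = b * a := fun a ha b hb =>
  congrArg Subtype.val (hA.1.is_comm.comm (⟨a, ha⟩ : A) ⟨b, hb⟩)

theorem isElementaryAbelian_mono {p : ℕ} {A B : Subgroup G} (hA : Cfsg.IsElementaryAbelian p A)
    (hB : B ≤ A) : Cfsg.IsElementaryAbelian p B := by
  refine ⟨⟨⟨fun x y => ?_⟩⟩, fun a ha => hA.2 a (hB ha)⟩
  exact Subtype.ext (comm_of_isElementaryAbelian hA x (hB x.2) y (hB y.2))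

theorem ne_bot_of_pow_le {p : ℕ} [hp : Fact p.Prime] {A : Subgroup G} {n : ℕ} (hn : n ≠ 0)
    (hA : p ^ n ≤ Nat.card A) : A ≠ ⊥ := by
  rintro rfl
  rw [Subgroup.card_bot] at hA
  have := Nat.one_lt_pow (n := n) hn hp.out.one_lt
  omega

/-- Generation by the centralizers of the nontrivial elements of a noncyclic subgroup. -/
theorem le_iSup_centralizer_ne_one [Finite G] {p : ℕ} [hp : Fact p.Prime] {A Z : Subgroup G}
    (hA : Cfsg.IsElementaryAbelian p A) (hA2 : p ^ 2 ≤ Nat.card A) (hZ : ¬ p ∣ Nat.card Z)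
    (hAZ : A ≤ normalizer (Z : Set G)) :
    Z ≤ ⨆ a : {a : G // a ∈ A ∧ a ≠ 1}, Z ⊓ centralizer {(a : G)} := by
  have hA1 : A ≠ ⊥ := ne_bot_of_pow_le two_ne_zero hA2
  conv_lhs => rw [← Cfsg.Agent.Lib.CoprimeHyperplane.iSup_centralizer_hyperplane hA hA1 hZ hAZ]
  refine iSup_le fun B => ?_
  have hB1 : (B : Subgroup G) ≠ ⊥ := by
    intro h
    have h1 := B.2.2
    rw [h, Subgroup.relIndex_bot_left] at h1
    rw [h1] at hA2
    have h2 : p ^ 1 < p ^ 2 := Nat.pow_lt_pow_right hp.out.one_lt (by norm_num)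
    rw [pow_one] at h2
    omega
  obtain ⟨b, hb, hb1⟩ := B.1.bot_or_exists_ne_one.resolve_left hB1
  refine le_trans ?_ (le_iSup (fun a : {a : G // a ∈ A ∧ a ≠ 1} => Z ⊓ centralizer {(a : G)})
    ⟨b, B.2.1 hb, hb1⟩)
  refine inf_le_inf_left _ (centralizer_le ?_)
  intro x hx
  rw [Set.mem_singleton_iff] at hx
  rw [hx]
  exact hb

theorem centralizer_zpowers (a : G) :
    centralizer ((zpowers a : Subgroup G) : Set G) = centralizer {a} := by
  rw [Subgroup.zpowers_eq_closure, Subgroup.centralizer_closure]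

/-- `⁅K, L⁆` is generated by the `⁅C_K(b), L⁆`, `1 ≠ b ∈ B`, for `B ≤ A` noncyclic. -/
theorem commutator_le_iSup_ne_one [Finite G] {p : ℕ} [hp : Fact p.Prime] {A B K L : Subgroup G}
    (hA : Cfsg.IsElementaryAbelian p A) (hBA : B ≤ A) (hB2 : p ^ 2 ≤ Nat.card B) (hLA : L ≤ A)
    (hKs : Group.IsSolvable K) (hKp : ¬ p ∣ Nat.card K) (hAK : A ≤ normalizer (K : Set G)) :
    ⁅K, L⁆ ≤ ⨆ b : {b : G // b ∈ B ∧ b ≠ 1}, ⁅K ⊓ centralizer {(b : G)}, L⁆ := by
  refine (le_iSup_commutator (p := p) (A := A) (K := K) (L := L)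
    {X | ∃ b : G, b ∈ B ∧ b ≠ 1 ∧ X = zpowers b}
    (isPGroup_of_isElementaryAbelian hA) (comm_of_isElementaryAbelian hA) hLA hKs hKp hAK ?_ ?_).trans ?_
  · rintro X ⟨b, hb, -, rfl⟩
    rw [zpowers_le]
    exact hBA hb
  · intro Z hZ hAZ
    refine (le_iSup_centralizer_ne_one (isElementaryAbelian_mono hA hBA) hB2
      (fun h => hKp (h.trans (card_dvd_of_le hZ))) (hBA.trans hAZ)).trans (iSup_le fun b => ?_)
    refine le_trans (le_of_eq ?_) (le_iSup (fun X : {X : Subgroup G | ∃ b : G, b ∈ B ∧ b ≠ 1 ∧ X = zpowers b} =>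
      Z ⊓ centralizer ((X : Subgroup G) : Set G)) ⟨zpowers b.1, b.1, b.2.1, b.2.2, rfl⟩)
    rw [centralizer_zpowers]
  · refine iSup_le fun X => ?_
    obtain ⟨X, b, hb, hb1, rfl⟩ := X
    refine le_trans (le_of_eq ?_) (le_iSup (fun b : {b : G // b ∈ B ∧ b ≠ 1} =>
      ⁅K ⊓ centralizer {(b : G)}, L⁆) ⟨b, hb, hb1⟩)
    rw [centralizer_zpowers]

/-- `⁅K, L⁆` is generated by the `⁅C_K(B), L⁆`, `B` a hyperplane of `A`. -/
theorem commutator_le_iSup_hyperplane [Finite G] {p : ℕ} [hp : Fact p.Prime] {A K L : Subgroup G}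
    (hA : Cfsg.IsElementaryAbelian p A) (hA1 : A ≠ ⊥) (hLA : L ≤ A)
    (hKs : Group.IsSolvable K) (hKp : ¬ p ∣ Nat.card K) (hAK : A ≤ normalizer (K : Set G)) :
    ⁅K, L⁆ ≤ ⨆ B : {B : Subgroup G // B ≤ A ∧ B.relIndex A = p},
      ⁅K ⊓ centralizer ((B : Subgroup G) : Set G), L⁆ := by
  refine (le_iSup_commutator (p := p) (A := A) (K := K) (L := L)
    {B | B ≤ A ∧ B.relIndex A = p}
    (isPGroup_of_isElementaryAbelian hA) (comm_of_isElementaryAbelian hA) hLA hKs hKp hAK ?_ ?_)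
  · rintro X ⟨h, -⟩
    exact h
  · intro Z hZ hAZ
    exact (Cfsg.Agent.Lib.CoprimeHyperplane.iSup_centralizer_hyperplane hA hA1
      (fun h => hKp (h.trans (card_dvd_of_le hZ))) hAZ).ge

end Cfsg.Agent.SignalizersComponents.CoprimeGen
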