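import Mathlib
import Cfsg.Prelude.Def_OddOrderLocal
import Cfsg.Agent.SignalizersComponents.InvariantHall
import Cfsg.Agent.SignalizersComponents.CoprimeFix
import Cfsg.Agent.SignalizersComponents.GoldschmidtGen
import Cfsg.Agent.OddOrderLocal.FitCores
import Cfsg.Agent.OddOrderLocal.MetacyclicCoprime
import Cfsg.Agent.OddOrderLocal.Thm34
set_option linter.all false

set_option autoImplicit false
set_option linter.unusedSectionVars false

/-!
The local-to-global lemma: `K` solvable of order prime to `r`, `a` an element of order `r` normalising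
`K`, `H ≤ K` normalised by `a` and containing `C_K(a)`. Then `⁅O_π(H), a⁆ ≤ O_π(K)`, provided `π`-groups
satisfy the condition `NoFixed r π` (true for `r = 2`).
-/

namespace Cfsg.Agent.SignalizersComponents.LocalGlobal

open Subgroup
open scoped commutatorElement
open Cfsg (piCoreOf)
open Cfsg.Agent.OddOrderLocal.PiCoreOf
open Cfsg.Agent.SignalizersComponents.InvariantHall
open Cfsg.Agent.SignalizersComponents.GoldschmidtGen (le_normalizer_of_conj_mem
  conj_mem_of_le_normalizer le_normalizer_sup)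

universe u

/-- The linear input: if an element `a` of order `r` (prime) acts without nontrivial fixed points on
the `s`-group `V`, `s ∉ π`, and `X` is a solvable `π`-group of order prime to `r` acting on `V`,
normalised by `a`, then `⁅X, a⁆` centralises `V`. -/
def NoFixed (r : ℕ) (π : Set ℕ) : Prop :=
  ∀ (G : Type u) [Group G] [Finite G] (V X : Subgroup G) (a : G) (s : ℕ), s.Prime → s ∉ π → s ≠ r →
    IsPGroup s V → Group.IsSolvable X → PiNum π X → ¬ r ∣ Nat.card X → a ^ r = 1 →
    a ∈ normalizer (V : Set G) → a ∈ normalizer (X : Set G) → X ≤ normalizer (V : Set G) →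
    V ⊓ centralizer {a} = ⊥ → ⁅X, zpowers a⁆ ≤ centralizer (V : Set G)

section basic

variable {G : Type u} [Group G]

theorem isPGroup_zpowers_of_pow {r : ℕ} {a : G} (ha : a ^ r = 1) : IsPGroup r (zpowers a) := by
  rintro ⟨z, hz⟩
  obtain ⟨n, rfl⟩ := mem_zpowers_iff.mp hz
  refine ⟨1, Subtype.ext ?_⟩
  show (a ^ n) ^ r ^ 1 = 1
  rw [pow_one, ← zpow_natCast, ← zpow_mul, mul_comm, zpow_mul, zpow_natCast, ha, one_zpow]

theorem centralizer_zpowers_eq (a : G) :
    centralizer ((zpowers a : Subgroup G) : Set G) = centralizer {a} := by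
  apply le_antisymm
  · exact centralizer_le (by simp)
  · intro x hx
    rw [mem_centralizer_iff] at hx ⊢
    intro y hy
    obtain ⟨n, rfl⟩ := mem_zpowers_iff.mp hy
    have h : Commute a x := hx a (by simp)
    exact (h.zpow_left n).eq

/-- coprime orders from `PiNum`. -/
theorem coprime_of_piNum [Finite G] {π : Set ℕ} {s : ℕ} (hs : s.Prime) (hsπ : s ∉ π)
    {X V : Subgroup G} (hX : PiNum π X) (hV : IsPGroup s V) :
    (Nat.card X).Coprime (Nat.card V) := by
  have : Fact s.Prime := ⟨hs⟩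
  have hV' : PiNum {s} V := piNum_of_isPGroup hV (Set.mem_singleton s)
  refine Nat.Coprime.symm (Nat.coprime_of_dvd' fun q hq hqV hqX => ?_)
  exfalso
  have h1 := hV' q hq hqV
  rw [Set.mem_singleton_iff] at h1
  exact hsπ (h1 ▸ hX q hq hqX)

end basic

/-- Type-level core: `U = ⁅U, X⁆` normal, `X = ⁅X, a⁆`, `C_U(a) ≤ C(X)` forces `U = 1`. -/
theorem eq_bot_of_normal {r : ℕ} [hr : Fact r.Prime] {π : Set ℕ} (hNF : NoFixed.{u} r π)
    {G : Type u} [Group G] [Finite G] {U X : Subgroup G} [hUn : U.Normal] {a : G} {s : ℕ}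
    (hs : s.Prime) (hsπ : s ∉ π) (hsr : s ≠ r) (hU : IsPGroup s U) (hXs : Group.IsSolvable X)
    (hX : PiNum π X) (hrX : ¬ r ∣ Nat.card X) (ha : a ^ r = 1) (haX : a ∈ normalizer (X : Set G))
    (hXa : ⁅X, zpowers a⁆ = X) (hUX : ⁅U, X⁆ = U)
    (hfix : U ⊓ centralizer {a} ≤ centralizer (X : Set G)) : U = ⊥ := by
  have : Fact s.Prime := ⟨hs⟩
  set N : Subgroup G := ⁅U, U⁆ with hN
  set f := QuotientGroup.mk' N with hf
  have hUr : ¬ r ∣ Nat.card U := by
    obtain ⟨n, hn⟩ := IsPGroup.iff_card.mp hU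
    rw [hn]
    intro h
    exact hsr ((Nat.prime_dvd_prime_iff_eq hr.out hs).mp (hr.out.dvd_of_dvd_pow h)).symm
  have hcopX : (Nat.card X).Coprime s := by
    rw [Nat.coprime_comm, hs.coprime_iff_not_dvd]
    intro h
    exact hsπ (hX s hs h)
  -- no fixed points on `U / ⁅U, U⁆`
  have hfree : U.map f ⊓ centralizer {f a} = ⊥ := by
    rw [eq_bot_iff]
    have h1 := CoprimeFix.map_inf_centralizer_le (zpowers a) (isPGroup_zpowers_of_pow ha) U hUr
      (fun b _ v hv => hUn.conj_mem v hv b) N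
    rw [← hf] at h1
    rw [MonoidHom.map_zpowers, centralizer_zpowers_eq, centralizer_zpowers_eq] at h1
    refine h1.trans ?_
    rintro _ ⟨u, ⟨huU, hua⟩, rfl⟩
    have h2 : u ∈ centralizer (X : Set G) := hfix ⟨huU, hua⟩
    have h3 : u ∈ N := Cfsg.Agent.OddOrderLocal.MetacyclicCoprime.mem_of_fixed_mod U X N le_rfl hU
      hcopX hUX huU fun x hx => by
        have h4 : ⁅u, x⁆ = 1 := by
          rw [commutatorElement_eq_one_iff_mul_comm]
          exact (mem_centralizer_iff.mp h2 x hx).symm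
        rw [h4]
        exact one_mem _
    rw [mem_bot]
    exact (QuotientGroup.eq_one_iff u).mpr h3
  have hXf : X.map f = ⁅X.map f, zpowers (f a)⁆ := by
    conv_lhs => rw [← hXa]
    rw [map_commutator, MonoidHom.map_zpowers]
  have hcent := hNF (G ⧸ N) (U.map f) (X.map f) (f a) s hs hsπ hsr (hU.map f)
    (Group.isSolvable_of_surjective (f.subgroupMap_surjective X)) (hX.map f)
    (fun h => hrX (h.trans (Subgroup.card_map_dvd X f))) (by rw [← map_pow, ha, map_one])
    (by
      have : (U.map f).Normal := hUn.map f (QuotientGroup.mk'_surjective N)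
      exact le_normalizer_of_normal (K := ⊤) (mem_top _))
    (by
      have h1 := le_normalizer_map f (H := X) ⟨a, haX, rfl⟩
      exact h1)
    (by
      have : (U.map f).Normal := hUn.map f (QuotientGroup.mk'_surjective N)
      exact le_normalizer_of_normal)
    hfree
  rw [← hXf] at hcent
  have hle : U ≤ ⁅U, U⁆ := by
    conv_lhs => rw [← hUX]
    have h1 : ⁅U.map f, X.map f⁆ = ⊥ := by
      rw [commutator_comm, commutator_eq_bot_iff_le_centralizer]
      exact hcent
    rw [← map_commutator, eq_bot_iff, map_le_iff_le_comap] at h1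
    intro x hx
    exact (QuotientGroup.eq_one_iff x).mp (h1 hx)
  by_contra hne
  have hUs : Group.IsSolvable U := by
    have := hU.isNilpotent
    infer_instance
  have h1 := GoldschmidtGen.sup_commutator_ne hUs bot_le (fun h => hne h.symm)
    (le_normalizer_of_conj_mem fun a _ x hx => by
      rw [mem_bot] at hx ⊢; rw [hx]; group)
  apply h1
  rw [bot_sup_eq]
  exact le_antisymm (commutator_le_left U U) hle

/-- Ambient form: `X = ⁅X, a⁆` acting on the `s`-group `V` with `C_V(a) ≤ C(X)` centralises `V`. -/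
theorem le_centralizer_of_fixed {r : ℕ} [hr : Fact r.Prime] {π : Set ℕ} (hNF : NoFixed.{u} r π)
    {G : Type u} [Group G] [Finite G] {V X : Subgroup G} {a : G} {s : ℕ}
    (hs : s.Prime) (hsπ : s ∉ π) (hsr : s ≠ r) (hV : IsPGroup s V) (hXs : Group.IsSolvable X)
    (hX : PiNum π X) (hrX : ¬ r ∣ Nat.card X) (ha : a ^ r = 1) (haX : a ∈ normalizer (X : Set G))
    (haV : a ∈ normalizer (V : Set G)) (hXV : X ≤ normalizer (V : Set G))
    (hXa : ⁅X, zpowers a⁆ = X) (hfix : V ⊓ centralizer {a} ≤ centralizer (X : Set G)) :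
    X ≤ centralizer (V : Set G) := by
  set U : Subgroup G := ⁅V, X⁆ with hUdef
  have hUV : U ≤ V := Cfsg.Agent.Lib.CoprimeCommutator.commutator_le_left hXV
  have hUX : ⁅U, X⁆ = U := Cfsg.Agent.Lib.CoprimeCommutator.commutator_commutator_eq X V hXV
    (coprime_of_piNum hs hsπ hX hV)
  have hXU : X ≤ normalizer (U : Set G) :=
    Cfsg.Agent.Lib.CoprimeCommutator.right_le_normalizer_commutator V X
  have haU : a ∈ normalizer (U : Set G) := by
    have h1 : zpowers a ≤ normalizer (U : Set G) := by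
      apply le_normalizer_of_conj_mem
      intro b hb
      have hbX : b ∈ normalizer (X : Set G) := by
        have : zpowers a ≤ normalizer (X : Set G) := by rwa [zpowers_le]
        exact this hb
      have hbV : b ∈ normalizer (V : Set G) := by
        have : zpowers a ≤ normalizer (V : Set G) := by rwa [zpowers_le]
        exact this hb
      have h2 : U.map (MulAut.conj b).toMonoidHom = U := by
        rw [hUdef, map_commutator, map_conj_eq hbX, map_conj_eq hbV]
      intro u hu
      rw [← h2]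
      exact ⟨u, hu, rfl⟩
    exact h1 (mem_zpowers a)
  -- pass to the normalizer of `U`
  set P : Subgroup G := normalizer (U : Set G) with hP
  have hUP : U ≤ P := le_normalizer
  have hUn : (U.subgroupOf P).Normal := normal_subgroupOf_of_le_normalizer le_rfl
  have hinj := P.subtype_injective
  have hmapU : (U.subgroupOf P).map P.subtype = U := map_subgroupOf_eq_of_le hUP
  have hmapX : (X.subgroupOf P).map P.subtype = X := map_subgroupOf_eq_of_le hXU
  have hcardX : Nat.card (X.subgroupOf P) = Nat.card X := by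
    rw [← Subgroup.card_map_of_injective hinj, hmapX]
  have hbot : U.subgroupOf P = ⊥ := by
    refine eq_bot_of_normal (X := X.subgroupOf P) (a := (⟨a, haU⟩ : P)) hNF hs hsπ hsr ?_ ?_ ?_ ?_
      ?_ ?_ ?_ ?_ ?_
    · exact (hV.to_le hUV).of_equiv (subgroupOfEquivOfLe hUP).symm
    · have := hXs
      exact Group.isSolvable_of_surjective (f := (subgroupOfEquivOfLe hXU).symm.toMonoidHom)
        (subgroupOfEquivOfLe hXU).symm.surjective
    · intro q hq hd
      rw [hcardX] at hd
      exact hX q hq hd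
    · rwa [hcardX]
    · exact Subtype.ext ha
    · rw [mem_normalizer_iff]
      rintro ⟨x, hx⟩
      exact mem_normalizer_iff.mp haX x
    · apply map_injective hinj
      rw [map_commutator, MonoidHom.map_zpowers, hmapX]
      exact hXa
    · apply map_injective hinj
      rw [map_commutator, hmapU, hmapX]
      exact hUX
    · rintro ⟨u, huP⟩ ⟨huU, hua⟩
      rw [mem_centralizer_iff]
      rintro ⟨x, hxP⟩ hx
      have h1 : u ∈ centralizer (X : Set G) := by
        refine hfix ⟨hUV huU, ?_⟩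
        change u ∈ centralizer {a}
        rw [mem_centralizer_iff]
        intro y hy
        rw [Set.mem_singleton_iff.mp hy]
        exact congrArg Subtype.val (mem_centralizer_iff.mp hua ⟨a, haU⟩ rfl)
      exact Subtype.ext (mem_centralizer_iff.mp h1 x hx)
  have hU1 : U = ⊥ := by rw [← hmapU, hbot, Subgroup.map_bot]
  rw [le_centralizer_iff]
  rw [hUdef] at hU1
  exact commutator_eq_bot_iff_le_centralizer.mp hU1

section core

variable {G : Type u} [Group G] [Finite G]

/-- `O_π` commutes with injective homomorphisms. -/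
theorem piCoreOf_map_injective {H : Type*} [Group H] [Finite H] (f : G →* H)
    (hf : Function.Injective f) (π : Set ℕ) (K : Subgroup G) :
    piCoreOf π (K.map f) = (piCoreOf π K).map f := by
  apply le_antisymm
  · set Y : Subgroup G := (piCoreOf π (K.map f)).comap f with hY
    have hYf : Y.map f = piCoreOf π (K.map f) := by
      apply map_comap_eq_self
      refine (piCoreOf_le π _).trans ?_
      exact map_le_range f K
    have hYK : Y ≤ K := by
      intro y hy
      obtain ⟨k, hk, hky⟩ := piCoreOf_le π _ (show f y ∈ piCoreOf π (K.map f) from hy)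
      rwa [← hf hky]
    have h1 : Y ≤ piCoreOf π K := by
      refine le_piCoreOf hYK ?_ ?_
      · apply le_normalizer_of_conj_mem
        intro k hk y hy
        show f (k * y * k⁻¹) ∈ piCoreOf π (K.map f)
        rw [map_mul, map_mul, map_inv]
        exact conj_mem_of_le_normalizer (le_normalizer_piCoreOf π (K.map f)) ⟨k, hk, rfl⟩ hy
      · intro q hq hd
        have h2 : Nat.card Y = Nat.card (Y.map f) := (Subgroup.card_map_of_injective hf).symm
        rw [h2, hYf] at hd
        exact piCoreOf_isPi π _ q hq hd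
    rw [← hYf]
    exact map_mono h1
  · refine le_piCoreOf (map_mono (piCoreOf_le π K)) ?_ (isPi_map (piCoreOf_isPi π K) f)
    apply le_normalizer_of_conj_mem
    rintro _ ⟨k, hk, rfl⟩ _ ⟨y, hy, rfl⟩
    exact ⟨k * y * k⁻¹, conj_mem_of_le_normalizer (le_normalizer_piCoreOf π K) hk hy, by simp⟩

/-- `O_π(K)` is the intersection of the `O_{q'}(K)`, `q ∉ π`. -/
theorem le_piCoreOf_of_forall {π : Set ℕ} {X K : Subgroup G} (hXK : X ≤ K)
    (h : ∀ q : ℕ, q.Prime → q ∉ π → q ∣ Nat.card K → X ≤ piCoreOf {q}ᶜ K) : X ≤ piCoreOf π K := by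
  let F : {q : ℕ // q.Prime ∧ q ∉ π ∧ q ∣ Nat.card K} → Subgroup G := fun q => piCoreOf {(q : ℕ)}ᶜ K
  have hXY : X ≤ K ⊓ iInf F := le_inf hXK (le_iInf fun q => h q.1 q.2.1 q.2.2.1 q.2.2.2)
  refine hXY.trans (le_piCoreOf inf_le_left ?_ ?_)
  · apply le_normalizer_of_conj_mem
    rintro k hk y ⟨hy1, hy2⟩
    refine ⟨K.mul_mem (K.mul_mem hk hy1) (K.inv_mem hk), ?_⟩
    have hy2' : y ∈ iInf F := hy2
    show k * y * k⁻¹ ∈ iInf F
    rw [Subgroup.mem_iInf] at hy2' ⊢
    exact fun q => conj_mem_of_le_normalizer (le_normalizer_piCoreOf _ K) hk (hy2' q)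
  · intro q hq hd
    by_contra hqπ
    have hqK : q ∣ Nat.card K := hd.trans (card_dvd_of_le inf_le_left)
    have h1 : K ⊓ iInf F ≤ piCoreOf {q}ᶜ K := inf_le_right.trans (iInf_le F ⟨q, hq, hqπ, hqK⟩)
    exact piCoreOf_isPi {q}ᶜ K q hq (hd.trans (card_dvd_of_le h1)) rfl

/-- `C_K(O_s(K)) ≤ O_s(K)` for `K` solvable with `O_{s'}(K) = 1`. -/
theorem inf_centralizer_piCoreOf_le {K : Subgroup G} (hK : Group.IsSolvable K) {s : ℕ}
    (hs : s.Prime) (h1 : piCoreOf {s}ᶜ K = ⊥) :
    K ⊓ centralizer (piCoreOf {s} K : Set G) ≤ piCoreOf {s} K := by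
  have hF : Cfsg.fittingOf K = piCoreOf {s} K := by
    apply le_antisymm _ (Cfsg.Agent.OddOrderLocal.FitCores.piCoreOf_singleton_le_fittingOf hs K)
    rw [Cfsg.Agent.OddOrderLocal.FitCores.fittingOf_le_iff]
    intro q hq
    by_cases hqs : q = s
    · rw [hqs]
    · have h2 : piCoreOf {q} K ≤ piCoreOf {s}ᶜ K := by
        refine le_piCoreOf (piCoreOf_le _ K) (le_normalizer_piCoreOf _ K) fun t ht hd => ?_
        have h3 := piCoreOf_isPi {q} K t ht hd
        rw [Set.mem_singleton_iff] at h3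
        rw [h3]
        exact hqs
      rw [h1] at h2
      exact h2.trans bot_le
  have h2 := Cfsg.Agent.OddOrderLocal.FitCores.inf_centralizer_fittingOf_le hK
  rwa [hF] at h2

end core

/-- The local-to-global lemma, `K` normal. -/
theorem main_normal {r : ℕ} [hr : Fact r.Prime] {π : Set ℕ} (hNF : NoFixed.{u} r π)
    {G : Type u} [Group G] [Finite G] {K H : Subgroup G} [hKn : K.Normal] {a : G}
    (hKs : Group.IsSolvable K) (hrK : ¬ r ∣ Nat.card K) (ha : a ^ r = 1) (hHK : H ≤ K)
    (haH : a ∈ normalizer (H : Set G)) (hfix : K ⊓ centralizer {a} ≤ H) :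
    ⁅piCoreOf π H, zpowers a⁆ ≤ piCoreOf π K := by
  have haH' : zpowers a ≤ normalizer (H : Set G) := by rwa [zpowers_le]
  have haO : zpowers a ≤ normalizer (piCoreOf π H : Set G) :=
    haH'.trans (normalizer_le_normalizer_piCoreOf π H)
  set X : Subgroup G := ⁅piCoreOf π H, zpowers a⁆ with hXdef
  have hXO : X ≤ piCoreOf π H := Cfsg.Agent.Lib.CoprimeCommutator.commutator_le_left haO
  have hXH : X ≤ H := hXO.trans (piCoreOf_le π H)
  have hXπ : PiNum π X := PiNum.mono (Y := piCoreOf π H) (piCoreOf_isPi π H) hXO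
  have hXK : X ≤ K := hXH.trans hHK
  have hrX : ¬ r ∣ Nat.card X := fun h => hrK (h.trans (card_dvd_of_le hXK))
  have hXs : Group.IsSolvable X := by
    have := hKs
    exact Group.isSolvable_of_isSolvable_injective (Subgroup.inclusion_injective hXK)
  have hXa : ⁅X, zpowers a⁆ = X := by
    apply Cfsg.Agent.Lib.CoprimeCommutator.commutator_commutator_eq _ _ haO
    have h1 : IsPGroup r (zpowers a) := isPGroup_zpowers_of_pow ha
    obtain ⟨n, hn⟩ := IsPGroup.iff_card.mp h1
    rw [hn]
    apply Nat.Coprime.pow_left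
    rw [hr.out.coprime_iff_not_dvd]
    exact fun h => hrK (h.trans (card_dvd_of_le ((piCoreOf_le π H).trans hHK)))
  have haX : a ∈ normalizer (X : Set G) := by
    have h1 : zpowers a ≤ normalizer (X : Set G) :=
      Cfsg.Agent.Lib.CoprimeCommutator.right_le_normalizer_commutator _ _
    exact h1 (mem_zpowers a)
  refine le_piCoreOf_of_forall hXK fun s hs hsπ hsK => ?_
  have hsr : s ≠ r := by rintro rfl; exact hrK hsK
  -- the quotient by `N = O_{s'}(K)`
  set N : Subgroup G := piCoreOf {s}ᶜ K with hN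
  have hNK : N ≤ K := piCoreOf_le _ K
  have hNn : N.Normal := by
    rw [← normalizer_eq_top_iff, eq_top_iff]
    have h1 : normalizer (K : Set G) = ⊤ := normalizer_eq_top_iff.mpr hKn
    rw [← h1]
    exact normalizer_le_normalizer_piCoreOf _ K
  set f := QuotientGroup.mk' N with hf
  have hfs : Function.Surjective f := QuotientGroup.mk'_surjective N
  have hKfn : (K.map f).Normal := hKn.map f hfs
  have hKfs : Group.IsSolvable (K.map f) := by
    have := hKs
    exact Group.isSolvable_of_surjective (f.subgroupMap_surjective K)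
  have hKN : (K.map f).comap f = K := by
    rw [comap_map_eq, QuotientGroup.ker_mk', sup_eq_left.mpr hNK]
  have hcore : piCoreOf {s}ᶜ (K.map f) = ⊥ := by
    set Y : Subgroup G := (piCoreOf {s}ᶜ (K.map f)).comap f with hY
    have hYK : Y ≤ K := by
      rw [← hKN]
      exact comap_mono (piCoreOf_le _ _)
    have hYN : Y ≤ N := by
      refine le_piCoreOf hYK ?_ ?_
      · apply le_normalizer_of_conj_mem
        intro k hk y hy
        show f (k * y * k⁻¹) ∈ piCoreOf {s}ᶜ (K.map f)
        rw [map_mul, map_mul, map_inv]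
        exact conj_mem_of_le_normalizer (le_normalizer_piCoreOf _ (K.map f)) ⟨k, hk, rfl⟩ hy
      · intro q hq hd
        have h2 : Nat.card Y = Nat.card (piCoreOf {s}ᶜ (K.map f)) * Nat.card N :=
          Cfsg.Agent.Solvable.Hall.card_comap_mk N _
        rw [h2] at hd
        rcases hq.dvd_mul.mp hd with h | h
        · exact piCoreOf_isPi _ _ q hq h
        · exact piCoreOf_isPi _ _ q hq h
    have h2 : Y.map f = piCoreOf {s}ᶜ (K.map f) := map_comap_eq_self_of_surjective hfs _
    rw [← h2, eq_bot_iff, map_le_iff_le_comap, MonoidHom.comap_bot,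
      QuotientGroup.ker_mk']
    exact hYN
  set V : Subgroup (G ⧸ N) := piCoreOf {s} (K.map f) with hV
  have hVp : IsPGroup s V := (isPi_singleton_iff hs V).mp (piCoreOf_isPi _ _)
  have hVn : V.Normal := by
    rw [← normalizer_eq_top_iff, eq_top_iff]
    have h1 : normalizer (K.map f : Set (G ⧸ N)) = ⊤ := normalizer_eq_top_iff.mpr hKfn
    rw [← h1]
    exact normalizer_le_normalizer_piCoreOf _ _
  have hVK : V ≤ K.map f := piCoreOf_le _ _
  have hXfV : X.map f ≤ centralizer (V : Set (G ⧸ N)) := by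
    refine le_centralizer_of_fixed hNF (a := f a) hs hsπ hsr hVp ?_ (hXπ.map f)
      (fun h => hrX (h.trans (Subgroup.card_map_dvd X f))) (by rw [← map_pow, ha, map_one])
      (le_normalizer_map f (H := X) ⟨a, haX, rfl⟩) ?_ ?_ ?_ ?_
    · have := hXs
      exact Group.isSolvable_of_surjective (f.subgroupMap_surjective X)
    · exact le_normalizer_of_normal (K := ⊤) (mem_top _)
    · exact le_normalizer_of_normal
    · rw [← MonoidHom.map_zpowers, ← map_commutator, hXa]
    · -- `C_V(a)` lies in the image of `H`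
      have h1 := CoprimeFix.map_inf_centralizer_le (zpowers a) (isPGroup_zpowers_of_pow ha)
        (V.comap f) (fun h => hrK (h.trans (card_dvd_of_le (by
          rw [← hKN]; exact comap_mono hVK))))
        (fun b _ v hv => (hVn.comap f).conj_mem v hv b) N
      rw [← hf, map_comap_eq_self_of_surjective hfs, MonoidHom.map_zpowers,
        centralizer_zpowers_eq, centralizer_zpowers_eq] at h1
      intro z hz
      obtain ⟨v, ⟨hvV, hva⟩, rfl⟩ := h1 hz
      have hvH : v ∈ H := by
        refine hfix ⟨?_, hva⟩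
        have : v ∈ (K.map f).comap f := comap_mono hVK hvV
        rwa [hKN] at this
      rw [mem_centralizer_iff]
      rintro _ ⟨x, hx, rfl⟩
      -- the commutator lies in `V` and in the image of `O_π(H)`
      have h2 : f x * f v * (f x)⁻¹ * (f v)⁻¹ ∈ V ⊓ (piCoreOf π H).map f := by
        refine ⟨?_, ?_⟩
        · exact V.mul_mem (hVn.conj_mem _ hvV _) (V.inv_mem hvV)
        · refine ⟨x * (v * x⁻¹ * v⁻¹), ?_, by simp [mul_assoc]⟩
          exact (piCoreOf π H).mul_mem (hXO hx)
            (conj_mem_of_le_normalizer (le_normalizer_piCoreOf π H) hvH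
              ((piCoreOf π H).inv_mem (hXO hx)))
      have h3 : V ⊓ (piCoreOf π H).map f = ⊥ := by
        have : Fact s.Prime := ⟨hs⟩
        refine PiNum.inf_eq_bot (ρ := {s}) (σ := π) (piNum_of_isPGroup hVp (Set.mem_singleton s))
          (PiNum.map (piCoreOf_isPi π H) f) ?_
        rintro q hq
        rw [Set.mem_singleton_iff.mp hq]
        exact hsπ
      rw [h3, mem_bot] at h2
      have h4 := mul_inv_eq_one.mp h2
      exact mul_inv_eq_iff_eq_mul.mp h4
  have hXfbot : X.map f = ⊥ := by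
    have h1 : X.map f ≤ V := (le_inf (map_mono hXK) hXfV).trans
      (inf_centralizer_piCoreOf_le hKfs hs hcore)
    have : Fact s.Prime := ⟨hs⟩
    have h2 := PiNum.inf_eq_bot (ρ := {s}) (σ := π) (X := V) (Y := X.map f)
      (piNum_of_isPGroup hVp (Set.mem_singleton s)) (hXπ.map f) (by
        rintro q hq
        rw [Set.mem_singleton_iff.mp hq]
        exact hsπ)
    rwa [inf_eq_right.mpr h1] at h2
  rw [eq_bot_iff, map_le_iff_le_comap, MonoidHom.comap_bot, QuotientGroup.ker_mk'] at hXfbot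
  exact hXfbot

/-- **The local-to-global lemma.** -/
theorem main {r : ℕ} [hr : Fact r.Prime] {π : Set ℕ} (hNF : NoFixed.{u} r π)
    {G : Type u} [Group G] [Finite G] {K H : Subgroup G} {a : G}
    (hKs : Group.IsSolvable K) (hrK : ¬ r ∣ Nat.card K) (ha : a ^ r = 1)
    (haK : a ∈ normalizer (K : Set G)) (hHK : H ≤ K)
    (haH : a ∈ normalizer (H : Set G)) (hfix : K ⊓ centralizer {a} ≤ H) :
    ⁅piCoreOf π H, zpowers a⁆ ≤ piCoreOf π K := by
  set P : Subgroup G := normalizer (K : Set G) with hP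
  have hKP : K ≤ P := le_normalizer
  have hKn : (K.subgroupOf P).Normal := normal_subgroupOf_of_le_normalizer le_rfl
  have hinj := P.subtype_injective
  have hmapK : (K.subgroupOf P).map P.subtype = K := map_subgroupOf_eq_of_le hKP
  have hmapH : (H.subgroupOf P).map P.subtype = H := map_subgroupOf_eq_of_le (hHK.trans hKP)
  have h1 : ⁅piCoreOf π (H.subgroupOf P), zpowers (⟨a, haK⟩ : P)⁆ ≤ piCoreOf π (K.subgroupOf P) := by
    refine main_normal hNF ?_ ?_ ?_ ?_ ?_ ?_
    · have := hKs
      exact Group.isSolvable_of_surjective (f := (subgroupOfEquivOfLe hKP).symm.toMonoidHom)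
        (subgroupOfEquivOfLe hKP).symm.surjective
    · rwa [← Subgroup.card_map_of_injective hinj, hmapK]
    · exact Subtype.ext ha
    · exact fun x hx => hHK hx
    · rw [mem_normalizer_iff]
      rintro ⟨x, hx⟩
      exact mem_normalizer_iff.mp haH x
    · rintro ⟨u, huP⟩ ⟨huK, hua⟩
      refine hfix ⟨huK, ?_⟩
      change u ∈ centralizer {a}
      rw [mem_centralizer_iff]
      intro y hy
      rw [Set.mem_singleton_iff.mp hy]
      exact congrArg Subtype.val (mem_centralizer_iff.mp hua ⟨a, haK⟩ rfl)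
  have h2 := map_mono (f := P.subtype) h1
  rw [map_commutator, MonoidHom.map_zpowers, ← piCoreOf_map_injective _ hinj,
    ← piCoreOf_map_injective _ hinj, hmapK, hmapH] at h2
  exact h2

/-- `NoFixed` holds for `r = 2`: the element inverts the group. -/
theorem noFixed_two (π : Set ℕ) : NoFixed.{u} 2 π := by
  intro G _ _ V X a s hs hsπ hs2 hV hXs hX h2X ha haV haX hXV hfree
  have : Fact s.Prime := ⟨hs⟩
  have hV2 : Odd (Nat.card V) := by
    obtain ⟨n, hn⟩ := IsPGroup.iff_card.mp hV
    rw [hn]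
    exact (hs.odd_of_ne_two hs2).pow
  have haa : a * a = 1 := by rw [← pow_two, ha]
  have hainv : a⁻¹ = a := inv_eq_of_mul_eq_one_left haa
  -- `a` inverts `V`: the map `v ↦ v⁻¹ * a v a⁻¹` is injective, hence bijective on `V`
  have hconj : ∀ v ∈ V, a * v * a⁻¹ ∈ V := fun v hv => (mem_normalizer_iff.mp haV v).mp hv
  let φ : V → V := fun v => ⟨(v : G)⁻¹ * (a * v * a⁻¹), V.mul_mem (V.inv_mem v.2) (hconj v v.2)⟩
  have hφ : Function.Injective φ := by
    intro v w h
    have h1 : (v : G)⁻¹ * (a * v * a⁻¹) = (w : G)⁻¹ * (a * w * a⁻¹) := congrArg Subtype.val h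
    have h2 : (w : G) * (v : G)⁻¹ ∈ V ⊓ centralizer {a} := by
      refine ⟨V.mul_mem w.2 (V.inv_mem v.2), ?_⟩
      change (w : G) * (v : G)⁻¹ ∈ centralizer {a}
      rw [mem_centralizer_iff]
      intro y hy
      rw [Set.mem_singleton_iff.mp hy]
      have h3 : (w : G) * (v : G)⁻¹ = (a * w * a⁻¹) * (a * v * a⁻¹)⁻¹ := by
        have h4 : (w : G) * ((v : G)⁻¹ * (a * v * a⁻¹)) = a * w * a⁻¹ := by
          rw [h1]; group
        rw [← h4]; group
      calc a * ((w : G) * (v : G)⁻¹) = (a * w * a⁻¹) * (a * v * a⁻¹)⁻¹ * a := by group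
        _ = (w : G) * (v : G)⁻¹ * a := by rw [← h3]
    rw [hfree, mem_bot] at h2
    exact Subtype.ext (mul_inv_eq_one.mp h2).symm
  have hsur : Function.Surjective φ := Finite.surjective_of_injective hφ
  have hinvV : ∀ v ∈ V, a * v * a⁻¹ = v⁻¹ := by
    intro v hv
    obtain ⟨w, hw⟩ := hsur ⟨v, hv⟩
    have h1 : v = (w : G)⁻¹ * (a * w * a⁻¹) := (congrArg Subtype.val hw).symm
    rw [h1, hainv]
    calc a * ((w : G)⁻¹ * (a * w * a)) * a = (a * (w : G)⁻¹ * a) * w * (a * a) := by group
      _ = (a * (w : G)⁻¹ * a) * w := by rw [haa, mul_one]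
      _ = (a⁻¹ * (w : G)⁻¹ * a⁻¹) * w := by rw [hainv]
      _ = ((w : G)⁻¹ * (a * w * a))⁻¹ := by group
  rw [commutator_le]
  intro x hx b hb
  have hcomm : ∀ c ∈ zpowers a, c = 1 ∨ c = a := by
    intro c hc
    obtain ⟨n, rfl⟩ := mem_zpowers_iff.mp hc
    have h2 : a ^ (2 : ℤ) = 1 := by rw [← haa]; exact zpow_two a
    rcases Int.even_or_odd' n with ⟨k, hk | hk⟩
    · left
      rw [hk, zpow_mul, h2, one_zpow]
    · right
      rw [hk, zpow_add, zpow_mul, h2, one_zpow, one_mul, zpow_one]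
  rw [mem_centralizer_iff]
  intro v hv
  rcases hcomm b hb with rfl | rfl
  · simp
  · have hxv : x⁻¹ * v * x ∈ V := by
      have := (mem_normalizer_iff.mp (hXV (X.inv_mem hx)) v).mp hv
      rwa [inv_inv] at this
    have h1 : b * (x⁻¹ * v * x) * b⁻¹ = (x⁻¹ * v * x)⁻¹ := hinvV _ hxv
    have h2 : b * v * b⁻¹ = v⁻¹ := hinvV _ hv
    -- conjugation by `⁅x, b⁆` fixes `v`
    have h3 : b⁻¹ * v * b = v⁻¹ := by
      rw [hainv] at h2 ⊢
      exact h2
    have h5 : ⁅x, b⁆⁻¹ * v * ⁅x, b⁆ = v := by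
      rw [commutatorElement_def]
      have h6 : (x * b * x⁻¹ * b⁻¹)⁻¹ * v * (x * b * x⁻¹ * b⁻¹) =
          b * (x * (b⁻¹ * (x⁻¹ * v * x) * b) * x⁻¹) * b⁻¹ := by group
      have h7 : b⁻¹ * (x⁻¹ * v * x) * b = (x⁻¹ * v * x)⁻¹ := by
        rw [hainv] at h1 ⊢
        exact h1
      rw [h6, h7]
      have h8 : x * (x⁻¹ * v * x)⁻¹ * x⁻¹ = v⁻¹ := by group
      rw [h8]
      have h9 : b * v⁻¹ * b⁻¹ = (b * v * b⁻¹)⁻¹ := by group
      rw [h9, h2, inv_inv]
    calc v * ⁅x, b⁆ = ⁅x, b⁆ * (⁅x, b⁆⁻¹ * v * ⁅x, b⁆) := by group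
      _ = ⁅x, b⁆ * v := by rw [h5]

/-- `NoFixed` holds for `r` odd and `2 ∉ π` (Bender-Glauberman Theorem 3.4). -/
theorem noFixed_odd {r : ℕ} (hr : r.Prime) (hr2 : r ≠ 2) {π : Set ℕ} (h2 : 2 ∉ π) :
    NoFixed.{u} r π := by
  intro G _ _ V X a s hs hsπ hsr hV hXs hX hrX ha haV haX hXV hfree
  by_cases ha1 : a = 1
  · rw [ha1]
    simp
  have : Fact s.Prime := ⟨hs⟩
  have : Fact r.Prime := ⟨hr⟩
  have hcard : Nat.card (zpowers a) = r := by
    rw [Nat.card_zpowers]
    exact orderOf_eq_prime ha ha1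
  have hVr : ¬ r ∣ Nat.card V := by
    obtain ⟨n, hn⟩ := IsPGroup.iff_card.mp hV
    rw [hn]
    intro h
    exact hsr ((Nat.prime_dvd_prime_iff_eq hr hs).mp (hr.dvd_of_dvd_pow h)).symm
  refine Cfsg.Agent.OddOrderLocal.Thm34.commutator_le_centralizer_of_fixedFree X (zpowers a) V hXs ?_
    (by rw [hcard]; exact hr) (by rw [hcard]; exact hr2) (by rwa [zpowers_le]) ?_ hXV
    (by rwa [zpowers_le]) ?_ ?_ ?_ ?_
  · rw [← Nat.not_even_iff_odd, even_iff_two_dvd]
    exact fun h => h2 (hX 2 Nat.prime_two h)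
  · rw [hcard, Nat.coprime_comm, hr.coprime_iff_not_dvd]
    exact hrX
  · have := hV.isNilpotent
    infer_instance
  · exact (coprime_of_piNum hs hsπ hX hV).symm
  · rw [hcard, Nat.coprime_comm, hr.coprime_iff_not_dvd]
    exact hVr
  · rw [centralizer_zpowers_eq]
    exact hfree

/-- The local-to-global lemma for `r = 2`, unconditional. -/
theorem main_two {π : Set ℕ} {G : Type u} [Group G] [Finite G] {K H : Subgroup G} {a : G}
    (hKs : Group.IsSolvable K) (hK : ¬ 2 ∣ Nat.card K) (ha : a ^ 2 = 1)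
    (haK : a ∈ normalizer (K : Set G)) (hHK : H ≤ K)
    (haH : a ∈ normalizer (H : Set G)) (hfix : K ⊓ centralizer {a} ≤ H) :
    ⁅piCoreOf π H, zpowers a⁆ ≤ piCoreOf π K :=
  main (noFixed_two π) hKs hK ha haK hHK haH hfix

end Cfsg.Agent.SignalizersComponents.LocalGlobal
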