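import Mathlib
import Cfsg.Prelude.Def_Balance
import Cfsg.Agent.SignalizersComponents.MinCounterBasic
import Cfsg.Agent.SignalizersComponents.SignalizerMax
import Cfsg.Agent.Lib.ThompsonPQ
import Cfsg.Agent.OddOrderLocal.SylIn
import Cfsg.Prelude.Def_OddOrderLocal
import Cfsg.Agent.OddOrderLocal.UniqZL
import Cfsg.Agent.Lib.PSolvable
import Cfsg.Agent.PLocal.StableClosure
import Cfsg.Agent.S0622
import Cfsg.Agent.S0627
set_option linter.all false

-- part: SignalizersComponents/RadicalEnd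
section
set_option autoImplicit false
set_option linter.unusedSectionVars false

/-!
The final steps (8), (9) of the radical proof of the solvable signalizer functor theorem, as an
abstract statement about a `p`-member `W` with `W ∩ K ≤ O_p(K)` for all members `K`.
-/

namespace Cfsg.Agent.SignalizersComponents.RadicalEnd

open Subgroup
open scoped commutatorElement
open Cfsg.Agent.SignalizersComponents.GoldschmidtGen (le_normalizer_of_conj_mem
  conj_mem_of_le_normalizer le_normalizer_inf_centralizer)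
open Cfsg.Agent.SignalizersComponents.CoprimeGen
open Cfsg.Agent.SignalizersComponents.FunctorTools
open Cfsg.Agent.SignalizersComponents.FunctorInduction
open Cfsg.Agent.SignalizersComponents.MinCounterBasic
open Cfsg.Agent.SignalizersComponents.SignalizerMax (IsMaxQ)

section gen

variable {G : Type*} [Group G]

theorem centralizer_zpowers_eq' (a : G) :
    centralizer ((zpowers a : Subgroup G) : Set G) = centralizer {a} := by
  apply le_antisymm
  · exact centralizer_le (by simp)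
  · intro x hx
    rw [mem_centralizer_iff] at hx ⊢
    intro y hy
    obtain ⟨n, rfl⟩ := mem_zpowers_iff.mp hy
    have h : Commute a x := hx a (by simp)
    exact (h.zpow_left n).eq

/-- `N_G(X) ≤ N_G(C_G(X))`. -/
theorem normalizer_le_normalizer_centralizer (X : Subgroup G) :
    normalizer (X : Set G) ≤ normalizer ((centralizer (X : Set G) : Subgroup G) : Set G) := by
  apply le_normalizer_of_conj_mem
  intro g hg c hc
  rw [mem_centralizer_iff] at hc ⊢
  intro x hx
  have h1 : g⁻¹ * x * g ∈ X := by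
    have := (mem_normalizer_iff.mp (inv_mem hg) x).mp hx
    rwa [inv_inv] at this
  have h2 := hc _ h1
  calc x * (g * c * g⁻¹) = g * ((g⁻¹ * x * g) * c) * g⁻¹ := by group
    _ = g * (c * (g⁻¹ * x * g)) * g⁻¹ := by rw [h2]
    _ = g * c * g⁻¹ * x := by group

theorem le_normalizer_inf' {H X Y : Subgroup G} (hX : H ≤ normalizer (X : Set G))
    (hY : H ≤ normalizer (Y : Set G)) : H ≤ normalizer ((X ⊓ Y : Subgroup G) : Set G) :=
  le_normalizer_of_conj_mem fun _ ha _ hx =>
    ⟨conj_mem_of_le_normalizer hX ha hx.1, conj_mem_of_le_normalizer hY ha hx.2⟩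

end gen

variable {G : Type*} [Group G] [Finite G] {r : ℕ} [hr : Fact r.Prime] {A : Subgroup G}
  {θ : G → Subgroup G}

/-- Every `C`-invariant `p`-member lies in every maximal `p`-member. -/
theorem le_of_isMaxQ (hA : Cfsg.IsElementaryAbelian r A) (hA3 : r ^ 3 ≤ Nat.card A)
    (hθ : Cfsg.IsSolvableSignalizerFunctor r A θ) {p : ℕ} [hp : Fact p.Prime] {W P : Subgroup G}
    (hW : W ∈ Cfsg.signalizerFamily r A θ) (hWp : IsPGroup p W)
    (hWC : Cfsg.signalizerInf A θ ≤ normalizer (W : Set G)) (hP : IsMaxQ r A θ p P) : W ≤ P := by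
  obtain ⟨P₀, hP₀, hWP₀⟩ := SignalizerMax.exists_isMaxQ_ge hW hWp
  obtain ⟨c, hc, hcP⟩ := SignalizerMax.transitivity hA hA3 hθ hP₀ hP
  have h1 : W.map (MulAut.conj c).toMonoidHom = W :=
    Subgroup.mem_normalizer_iff_map_conj_eq.mp (hWC hc)
  rw [← hcP, ← h1]
  exact map_mono hWP₀

/-- **Steps (8), (9)**. -/
theorem false_of_bad (h : MinCounter r A θ) {a : G} (ha : a ∈ A) (ha1 : a ≠ 1) {p : ℕ}
    [hp : Fact p.Prime] {W : Subgroup G} (hW : W ∈ Cfsg.signalizerFamily r A θ)
    (hWp : IsPGroup p W) (hWC : Cfsg.signalizerInf A θ ≤ normalizer (W : Set G))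
    (h2 : ∀ K ∈ Cfsg.signalizerFamily r A θ, W ⊓ K ≤ Op p K)
    (h3 : ∀ K ∈ Cfsg.signalizerFamily r A θ, θ a ≤ K → ⁅Op p K, zpowers a⁆ ≤ W)
    (h4 : ∀ K ∈ Cfsg.signalizerFamily r A θ, θ a ≤ K → Opp p K ≤ centralizer {a})
    (h6 : ∀ K ∈ Cfsg.signalizerFamily r A θ, θ a ≤ K → ¬ W ≤ K)
    (h7 : ∃ K ∈ Cfsg.signalizerFamily r A θ, θ a ≤ K ∧ ⁅Op p K, zpowers a⁆ ≠ ⊥)
    (hΞ : ∀ K ∈ Cfsg.signalizerFamily r A θ, θ a ≤ K → Opp p K = ⊥ → ∀ S : Subgroup G,
      Cfsg.Agent.OddOrderLocal.SylIn.IsSyl p S K → S ≠ ⊥ → ∃ Z : Subgroup G, Z ≤ S ∧ Z ≠ ⊥ ∧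
        normalizer (S : Set G) ≤ normalizer (Z : Set G) ∧ K ≤ normalizer (Z : Set G)) :
    False := by
  have hA := h.elem
  have hcomm := comm_of_isElementaryAbelian hA
  have hA2 := MinCounter.pow_two_le h
  have hA3 : r ^ 3 ≤ Nat.card A := h.card.ge
  have hAW := le_normalizer_of_mem hW
  have haA : zpowers a ≤ A := by rwa [zpowers_le]
  have hap : IsPGroup r (zpowers a) := (isPGroup_of_isElementaryAbelian hA).to_le haA
  have hθa := SignalizerMax.theta_mem_family h.func ha ha1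
  -- the subgroup `E`
  set E : Subgroup G := ⨆ K : {K : Subgroup G // K ∈ Cfsg.signalizerFamily r A θ ∧ θ a ≤ K},
    ⁅Op p K.1, zpowers a⁆ with hE
  have hEK : ∀ K ∈ Cfsg.signalizerFamily r A θ, θ a ≤ K → ⁅Op p K, zpowers a⁆ ≤ E :=
    fun K hK hK' => le_iSup (fun K : {K : Subgroup G // K ∈ Cfsg.signalizerFamily r A θ ∧ θ a ≤ K} =>
      ⁅Op p K.1, zpowers a⁆) ⟨K, hK, hK'⟩
  have hEW : E ≤ W := iSup_le fun K => h3 K.1 K.2.1 K.2.2
  have hAE : A ≤ normalizer (E : Set G) := by
    refine iSup_le_normalizer _ fun K => ?_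
    exact GoldschmidtGen.le_normalizer_commutator
      ((le_normalizer_of_mem K.2.1).trans normalizer_le_normalizer_Op)
      fun x hx l hl => hcomm x hx l (haA hl)
  have hEm : E ∈ Cfsg.signalizerFamily r A θ := mem_of_le hW hEW hAE
  have hE1 : E ≠ ⊥ := by
    obtain ⟨K, hK, hK', hne⟩ := h7
    intro hbot
    exact hne (le_bot_iff.mp (hbot ▸ hEK K hK hK'))
  have hθE : θ a ≤ normalizer (E : Set G) := by
    refine iSup_le_normalizer _ fun K => ?_
    refine GoldschmidtGen.le_normalizer_commutator (K.2.2.trans le_normalizer_Op) ?_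
    intro x hx l hl
    have h8 : x ∈ centralizer ((zpowers a : Subgroup G) : Set G) := by
      rw [centralizer_zpowers_eq']; exact h.func.1.1 a ha ha1 hx
    exact (mem_centralizer_iff.mp h8 l hl).symm
  -- the member `M`
  set M : Subgroup G := loc A θ E with hM
  have hMm : M ∈ Cfsg.signalizerFamily r A θ := MinCounter.loc_mem h hEm hE1
  have hθM : θ a ≤ M := MinCounter.le_loc h hθa hθE
  have hEM : E ≤ M := MinCounter.le_loc h hEm le_normalizer
  have hCW : ∀ K ∈ Cfsg.signalizerFamily r A θ, K ⊓ centralizer {a} ≤ θ a := fun K hK =>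
    hK.2.2.2 a ha ha1
  -- `W ∩ K ≤ W ∩ M` for all members `K ≥ θ a`
  have hWK : ∀ K ∈ Cfsg.signalizerFamily r A θ, θ a ≤ K → W ⊓ K ≤ W ⊓ M := by
    intro K hK hK' x hx
    have hKm : W ⊓ K ∈ Cfsg.signalizerFamily r A θ := inf_mem hW (le_normalizer_of_mem hK)
    obtain ⟨m, hm, c, hc, rfl⟩ :=
      Cfsg.Agent.Lib.CoprimeCommutator.exists_commutator_mul_fixed_of_isPGroup r (zpowers a) (W ⊓ K)
        hap (haA.trans (le_normalizer_of_mem hKm)) hKm.2.1 x hx
    refine ⟨hx.1, mul_mem (hEM ?_) (hθM ?_)⟩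
    · exact hEK K hK hK' (commutator_mono (h2 K hK) le_rfl hm)
    · refine hCW W hW ⟨hc.1.1, ?_⟩
      have := hc.2
      rw [centralizer_zpowers_eq'] at this
      exact this
  -- step (8')
  have hOM : Opp p M = ⊥ := by
    by_contra hB1
    set B : Subgroup G := Opp p M with hB
    have hBm : B ∈ Cfsg.signalizerFamily r A θ := Opp_mem hMm p
    set Wa : Subgroup G := W ⊓ M with hWa
    have hWam : Wa ∈ Cfsg.signalizerFamily r A θ := inf_mem hW (le_normalizer_of_mem hMm)
    have hEWa : E ≤ Wa := le_inf hEW hEM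
    have hWa1 : Wa ≠ ⊥ := fun hbot => hE1 (le_bot_iff.mp (hbot ▸ hEWa))
    have hWaO : Wa ≤ Op p M := h2 M hMm
    have hWap : IsPGroup p Wa := hWp.to_le inf_le_left
    have hWalt : Wa < W := lt_of_le_of_ne inf_le_left fun heq =>
      h6 M hMm hθM (inf_eq_left.mp heq)
    have hBWa : B ≤ centralizer (Wa : Set G) := Opp_le_centralizer_Op.trans (centralizer_le hWaO)
    set H : Subgroup G := loc A θ Wa with hH
    have hHm : H ∈ Cfsg.signalizerFamily r A θ := MinCounter.loc_mem h hWam hWa1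
    have hAWa := le_normalizer_of_mem hWam
    set R : Subgroup G := W ⊓ normalizer (Wa : Set G) with hR
    have hRm : R ∈ Cfsg.signalizerFamily r A θ :=
      inf_mem hW ((hAWa).trans le_normalizer)
    have hRgt : Wa < R := Cfsg.Agent.OddOrderLocal.SylIn.exists_normalizing_gt hWp hWalt
    have hRH : R ≤ H := MinCounter.le_loc h hRm inf_le_right
    set T : Subgroup G := Op p H with hT
    have hTm : T ∈ Cfsg.signalizerFamily r A θ := Op_mem hHm p
    have hRT : R ≤ T := (le_inf inf_le_left hRH).trans (h2 H hHm)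
    have hBH : B ≤ H := MinCounter.le_loc h hBm (hBWa.trans (centralizer_le_normalizer' Wa))
    have hBT : B ≤ normalizer (T : Set G) := hBH.trans le_normalizer_Op
    -- the centralizer of `Wa` in `T`
    set D : Subgroup G := T ⊓ centralizer (Wa : Set G) with hD
    have hDm : D ∈ Cfsg.signalizerFamily r A θ :=
      inf_mem hTm (hAWa.trans (normalizer_le_normalizer_centralizer Wa))
    have hDM : D ≤ M := by
      refine MinCounter.le_loc h hDm ?_
      exact (inf_le_right.trans (centralizer_le hEWa)).trans (centralizer_le_normalizer' E)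
    have hDp : IsPGroup p D := isPGroup_Op.to_le inf_le_left
    have hBD : B ≤ centralizer (D : Set G) := by
      refine le_centralizer_of_normalize ?_ ?_ ?_
      · exact le_normalizer_inf' hBT
          ((hBWa.trans (centralizer_le_normalizer' Wa)).trans
            (normalizer_le_normalizer_centralizer Wa))
      · exact hDM.trans le_normalizer_Opp
      · exact MinCounterBasic.inf_eq_bot_of_coprime (coprime_of_isPGroup' coprime_Opp hDp)
    -- `A × B` lemma
    have hBTc : B ≤ centralizer (T : Set G) := by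
      refine Cfsg.Agent.Lib.ThompsonPQ.thompson_p_times_q p Wa B T hWap coprime_Opp isPGroup_Op
        (Subgroup.le_centralizer_iff.mp hBWa) (hRgt.le.trans (hRT.trans le_normalizer)) hBT ?_
      exact Subgroup.le_centralizer_iff.mp hBD
    set K : Subgroup G := loc A θ B with hK
    have hKm : K ∈ Cfsg.signalizerFamily r A θ := MinCounter.loc_mem h hBm hB1
    have hθK : θ a ≤ K := MinCounter.le_loc h hθa (hθM.trans le_normalizer_Opp)
    have hRK : R ≤ K := MinCounter.le_loc h hRm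
      ((hRT.trans (Subgroup.le_centralizer_iff.mp hBTc)).trans (centralizer_le_normalizer' B))
    have h8 : R ≤ Wa := (le_inf inf_le_left hRK).trans (hWK K hKm hθK)
    exact absurd h8 (not_le_of_gt hRgt)
  -- `O_{p'}(K) = 1` for all members `K ≥ θ a`, `K ≥ E`
  have hOK : ∀ K ∈ Cfsg.signalizerFamily r A θ, θ a ≤ K → E ≤ K → Opp p K = ⊥ := by
    intro K hK hθK hEK'
    set B : Subgroup G := Opp p K with hB
    have hBθ : B ≤ θ a := (le_inf Opp_le (h4 K hK hθK)).trans (hCW K hK)
    have hBO : B ≤ Opp p (θ a) := le_Opp hBθ coprime_Opp (hθK.trans le_normalizer_Opp)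
    have hBE : B ≤ centralizer (E : Set G) :=
      Opp_le_centralizer_Op.trans (centralizer_le ((le_inf hEW hEK').trans (h2 K hK)))
    have hBM : B ≤ M := hBθ.trans hθM
    have hBQ : B ≤ centralizer (Op p M : Set G) := by
      rw [Subgroup.le_centralizer_iff]
      intro x hx
      have hQm := Op_mem hMm p
      obtain ⟨m, hm, c, hc, rfl⟩ :=
        Cfsg.Agent.Lib.CoprimeCommutator.exists_commutator_mul_fixed_of_isPGroup r (zpowers a)
          (Op p M) hap (haA.trans (le_normalizer_of_mem hQm)) hQm.2.1 x hx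
      have hcθ : c ∈ θ a := by
        refine hCW _ hQm ⟨hc.1, ?_⟩
        have := hc.2
        rw [centralizer_zpowers_eq'] at this
        exact this
      have hcO : c ∈ Op p (θ a) := Op_inf_le hθM ⟨hc.1, hcθ⟩
      refine mul_mem ?_ ?_
      · exact (Subgroup.le_centralizer_iff.mp hBE) (hEK M hMm hθM hm)
      · exact centralizer_le hBO (Op_le_centralizer_Opp hcO)
    have h8 : B ≤ Op p M := (le_inf hBM hBQ).trans (centralizer_inf_le_Op hMm.1 hOM)
    have h9 := MinCounterBasic.inf_eq_bot_of_coprime (X := B) (Y := Op p M)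
      (coprime_of_isPGroup' coprime_Opp isPGroup_Op)
    rwa [inf_eq_left.mpr h8] at h9
  -- step (9)
  obtain ⟨K, -, ⟨⟨hKm, hθK, hEK'⟩, hKmax⟩⟩ :=
    (Set.toFinite {K : Subgroup G | K ∈ Cfsg.signalizerFamily r A θ ∧ θ a ≤ K ∧ E ≤ K}).exists_le_maximal
      (⟨hMm, hθM, hEM⟩ : M ∈ {K : Subgroup G | K ∈ Cfsg.signalizerFamily r A θ ∧ θ a ≤ K ∧ E ≤ K})
  obtain ⟨S, ⟨T, hTS⟩, hAS⟩ := Cfsg.Agent.Lib.PGroupCoprimeAction.exists_invariant_sylow
    (isPGroup_of_isElementaryAbelian hA) hKm.2.1 hKm.2.2.1 p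
  have hSyl : Cfsg.Agent.OddOrderLocal.SylIn.IsSyl p S K := by
    rw [← hTS]; exact Cfsg.Agent.OddOrderLocal.SylIn.isSyl_of_sylow T
  have hAS' : A ≤ normalizer (S : Set G) := le_normalizer_of_conj_mem hAS
  have hSm : S ∈ Cfsg.signalizerFamily r A θ := mem_of_le hKm hSyl.le hAS'
  have hS1 : S ≠ ⊥ := by
    intro hbot
    have h8 := hSyl.card_dvd hEK' (hWp.to_le hEW)
    rw [hbot, Subgroup.card_bot] at h8
    exact hE1 (Subgroup.card_eq_one.mp (Nat.dvd_one.mp h8))
  obtain ⟨Z, hZS, hZ1, hnZ, hKZ⟩ := hΞ K hKm hθK (hOK K hKm hθK hEK') S hSyl hS1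
  have hZm : Z ∈ Cfsg.signalizerFamily r A θ := mem_of_le hSm hZS (hAS'.trans hnZ)
  have hLm := MinCounter.loc_mem h hZm hZ1
  have hKL : K ≤ loc A θ Z := MinCounter.le_loc h hKm hKZ
  have hLK : loc A θ Z ≤ K := hKmax ⟨hLm, hθK.trans hKL, hEK'.trans hKL⟩ hKL
  obtain ⟨P, hP, hSP⟩ := SignalizerMax.exists_isMaxQ_ge hSm hSyl.isPGroup
  have hWP : W ≤ P := le_of_isMaxQ hA hA3 h.func hW hWp hWC hP
  by_cases hSP' : S = P
  · exact h6 K hKm hθK (hWP.trans (hSP' ▸ hSyl.le))
  · have hlt : S < P := lt_of_le_of_ne hSP hSP'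
    have hgt := Cfsg.Agent.OddOrderLocal.SylIn.exists_normalizing_gt hP.2.1 hlt
    have hNm : P ⊓ normalizer (S : Set G) ∈ Cfsg.signalizerFamily r A θ :=
      inf_mem hP.1 (hAS'.trans le_normalizer)
    have hNK : P ⊓ normalizer (S : Set G) ≤ K :=
      (MinCounter.le_loc h hNm (inf_le_right.trans hnZ)).trans hLK
    have h8 := hSyl.card_le hNK (hP.2.1.to_le inf_le_left)
    exact absurd (Subgroup.eq_of_le_of_card_ge hgt.le h8) hgt.ne

end Cfsg.Agent.SignalizersComponents.RadicalEnd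
end

-- part: SignalizersComponents/CharNormal
section
set_option autoImplicit false
set_option linter.unusedSectionVars false

/-!
A Sylow `p`-subgroup `P` of a solvable subgroup `X` with `O_{p'}(X) = 1` has a nontrivial subgroup `Z`
normalised by `N_G(P)` and by `X`: for `|X|` odd (Puig's `Z(L(P))`) and for `p ≥ 5` (Glauberman's
stable closure `W(P)`).
-/

namespace Cfsg.Agent.SignalizersComponents.CharNormal

open Subgroup
open Cfsg (piCoreOf primesNotDvd)
open Cfsg.Agent.OddOrderLocal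
open Cfsg.Agent.OddOrderLocal.SylIn Cfsg.Agent.OddOrderLocal.PiCoreOf

universe u

variable {G : Type u} [Group G] [Finite G]

/-- `{p}ᶜ` and `primesNotDvd p` give the same core. -/
theorem piCoreOf_compl_eq {p : ℕ} (hp : p.Prime) (X : Subgroup G) :
    piCoreOf {p}ᶜ X = piCoreOf (primesNotDvd p) X := by
  apply le_antisymm
  · refine le_piCoreOf (piCoreOf_le _ X) (le_normalizer_piCoreOf _ X) fun q hq hd => ?_
    have h1 : q ≠ p := piCoreOf_isPi {p}ᶜ X q hq hd
    exact ⟨hq, fun h => h1 ((Nat.prime_dvd_prime_iff_eq hq hp).mp h)⟩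
  · refine le_piCoreOf (piCoreOf_le _ X) (le_normalizer_piCoreOf _ X) fun q hq hd => ?_
    have h1 := piCoreOf_isPi (primesNotDvd p) X q hq hd
    rintro rfl
    exact h1.2 dvd_rfl

/-- The case of odd order. -/
theorem exists_of_odd {X P : Subgroup G} (hX : Group.IsSolvable X) (hodd : Odd (Nat.card X)) {p : ℕ}
    [hp : Fact p.Prime] (hP : IsSyl p P X) (hP1 : P ≠ ⊥) (h : piCoreOf {p}ᶜ X = ⊥) :
    ∃ Z : Subgroup G, Z ≤ P ∧ Z ≠ ⊥ ∧ normalizer (P : Set G) ≤ normalizer (Z : Set G) ∧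
      X ≤ normalizer (Z : Set G) := by
  have hp2 : p ≠ 2 := by
    rintro rfl
    have : Nontrivial P := (Subgroup.nontrivial_iff_ne_bot P).mpr hP1
    obtain ⟨n, hn, hc⟩ := hP.isPGroup.nontrivial_iff_card.mp inferInstance
    have h1 : 2 ∣ Nat.card X := (dvd_pow_self 2 hn.ne').trans (hc ▸ card_dvd_of_le hP.le)
    exact Nat.not_even_iff_odd.mpr hodd (even_iff_two_dvd.mpr h1)
  rw [piCoreOf_compl_eq hp.out] at h
  exact ⟨PuigZL.ZL P, PuigZL.ZL_le P, PuigZL.ZL_ne_bot hP.isPGroup hP1,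
    PuigZL.normalizer_le_normalizer_ZL P, UniqZL.le_normalizer_ZL hX hodd hp2 hP h⟩

/-- The stable closure `W(P)` as a subgroup of `G`. -/
def WOf (p : ℕ) (P : Subgroup G) : Subgroup G := (Cfsg.stableNormalClosure p ↥P).map P.subtype

theorem normalizer_le_normalizer_WOf {p : ℕ} [Fact p.Prime] {P : Subgroup G} (hP : IsPGroup p P) :
    normalizer (P : Set G) ≤ normalizer (WOf p P : Set G) := by
  have hchar := (Cfsg.Agent.S0622.result hP).1
  intro g hg
  rw [PiCoreOf.mem_normalizer_iff_conj]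
  apply le_antisymm
  · rintro _ ⟨_, ⟨x, hx, rfl⟩, rfl⟩
    have h1 := (characteristic_iff_map_eq.mp hchar) (P.normalizerMonoidHom ⟨g, hg⟩)
    have h2 : P.normalizerMonoidHom ⟨g, hg⟩ x ∈ Cfsg.stableNormalClosure p ↥P := by
      rw [← h1]
      exact ⟨x, hx, rfl⟩
    exact ⟨_, h2, rfl⟩
  · rintro _ ⟨x, hx, rfl⟩
    have h1 := (characteristic_iff_map_eq.mp hchar) (P.normalizerMonoidHom ⟨g, hg⟩)
    rw [← h1] at hx
    obtain ⟨y, hy, rfl⟩ := hx
    exact ⟨y, ⟨y, hy, rfl⟩, rfl⟩

/-- The case `p ≥ 5`. -/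
theorem exists_of_five_le {X P : Subgroup G} (hX : Group.IsSolvable X) {p : ℕ}
    [hp : Fact p.Prime] (hp5 : 5 ≤ p) (hP : IsSyl p P X) (hP1 : P ≠ ⊥) (h : piCoreOf {p}ᶜ X = ⊥) :
    ∃ Z : Subgroup G, Z ≤ P ∧ Z ≠ ⊥ ∧ normalizer (P : Set G) ≤ normalizer (Z : Set G) ∧
      X ≤ normalizer (Z : Set G) := by
  obtain ⟨S, hS⟩ := hP.exists_sylow
  have hsep : Cfsg.IsPSolvable p X := by
    have := hX
    exact Cfsg.Agent.Lib.PSolvable.IsPSolvable_of_solvable p
  have h1 := Cfsg.Agent.S0627.result hp5 hsep S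
  have hcore : Cfsg.pPrimeCore p X = ⊥ := by
    apply map_injective X.subtype_injective
    rw [UniqZL.map_pPrimeCore_eq, ← piCoreOf_compl_eq hp.out, h, Subgroup.map_bot]
  rw [hcore, bot_sup_eq] at h1
  -- identify the two versions of `W`
  have hPX : ((S : Subgroup X).map X.subtype) = P := hS
  let e : ↥(S : Subgroup X) ≃* ↥P :=
    ((S : Subgroup X).equivMapOfInjective X.subtype X.subtype_injective).trans
      (MulEquiv.subgroupCongr hPX)
  have he : ∀ s : ↥(S : Subgroup X), ((e s : P) : G) = ((s : X) : G) := fun s => rfl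
  have hW : ((Cfsg.stableNormalClosure p ↥(S : Subgroup X)).map (S : Subgroup X).subtype).map
      X.subtype = WOf p P := by
    have h2 := (Cfsg.Agent.S0622.result S.isPGroup').2.2.2.2 P e
    unfold WOf
    rw [← h2, Subgroup.map_map, Subgroup.map_map]
    rfl
  refine ⟨WOf p P, map_subtype_le _, ?_, normalizer_le_normalizer_WOf hP.isPGroup, ?_⟩
  · intro hbot
    have : Nontrivial P := (Subgroup.nontrivial_iff_ne_bot P).mpr hP1
    apply (Cfsg.Agent.S0622.result hP.isPGroup).2.2.2.1 this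
    apply map_injective P.subtype_injective
    rw [Subgroup.map_bot]
    exact hbot
  · rw [← hW]
    have h3 := le_normalizer_map X.subtype
      (H := (Cfsg.stableNormalClosure p ↥(S : Subgroup X)).map (S : Subgroup X).subtype)
    rw [h1, ← MonoidHom.range_eq_map, X.range_subtype] at h3
    exact h3

end Cfsg.Agent.SignalizersComponents.CharNormal
end
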