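import Mathlib
import Cfsg.Agent.Lib.Cores
import Cfsg.Agent.Lib.CoprimeCommutator
import Cfsg.Agent.Lib.CoprimeHyperplane
import Cfsg.Agent.Solvable.CentralizerCore
import Cfsg.Agent.SignalizersComponents.GoldschmidtGen
import Cfsg.Agent.SignalizersComponents.InvariantHall
import Cfsg.Agent.S1288
import Cfsg.Agent.SignalizersComponents.CoprimeGen
import Cfsg.Agent.SmallSimple.SylowMaxInter
set_option linter.all false

-- part: SignalizersComponents/OPi
section
set_option autoImplicit false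
set_option maxHeartbeats 400000

/-!
The largest normal `ρ`-subgroup of a subgroup `K` of a finite group, seen in the whole group.
-/

namespace Cfsg.Agent.SignalizersComponents.OPi

open Subgroup
open scoped commutatorElement
open Cfsg.Agent.SignalizersComponents.GoldschmidtGen (le_normalizer_of_conj_mem
  conj_mem_of_le_normalizer le_normalizer_sup)
open Cfsg.Agent.SignalizersComponents.InvariantHall
open Cfsg.Agent.Lib.CoprimeCommutator

variable {G : Type*} [Group G]

theorem le_normalizer_inf {H X Y : Subgroup G} (hX : H ≤ normalizer (X : Set G))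
    (hY : H ≤ normalizer (Y : Set G)) : H ≤ normalizer ((X ⊓ Y : Subgroup G) : Set G) :=
  le_normalizer_of_conj_mem fun _ ha _ hx =>
    ⟨conj_mem_of_le_normalizer hX ha hx.1, conj_mem_of_le_normalizer hY ha hx.2⟩

theorem le_normalizer_iInf {ι : Sort*} {H : Subgroup G} (S : ι → Subgroup G)
    (h : ∀ i, H ≤ normalizer (S i : Set G)) : H ≤ normalizer ((⨅ i, S i : Subgroup G) : Set G) :=
  le_normalizer_of_conj_mem fun _ ha _ hx => by
    rw [mem_iInf] at hx ⊢
    exact fun i => conj_mem_of_le_normalizer (h i) ha (hx i)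

theorem le_normalizer_iSup {ι : Sort*} {H : Subgroup G} (S : ι → Subgroup G)
    (h : ∀ i, H ≤ normalizer (S i : Set G)) : H ≤ normalizer ((⨆ i, S i : Subgroup G) : Set G) := by
  apply le_normalizer_of_conj_mem
  intro a ha
  have h1 : (⨆ i, S i) ≤ (⨆ i, S i).comap (MulAut.conj a).toMonoidHom := by
    refine iSup_le fun i x hx => ?_
    exact (le_iSup S i) (conj_mem_of_le_normalizer (h i) ha hx)
  exact fun x hx => h1 hx

theorem le_normalizer_bot {H : Subgroup G} : H ≤ normalizer ((⊥ : Subgroup G) : Set G) :=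
  le_normalizer_of_conj_mem fun a _ x hx => by
    rw [mem_bot] at hx ⊢; rw [hx]; group

/-- Two subgroups normalising each other with trivial intersection commute. -/
theorem le_centralizer_of_inf_eq_bot {X Y : Subgroup G} (hX : X ≤ normalizer (Y : Set G))
    (hY : Y ≤ normalizer (X : Set G)) (h : X ⊓ Y = ⊥) : X ≤ centralizer (Y : Set G) := by
  rw [← commutator_eq_bot_iff_le_centralizer, eq_bot_iff, ← h]
  refine le_inf (commutator_le_left hY) ?_
  rw [commutator_comm]
  exact commutator_le_left hX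

/-- The largest normal `ρ`-subgroup of `K`. -/
def oPi (ρ : Set ℕ) (K : Subgroup G) : Subgroup G :=
  sSup {X : Subgroup G | X ≤ K ∧ K ≤ normalizer (X : Set G) ∧ PiNum ρ X}

variable {ρ σ : Set ℕ} {K L X : Subgroup G}

theorem oPi_le : oPi ρ K ≤ K := sSup_le fun _ h => h.1

theorem le_oPi (h1 : X ≤ K) (h2 : K ≤ normalizer (X : Set G)) (h3 : PiNum ρ X) : X ≤ oPi ρ K :=
  le_sSup ⟨h1, h2, h3⟩

theorem oPi_mono_set (h : ρ ⊆ σ) : oPi ρ K ≤ oPi σ K :=
  sSup_le fun _ hX => le_sSup ⟨hX.1, hX.2.1, hX.2.2.mono_set h⟩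

theorem oPi_spec [Finite G] : K ≤ normalizer (oPi ρ K : Set G) ∧ PiNum ρ (oPi ρ K) := by
  obtain ⟨M, ⟨hM1, hM2, hM3⟩, hmax⟩ := (Set.toFinite {X : Subgroup G | X ≤ K ∧
    K ≤ normalizer (X : Set G) ∧ PiNum ρ X}).exists_maximal ⟨⊥, bot_le, le_normalizer_bot, piNum_bot⟩
  have h1 : oPi ρ K = M := by
    apply le_antisymm _ (le_oPi hM1 hM2 hM3)
    refine sSup_le fun X hX => ?_
    obtain ⟨hX1, hX2, hX3⟩ := hX
    have h2 : M ⊔ X ∈ {X : Subgroup G | X ≤ K ∧ K ≤ normalizer (X : Set G) ∧ PiNum ρ X} :=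
      ⟨sup_le hM1 hX1, le_normalizer_sup hM2 hX2, PiNum.sup hM3 hX3 (hX1.trans hM2)⟩
    exact le_sup_right.trans (hmax h2 le_sup_left)
  rw [h1]
  exact ⟨hM2, hM3⟩

theorem le_normalizer_oPi [Finite G] : K ≤ normalizer (oPi ρ K : Set G) := oPi_spec.1

theorem piNum_oPi [Finite G] : PiNum ρ (oPi ρ K) := oPi_spec.2

/-- Whatever normalises `K` normalises `oPi ρ K`. -/
theorem normalizer_le_normalizer_oPi :
    normalizer (K : Set G) ≤ normalizer (oPi ρ K : Set G) := by
  apply le_normalizer_of_conj_mem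
  intro g hg
  have h1 : oPi ρ K ≤ (oPi ρ K).comap (MulAut.conj g).toMonoidHom := by
    refine sSup_le fun X hX => ?_
    rw [← Subgroup.map_le_iff_le_comap]
    obtain ⟨hX1, hX2, hX3⟩ := hX
    refine le_oPi ?_ ?_ (hX3.map _)
    · rintro _ ⟨x, hx, rfl⟩
      exact (mem_normalizer_iff.mp hg x).mp (hX1 hx)
    · apply le_normalizer_of_conj_mem
      rintro k hk _ ⟨x, hx, rfl⟩
      have h2 : g⁻¹ * k * g⁻¹⁻¹ ∈ K := (mem_normalizer_iff.mp (inv_mem hg) k).mp hk
      refine ⟨(g⁻¹ * k * g⁻¹⁻¹) * x * (g⁻¹ * k * g⁻¹⁻¹)⁻¹, conj_mem_of_le_normalizer hX2 h2 hx, ?_⟩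
      simp [mul_assoc]
  exact fun x hx => h1 hx

theorem le_normalizer_oPi_of_le {B : Subgroup G} (h : B ≤ normalizer (K : Set G)) :
    B ≤ normalizer (oPi ρ K : Set G) := h.trans normalizer_le_normalizer_oPi

theorem oPi_le_oPi_of_normal [Finite G] (h : K ≤ L) (hn : L ≤ normalizer (K : Set G)) :
    oPi ρ K ≤ oPi ρ L :=
  le_oPi (oPi_le.trans h) (le_normalizer_oPi_of_le hn) piNum_oPi

theorem inf_oPi_le [Finite G] (h : K ≤ L) : K ⊓ oPi ρ L ≤ oPi ρ K :=
  le_oPi inf_le_left (le_normalizer_inf Subgroup.le_normalizer (h.trans le_normalizer_oPi))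
    (piNum_oPi.mono inf_le_right)

/-- `ρ`- and `σ`-radicals commute if `ρ`, `σ` are disjoint. -/
theorem oPi_le_centralizer_oPi [Finite G] (h : ∀ q ∈ ρ, q ∉ σ) :
    oPi ρ K ≤ centralizer (oPi σ K : Set G) :=
  le_centralizer_of_inf_eq_bot (oPi_le.trans le_normalizer_oPi) (oPi_le.trans le_normalizer_oPi)
    (PiNum.inf_eq_bot piNum_oPi piNum_oPi h)

/-- It is enough to lie in the `q'`-radicals for all primes `q ∉ ρ`. -/
theorem le_oPi_of_forall [Finite G] (hX : X ≤ K)
    (h : ∀ q : ℕ, q.Prime → q ∉ ρ → X ≤ oPi {q}ᶜ K) : X ≤ oPi ρ K := by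
  set I : Subgroup G := K ⊓ ⨅ q : {q : ℕ // q.Prime ∧ q ∉ ρ}, oPi {(q : ℕ)}ᶜ K with hI
  have h1 : I ≤ oPi ρ K := by
    refine le_oPi inf_le_left (le_normalizer_inf Subgroup.le_normalizer
      (le_normalizer_iInf _ fun q => le_normalizer_oPi)) ?_
    intro q hq hd
    by_contra hqρ
    have h2 : I ≤ oPi {q}ᶜ K :=
      inf_le_right.trans (iInf_le (fun q : {q : ℕ // q.Prime ∧ q ∉ ρ} => oPi {(q : ℕ)}ᶜ K) ⟨q, hq, hqρ⟩)
    have h3 : q ∈ ({q}ᶜ : Set ℕ) := piNum_oPi (K := K) q hq (hd.trans (card_dvd_of_le h2))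
    exact h3 (Set.mem_singleton q)
  refine le_trans (le_inf hX (le_iInf ?_)) h1
  rintro ⟨q, hq, hq2⟩
  exact h q hq hq2

theorem isPGroup_of_piNum [Finite G] {q : ℕ} [hq : Fact q.Prime] (h : PiNum {q} X) :
    IsPGroup q X := by
  rw [IsPGroup.iff_card]
  exact ⟨_, Nat.eq_prime_pow_of_unique_prime_dvd Nat.card_pos.ne' fun hd hdv => h _ hd hdv⟩

theorem not_dvd_of_piNum {q : ℕ} (hq : q.Prime) (h : PiNum {q}ᶜ X) : ¬ q ∣ Nat.card X := by
  intro hd
  have h3 : q ∈ ({q}ᶜ : Set ℕ) := h q hq hd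
  exact h3 (Set.mem_singleton q)

theorem piNum_compl_of_not_dvd {q : ℕ} (h : ¬ q ∣ Nat.card X) : PiNum {q}ᶜ X := by
  rintro r _ hd rfl
  exact h hd

theorem piNum_singleton_of_isPGroup [Finite G] {q : ℕ} [Fact q.Prime] (h : IsPGroup q X) :
    PiNum {q} X := piNum_of_isPGroup h rfl

theorem isPGroup_oPi [Finite G] {q : ℕ} [Fact q.Prime] : IsPGroup q (oPi {q} K) :=
  isPGroup_of_piNum piNum_oPi

theorem eq_bot_of_piNum [Finite G] (h1 : PiNum ρ X) (h2 : PiNum σ X) (h : ∀ q ∈ ρ, q ∉ σ) :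
    X = ⊥ := by
  have := h1.inf_eq_bot h2 h
  rwa [inf_idem] at this

theorem oPi_singleton_eq [Finite G] {q : ℕ} [Fact q.Prime] (K : Subgroup G) :
    oPi {q} K = (Cfsg.pCore q K).map K.subtype := by
  apply le_antisymm
  · have hn : ((oPi {q} K).subgroupOf K).Normal :=
      normal_subgroupOf_of_le_normalizer le_normalizer_oPi
    have h1 : (oPi {q} K).subgroupOf K ≤ Cfsg.pCore q K :=
      Cfsg.Agent.Lib.Cores.le_pCore hn
        (isPGroup_oPi.comap_of_injective K.subtype K.subtype_injective)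
    have h2 := Subgroup.map_mono (f := K.subtype) h1
    rwa [subgroupOf_map_subtype, inf_of_le_left oPi_le] at h2
  · refine le_oPi (map_subtype_le _) ?_ (piNum_singleton_of_isPGroup
      ((Cfsg.Agent.Lib.Cores.pCore_isPGroup q).map _))
    apply le_normalizer_of_conj_mem
    rintro k hk _ ⟨x, hx, rfl⟩
    exact ⟨⟨k, hk⟩ * x * ⟨k, hk⟩⁻¹,
      (Cfsg.Agent.Lib.Cores.pCore_normal q).conj_mem x hx ⟨k, hk⟩, rfl⟩

theorem oPi_compl_eq [Finite G] {q : ℕ} [hq : Fact q.Prime] (K : Subgroup G) :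
    oPi {q}ᶜ K = (Cfsg.pPrimeCore q K).map K.subtype := by
  apply le_antisymm
  · have hn : ((oPi {q}ᶜ K).subgroupOf K).Normal :=
      normal_subgroupOf_of_le_normalizer le_normalizer_oPi
    have h1 : (oPi {q}ᶜ K).subgroupOf K ≤ Cfsg.pPrimeCore q K := by
      refine Cfsg.Agent.Lib.Cores.le_pPrimeCore hn ?_
      rw [Nat.card_congr (Subgroup.subgroupOfEquivOfLe oPi_le).toEquiv, Nat.coprime_comm,
        hq.out.coprime_iff_not_dvd]
      exact not_dvd_of_piNum hq.out piNum_oPi
    have h2 := Subgroup.map_mono (f := K.subtype) h1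
    rwa [subgroupOf_map_subtype, inf_of_le_left oPi_le] at h2
  · refine le_oPi (map_subtype_le _) ?_ (piNum_compl_of_not_dvd ?_)
    · apply le_normalizer_of_conj_mem
      rintro k hk _ ⟨x, hx, rfl⟩
      exact ⟨⟨k, hk⟩ * x * ⟨k, hk⟩⁻¹,
        (Cfsg.Agent.Lib.Cores.pPrimeCore_normal q).conj_mem x hx ⟨k, hk⟩, rfl⟩
    · rw [Subgroup.card_map_of_injective K.subtype_injective, ← hq.out.coprime_iff_not_dvd,
        Nat.coprime_comm]
      exact Cfsg.Agent.Lib.Cores.pPrimeCore_coprime q

/-- Hall-Higman: in a solvable `K` with trivial `q'`-radical, `C_K(O_q(K)) ≤ O_q(K)`. -/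
theorem inf_centralizer_oPi_le [Finite G] {q : ℕ} [Fact q.Prime] (hKs : Group.IsSolvable K)
    (h : oPi {q}ᶜ K = ⊥) : K ⊓ centralizer (oPi {q} K : Set G) ≤ oPi {q} K := by
  have h1 : Cfsg.pPrimeCore q K = ⊥ := by
    rw [oPi_compl_eq, Subgroup.map_eq_bot_iff_of_injective _ K.subtype_injective] at h
    exact h
  have h2 := Cfsg.Agent.S1288.centralizer_pCore_le (G := K) q h1
  rw [oPi_singleton_eq]
  intro x hx
  have hxK : x ∈ K := hx.1
  have hx2 := mem_centralizer_iff.mp hx.2
  refine ⟨⟨x, hxK⟩, h2 ?_, rfl⟩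
  rw [mem_centralizer_iff]
  intro y hy
  exact Subtype.ext (hx2 _ ⟨y, hy, rfl⟩)

/-- `C_K(F(K)) ≤ F(K)` for solvable `K`. -/
theorem inf_centralizer_iSup_le [Finite G] (hKs : Group.IsSolvable K) :
    K ⊓ centralizer ((⨆ q : Nat.Primes, oPi {(q : ℕ)} K : Subgroup G) : Set G) ≤
      ⨆ q : Nat.Primes, oPi {(q : ℕ)} K := by
  have h1 : (⨆ q : Nat.Primes, oPi {(q : ℕ)} K) = (Cfsg.fittingSubgroup K).map K.subtype := by
    rw [Cfsg.Agent.Lib.Cores.fittingSubgroup_eq_iSup_pCore, Subgroup.map_iSup]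
    refine iSup_congr fun q => ?_
    have : Fact (q : ℕ).Prime := ⟨q.2⟩
    exact oPi_singleton_eq K
  rw [h1]
  have h2 : centralizer ((Cfsg.fittingSubgroup K : Subgroup K) : Set K) ≤ Cfsg.fittingSubgroup K := by
    by_contra hcon
    have : (Cfsg.fittingSubgroup K).Normal := Cfsg.Agent.Lib.Cores.fittingSubgroup_normal
    obtain ⟨A, hAn, -, hAP, hAnil⟩ :=
      Cfsg.Agent.Solvable.CentralizerCore.exists_normal_nilpotent_not_le
        (centralizer ((Cfsg.fittingSubgroup K : Subgroup K) : Set K)) (Cfsg.fittingSubgroup K) le_rfl hcon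
    exact hAP (Cfsg.Agent.Lib.Cores.le_fittingSubgroup hAn hAnil)
  intro x hx
  have hxK : x ∈ K := hx.1
  have hx2 := mem_centralizer_iff.mp hx.2
  refine ⟨⟨x, hxK⟩, h2 ?_, rfl⟩
  rw [mem_centralizer_iff]
  intro y hy
  exact Subtype.ext (hx2 _ ⟨y, hy, rfl⟩)

/-- If `B` acts coprimely on the solvable group `K` and centralises all `O_q(K)`, it centralises `K`. -/
theorem le_centralizer_of_forall_oPi [Finite G] {B : Subgroup G} (hKs : Group.IsSolvable K)
    (hBK : B ≤ normalizer (K : Set G)) (hcop : (Nat.card B).Coprime (Nat.card K))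
    (h : ∀ q : ℕ, q.Prime → B ≤ centralizer (oPi {q} K : Set G)) :
    B ≤ centralizer (K : Set G) := by
  set F : Subgroup G := ⨆ q : Nat.Primes, oPi {(q : ℕ)} K with hF
  have hBF : B ≤ centralizer (F : Set G) := by
    have h1 : F ≤ centralizer (B : Set G) := iSup_le fun q => by
      rw [Subgroup.le_centralizer_iff]
      exact h q q.2
    rwa [Subgroup.le_centralizer_iff]
  have hKF : K ≤ normalizer (F : Set G) := le_normalizer_iSup _ fun q => le_normalizer_oPi
  have h1 : ⁅K, B⁆ ≤ centralizer (F : Set G) := by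
    rw [← commutator_eq_bot_iff_le_centralizer]
    apply commutator_commutator_eq_bot_of_rotate
    · rw [commutator_eq_bot_iff_le_centralizer.mpr hBF, commutator_bot_left]
    · rw [eq_bot_iff]
      refine (commutator_mono ?_ le_rfl).trans (commutator_eq_bot_iff_le_centralizer.mpr
        ((Subgroup.le_centralizer_iff).mp hBF)).le
      exact commutator_le_left hKF
  have h2 : ⁅K, B⁆ ≤ F :=
    (le_inf (commutator_le_left hBK) h1).trans (inf_centralizer_iSup_le hKs)
  exact le_centralizer_of_commutator_le B K F hBK hcop h2 hBF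

end Cfsg.Agent.SignalizersComponents.OPi
end

-- part: SignalizersComponents/SylowFixed
section
set_option autoImplicit false
set_option maxHeartbeats 400000

/-!
`B` acts coprimely on the solvable group `K` and centralises a Sylow `q`-subgroup of `K`; then
`[K, B] ≤ O_{q'}(K)`.
-/

namespace Cfsg.Agent.SignalizersComponents.SylowFixed

open Subgroup
open scoped commutatorElement
open Cfsg.Agent.SignalizersComponents.GoldschmidtGen (le_normalizer_of_conj_mem
  conj_mem_of_le_normalizer le_normalizer_sup)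
open Cfsg.Agent.SignalizersComponents.InvariantHall hiding le_normalizer_inf
open Cfsg.Agent.SignalizersComponents.OPi
open Cfsg.Agent.Lib.CoprimeCommutator
open Cfsg.Agent.SignalizersComponents.CoprimeGen (centralizer_zpowers actTriv mem_actTriv)

variable {G : Type*} [Group G]

section map

variable {ρ : Set ℕ}

/-- `oPi` commutes with injective homomorphisms. -/
theorem map_oPi_of_injective [Finite G] {H : Type*} [Group H] [Finite H] {f : G →* H}
    (hf : Function.Injective f) (K : Subgroup G) : (oPi ρ K).map f = oPi ρ (K.map f) := by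
  apply le_antisymm
  · refine le_oPi (map_mono oPi_le) ?_ (piNum_oPi.map f)
    apply le_normalizer_of_conj_mem
    rintro _ ⟨k, hk, rfl⟩ _ ⟨x, hx, rfl⟩
    exact ⟨k * x * k⁻¹, conj_mem_of_le_normalizer le_normalizer_oPi hk hx, by simp⟩
  · have h1 : ((oPi ρ (K.map f)).comap f).map f = oPi ρ (K.map f) := by
      rw [Subgroup.map_comap_eq, inf_eq_right]
      exact oPi_le.trans (Subgroup.map_le_range f K)
    rw [← h1]
    apply map_mono
    refine le_oPi ?_ ?_ ?_
    · intro x hx
      obtain ⟨k, hk, hkx⟩ := oPi_le hx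
      rwa [← hf hkx]
    · apply le_normalizer_of_conj_mem
      intro k hk x hx
      rw [mem_comap, map_mul, map_mul, map_inv]
      exact conj_mem_of_le_normalizer le_normalizer_oPi ⟨k, hk, rfl⟩ hx
    · intro r hr hd
      have h2 : Nat.card ↥((oPi ρ (K.map f)).comap f) = Nat.card ↥(oPi ρ (K.map f)) := by
        conv_rhs => rw [← h1]
        exact (Subgroup.card_map_of_injective hf).symm
      rw [h2] at hd
      exact piNum_oPi r hr hd

end map

section quotient

variable [Finite G] {q : ℕ} [hq : Fact q.Prime] {K : Subgroup G}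

/-- Factoring out `O_{q'}(K)`. -/
theorem oPi_map_eq_bot {N : Subgroup G} [hN : N.Normal] (h : N = oPi {q}ᶜ K) :
    oPi {q}ᶜ (K.map (QuotientGroup.mk' N)) = ⊥ := by
  set π := QuotientGroup.mk' N with hπ
  have hsurj : Function.Surjective π := QuotientGroup.mk'_surjective N
  have hNK : N ≤ K := by rw [h]; exact oPi_le
  set Y : Subgroup (G ⧸ N) := oPi {q}ᶜ (K.map π) with hY
  have hYK : Y.comap π ≤ K := by
    intro x hx
    obtain ⟨k, hk, hkx⟩ := (oPi_le : Y ≤ K.map π) hx
    have h1 : k⁻¹ * x ∈ N := by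
      rw [← QuotientGroup.eq]
      exact hkx
    have := K.mul_mem hk (hNK h1)
    rwa [mul_inv_cancel_left] at this
  have h1 : Y.comap π ≤ oPi {q}ᶜ K := by
    refine le_oPi hYK ?_ ?_
    · apply le_normalizer_of_conj_mem
      intro k hk x hx
      rw [mem_comap, map_mul, map_mul, map_inv]
      exact conj_mem_of_le_normalizer le_normalizer_oPi ⟨k, hk, rfl⟩ hx
    · apply piNum_compl_of_not_dvd
      intro hd
      have h2 : Nat.card ↥(Y.comap π) = Nat.card Y * Nat.card N := by
        have h3 := Subgroup.relIndex_mul_relIndex ⊥ N (Y.comap π) bot_le (by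
          intro n hn
          rw [mem_comap]
          have : π n = 1 := (QuotientGroup.eq_one_iff n).mpr hn
          rw [this]; exact one_mem _)
        rw [Subgroup.relIndex_bot_left, Subgroup.relIndex_bot_left] at h3
        rw [← h3, mul_comm]
        congr 1
        have h4 := Subgroup.relIndex_comap (f := π) (H := (⊥ : Subgroup (G ⧸ N))) (K := Y.comap π)
        rw [MonoidHom.comap_bot, hπ, QuotientGroup.ker_mk',
          Subgroup.map_comap_eq_self_of_surjective hsurj, Subgroup.relIndex_bot_left] at h4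
        exact h4
      rw [h2] at hd
      rcases hq.out.dvd_mul.mp hd with h3 | h3
      · exact not_dvd_of_piNum hq.out piNum_oPi h3
      · rw [h] at h3
        exact not_dvd_of_piNum hq.out piNum_oPi h3
  rw [← h] at h1
  rw [eq_bot_iff]
  intro y hy
  obtain ⟨x, rfl⟩ := hsurj y
  exact (QuotientGroup.eq_one_iff x).mpr (h1 hy)

omit [Finite G] in
theorem solvable_map {H : Type*} [Group H] (f : G →* H) (hKs : Group.IsSolvable K) :
    Group.IsSolvable ↥(K.map f) :=
  Group.isSolvable_of_surjective (f := f.subgroupMap K) (f.subgroupMap_surjective K)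

/-- `a` centralises a Sylow `q`-subgroup of `K`, `K` normal: `[K, a] ≤ O_{q'}(K)`. -/
theorem commutator_le_of_sylow_of_normal [hKn : K.Normal] (hKs : Group.IsSolvable K)
    {B Q : Subgroup G} (hcop : (Nat.card B).Coprime (Nat.card K)) (hQK : Q ≤ K)
    (hQ : IsPGroup q Q) (hQi : ¬ q ∣ Q.relIndex K) (hBQ : B ≤ centralizer (Q : Set G)) :
    ⁅K, B⁆ ≤ oPi {q}ᶜ K := by
  set N : Subgroup G := oPi {q}ᶜ K with hN
  have hNn : N.Normal := by
    rw [← Subgroup.normalizer_eq_top_iff, eq_top_iff]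
    refine le_trans ?_ (normalizer_le_normalizer_oPi (ρ := {q}ᶜ) (K := K))
    rw [Subgroup.normalizer_eq_top_iff.mpr hKn]
  set π := QuotientGroup.mk' N with hπ
  have hsurj : Function.Surjective π := QuotientGroup.mk'_surjective N
  set V : Subgroup (G ⧸ N) := oPi {q} (K.map π) with hV
  have hKV : K.map π ≤ normalizer (V : Set (G ⧸ N)) := le_normalizer_oPi
  -- `V` lies in the image of `Q`
  have hVQ : V ≤ Q.map π := by
    have hQK' : Q.map π ≤ K.map π := map_mono hQK
    have h1 : PiNum {q} (V ⊔ Q.map π) :=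
      PiNum.sup piNum_oPi ((piNum_singleton_of_isPGroup hQ).map π) (hQK'.trans hKV)
    have h2 : V ⊔ Q.map π ≤ K.map π := sup_le oPi_le hQK'
    have h3 : (Q.map π).relIndex (V ⊔ Q.map π) ∣ (Q.map π).relIndex (K.map π) := by
      rw [← Subgroup.relIndex_mul_relIndex (Q.map π) (V ⊔ Q.map π) (K.map π) le_sup_right h2]
      exact dvd_mul_right _ _
    have h4 : (Q.map π).relIndex (K.map π) ∣ Q.relIndex K := by
      rw [← Subgroup.relIndex_comap]
      exact Subgroup.relIndex_dvd_of_le_left K (Subgroup.le_comap_map π Q)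
    have h5 : (Q.map π).relIndex (V ⊔ Q.map π) = 1 := by
      by_contra hne
      obtain ⟨r, hr, hd⟩ := Nat.exists_prime_and_dvd hne
      have h6 : r ∈ ({q} : Set ℕ) := h1 r hr (hd.trans (Subgroup.relIndex_dvd_card _ _))
      rw [Set.mem_singleton_iff] at h6
      rw [h6] at hd
      exact hQi ((hd.trans h3).trans h4)
    exact le_sup_left.trans (Subgroup.relIndex_eq_one.mp h5)
  have hBV : B.map π ≤ centralizer (V : Set (G ⧸ N)) := by
    refine le_trans ?_ (centralizer_le hVQ)
    rintro _ ⟨b, hb, rfl⟩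
    rw [mem_centralizer_iff]
    rintro _ ⟨x, hx, rfl⟩
    rw [← map_mul, ← map_mul, mem_centralizer_iff.mp (hBQ hb) x hx]
  have hBK : B.map π ≤ normalizer ((K.map π : Subgroup (G ⧸ N)) : Set (G ⧸ N)) := by
    have hmn : (K.map π).Normal := hKn.map π hsurj
    rw [Subgroup.normalizer_eq_top_iff.mpr hmn]
    exact le_top
  have h1 : ⁅K.map π, B.map π⁆ ≤ centralizer (V : Set (G ⧸ N)) := by
    rw [← commutator_eq_bot_iff_le_centralizer]
    apply commutator_commutator_eq_bot_of_rotate
    · rw [commutator_eq_bot_iff_le_centralizer.mpr hBV, commutator_bot_left]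
    · rw [eq_bot_iff]
      refine (commutator_mono ?_ le_rfl).trans (commutator_eq_bot_iff_le_centralizer.mpr
        ((Subgroup.le_centralizer_iff).mp hBV)).le
      exact commutator_le_left hKV
  have h2 : ⁅K.map π, B.map π⁆ ≤ V :=
    (le_inf (commutator_le_left hBK) h1).trans
      (inf_centralizer_oPi_le (solvable_map π hKs) (oPi_map_eq_bot hN))
  have hcop' : (Nat.card ↥(B.map π)).Coprime (Nat.card ↥(K.map π)) :=
    (hcop.of_dvd_left (Subgroup.card_map_dvd B π)).of_dvd_right (Subgroup.card_map_dvd K π)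
  have h3 := le_centralizer_of_commutator_le (B.map π) (K.map π) V hBK hcop' h2 hBV
  have h4 : (⁅K, B⁆ : Subgroup G).map π = ⊥ := by
    rw [Subgroup.map_commutator, commutator_comm]
    exact commutator_eq_bot_iff_le_centralizer.mpr h3
  rw [Subgroup.map_eq_bot_iff, hπ, QuotientGroup.ker_mk'] at h4
  exact h4

end quotient

section general

variable [Finite G] {K : Subgroup G}

omit [Finite G] in
theorem map_subgroupOf_eq {M H : Subgroup G} (h : H ≤ M) : (H.subgroupOf M).map M.subtype = H := by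
  rw [subgroupOf_map_subtype, inf_of_le_left h]

/-- `B` acts coprimely on the solvable group `K` and centralises a Sylow `q`-subgroup of `K`:
`[K, B] ≤ O_{q'}(K)`. -/
theorem commutator_le_of_sylow {q : ℕ} [Fact q.Prime] (hKs : Group.IsSolvable K)
    {B Q : Subgroup G} (hBK : B ≤ normalizer (K : Set G))
    (hcop : (Nat.card B).Coprime (Nat.card K)) (hQK : Q ≤ K)
    (hQ : IsPGroup q Q) (hQi : ¬ q ∣ Q.relIndex K) (hBQ : B ≤ centralizer (Q : Set G)) :
    ⁅K, B⁆ ≤ oPi {q}ᶜ K := by
  set M : Subgroup G := normalizer (K : Set G) with hM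
  have hKM : K ≤ M := Subgroup.le_normalizer
  have hQM : Q ≤ M := hQK.trans hKM
  have hn : (K.subgroupOf M).Normal := normal_subgroupOf_of_le_normalizer le_rfl
  have hcard : Nat.card ↥(K.subgroupOf M) = Nat.card K :=
    Nat.card_congr (Subgroup.subgroupOfEquivOfLe hKM).toEquiv
  have hcardB : Nat.card ↥(B.subgroupOf M) = Nat.card B :=
    Nat.card_congr (Subgroup.subgroupOfEquivOfLe hBK).toEquiv
  have key := commutator_le_of_sylow_of_normal (G := M) (q := q) (K := K.subgroupOf M)
    (Group.isSolvable_of_surjective (f := (Subgroup.subgroupOfEquivOfLe hKM).symm.toMonoidHom)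
      (Subgroup.subgroupOfEquivOfLe hKM).symm.surjective)
    (B := B.subgroupOf M) (Q := Q.subgroupOf M) (by rwa [hcard, hcardB]) (fun x hx => hQK hx)
    (hQ.comap_of_injective M.subtype M.subtype_injective)
    (by rwa [Subgroup.relIndex_subgroupOf hKM]) (by
      intro b hb
      rw [mem_centralizer_iff]
      intro x hx
      exact Subtype.ext (mem_centralizer_iff.mp (hBQ hb) _ hx))
  have h1 := map_mono (f := M.subtype) key
  rw [Subgroup.map_commutator, map_oPi_of_injective M.subtype_injective,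
    map_subgroupOf_eq hBK, map_subgroupOf_eq hKM] at h1
  exact h1

end general

end Cfsg.Agent.SignalizersComponents.SylowFixed
end
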