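import Mathlib
import Cfsg.Prelude.Def_Balance
import Cfsg.Prelude.Def_OddOrderLocal
import Cfsg.Agent.SignalizersComponents.Radical
import Cfsg.Agent.SignalizersComponents.StepFour
import Cfsg.Agent.SignalizersComponents.RadicalEnd_mg
set_option linter.all false

set_option autoImplicit false
set_option linter.unusedSectionVars false
set_option maxHeartbeats 400000

/-!
The solvable signalizer functor theorem for the prime `2`.
-/

namespace Cfsg.Agent.SignalizersComponents.SolFunctorTwo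

open Subgroup
open scoped commutatorElement
open Cfsg (piCoreOf)
open Cfsg.Agent.OddOrderLocal.PiCoreOf
open Cfsg.Agent.SignalizersComponents.CoprimeGen
open Cfsg.Agent.SignalizersComponents.FunctorTools
open Cfsg.Agent.SignalizersComponents.FunctorInduction
open Cfsg.Agent.SignalizersComponents.MinCounterBasic
open Cfsg.Agent.SignalizersComponents.InvariantHall (PiNum)
open Cfsg.Agent.SignalizersComponents.HallFunctor
open Cfsg.Agent.SignalizersComponents.Radical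
open Cfsg.Agent.SignalizersComponents.StepFour

universe u

section general

variable {G : Type u} [Group G] [Finite G] {r : ℕ} [hr : Fact r.Prime] {A : Subgroup G}
  {θ : G → Subgroup G}

theorem piCoreOf_compl_le_Opp {q : ℕ} [hq : Fact q.Prime] (K : Subgroup G) :
    piCoreOf {q}ᶜ K ≤ Opp q K := by
  refine le_Opp (piCoreOf_le _ K) ?_ (le_normalizer_piCoreOf _ K)
  rw [Nat.coprime_comm, hq.out.coprime_iff_not_dvd]
  intro hd
  have h1 : q ∈ ({q}ᶜ : Set ℕ) := piCoreOf_isPi _ K q hq.out hd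
  exact h1 (Set.mem_singleton q)

theorem Opp_le_piCoreOf_compl {q : ℕ} [hq : Fact q.Prime] (K : Subgroup G) :
    Opp q K ≤ piCoreOf {q}ᶜ K := by
  refine le_piCoreOf Opp_le le_normalizer_Opp ?_
  intro s hs hd
  show s ≠ q
  rintro rfl
  have h2 : (Nat.card ↥(Opp s K)).Coprime s := coprime_Opp
  exact hs.one_lt.ne' (Nat.dvd_one.mp (h2 ▸ Nat.dvd_gcd hd dvd_rfl))

/-- Step (7): there is exactly one prime `q` with `W_q ≠ 1`, and `W_{q'} = 1`. -/
theorem exists_prime (h : MinCounter r A θ) (hLG : ∀ π : Set ℕ, LGHyp r G π) :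
    ∃ q : ℕ, q.Prime ∧ Proper {q} A θ ∧ Proper {q}ᶜ A θ ∧ rad r {q} A θ ≠ ⊥ ∧
      rad r {q}ᶜ A θ = ⊥ := by
  have h4 := step4 h
  obtain ⟨a, ha, ha1⟩ := A.bot_or_exists_ne_one.resolve_left (MinCounter.ne_bot h)
  obtain ⟨q, hq, M, hM, haM, hne⟩ := h4 a ha ha1
  have : Fact q.Prime := ⟨hq⟩
  have hW : rad r {q} A θ ≠ ⊥ := by
    intro hbot
    apply hne
    rw [← commutator_zpowers_eq_bot_iff, eq_bot_iff, ← hbot]
    exact commutator_piCoreOf_le_rad h (hLG _) hM ha ha1 haM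
  have hp1 : Proper {q} A θ := by
    by_contra hcon
    apply h.notComplete
    refine solComplete_of_singleton h.elem h.card.ge h.func hq fun b hb hb1 => ?_
    by_contra hb2
    exact hcon ⟨b, hb, hb1, hb2⟩
  have hp2 : Proper {q}ᶜ A θ := by
    by_contra hcon
    apply hW
    rw [eq_bot_iff]
    refine iSup_le fun D => ?_
    have hD1 : D.1 ≠ ⊥ := by
      intro hbot
      have h1 := card_hyperplane h.card D.2.1 D.2.2
      rw [hbot, Subgroup.card_bot] at h1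
      exact absurd h1.symm (Nat.one_lt_pow two_ne_zero hr.out.one_lt).ne'
    obtain ⟨d, hd, hd1⟩ := D.1.bot_or_exists_ne_one.resolve_left hD1
    refine (phi_le hd hd1).trans ?_
    have h1 : PiNum {q}ᶜ (θ d) := by
      by_contra hb2
      exact hcon ⟨d, D.2.1 hd, hd1, hb2⟩
    have h2 := InvariantHall.PiNum.inf_eq_bot (piCoreOf_isPi {q} (θ d))
      (InvariantHall.PiNum.mono h1 (piCoreOf_le {q} (θ d))) (fun s hs hs' => hs' hs)
    rw [inf_idem] at h2
    exact h2.le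
  refine ⟨q, hq, hp1, hp2, hW, ?_⟩
  exact (rad_eq_bot_or h (hLG _) (hLG _) hp1 hp2 h4).resolve_left hW

/-- The output of steps (1)-(7) in the form needed for steps (8), (9). -/
theorem exists_data (h : MinCounter r A θ) (hLG : ∀ π : Set ℕ, LGHyp r G π) :
    ∃ q : ℕ, q.Prime ∧ ∃ W ∈ Cfsg.signalizerFamily r A θ, IsPGroup q W ∧
      Cfsg.signalizerInf A θ ≤ normalizer (W : Set G) ∧
      (∀ K ∈ Cfsg.signalizerFamily r A θ, W ⊓ K ≤ Op q K) ∧
      ∃ a ∈ A, a ≠ 1 ∧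
      (∀ K ∈ Cfsg.signalizerFamily r A θ, θ a ≤ K → ⁅Op q K, zpowers a⁆ ≤ W) ∧
      (∀ K ∈ Cfsg.signalizerFamily r A θ, θ a ≤ K → Opp q K ≤ centralizer {a}) ∧
      (∀ K ∈ Cfsg.signalizerFamily r A θ, θ a ≤ K → ¬ W ≤ K) ∧
      (∃ K ∈ Cfsg.signalizerFamily r A θ, θ a ≤ K ∧ ⁅Op q K, zpowers a⁆ ≠ ⊥) := by
  obtain ⟨q, hq, hp1, hp2, hW, hW'⟩ := exists_prime h hLG
  have : Fact q.Prime := ⟨hq⟩
  obtain ⟨a, ha, ha1, hbad⟩ := exists_bad h (hLG _) hp1 hW
  have hOp : ∀ K : Subgroup G, Op q K = piCoreOf {q} K := fun K => Op_eq_piCoreOf hq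
  have hcen : ∀ K ∈ Cfsg.signalizerFamily r A θ, θ a ≤ K → piCoreOf {q}ᶜ K ≤ centralizer {a} := by
    intro K hK haK
    rw [← commutator_zpowers_eq_bot_iff, eq_bot_iff, ← hW']
    exact commutator_piCoreOf_le_rad h (hLG _) hK ha ha1 haK
  refine ⟨q, hq, rad r {q} A θ, rad_mem h hp1, isPGroup_of_piNum (rad_piNum h hp1),
    signalizerInf_le_normalizer_rad, ?_, a, ha, ha1, ?_, ?_, ?_, ?_⟩
  · intro K hK
    rw [hOp]
    exact le_piCoreOf_of_le_rad h hp1 hK inf_le_right inf_le_left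
  · intro K hK haK
    rw [hOp]
    exact commutator_piCoreOf_le_rad h (hLG _) hK ha ha1 haK
  · intro K hK haK
    exact (Opp_le_piCoreOf_compl K).trans (hcen K hK haK)
  · intro K hK haK hWK
    exact hbad ⟨K, hK, haK, hWK⟩
  · obtain ⟨M, hM, haM, hne⟩ := exists_commutator_ne_bot h (hLG _) hp1 (step4 h) ha ha1 hbad
    refine ⟨M, hM, haM, ?_⟩
    rw [hOp]
    exact hne

end general

/-- There is no minimal counterexample for the prime `2`. -/
theorem no_minCounter (G : Type u) [Group G] [Finite G] (A : Subgroup G) (θ : G → Subgroup G)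
    (h : MinCounter 2 A θ) : False := by
  have : Fact (Nat.Prime 2) := ⟨Nat.prime_two⟩
  have hLG : ∀ π : Set ℕ, LGHyp 2 G π := fun π K H a hKs hK ha haK hHK haH hfix =>
    LocalGlobal.main_two hKs hK ha haK hHK haH hfix
  obtain ⟨q, hq, W, hW, hWq, hWC, h2, a, ha, ha1, h3, h4, h6, h7⟩ := exists_data h hLG
  have : Fact q.Prime := ⟨hq⟩
  refine RadicalEnd.false_of_bad h ha ha1 hW hWq hWC h2 h3 h4 h6 h7 ?_
  intro K hK _ hOpp S hS hS1
  refine CharNormal.exists_of_odd hK.1 (Nat.not_even_iff_odd.mp fun he => hK.2.1 he.two_dvd) hS hS1 ?_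
  have h8 := piCoreOf_compl_le_Opp (q := q) K
  rwa [hOpp, le_bot_iff] at h8

/-- **The solvable signalizer functor theorem for the prime `2`**, as `SolComplete`. -/
theorem solComplete {G : Type u} [Group G] [Finite G] (A : Subgroup G)
    (hA : Cfsg.IsElementaryAbelian 2 A) (hA3 : 2 ^ 3 ≤ Nat.card A) (θ : G → Subgroup G)
    (hθ : Cfsg.IsSolvableSignalizerFunctor 2 A θ) : SolComplete 2 A θ := by
  have : Fact (Nat.Prime 2) := ⟨Nat.prime_two⟩
  exact FunctorInduction.solComplete (fun G _ _ A θ h => no_minCounter G A θ h) _ G A θ rfl hA hA3 hθ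

/-- **The solvable signalizer functor theorem for the prime `2`** (S0217 with `p = 2`), with the
additional information that the closure is solvable. -/
theorem solvable_signalizer_functor_two {G : Type u} [Group G] [Finite G] (A : Subgroup G)
    (hAcomm : ∀ a ∈ A, ∀ b ∈ A, a * b = b * a) (hAexp : ∀ a ∈ A, a ^ 2 = 1)
    (hArank : 2 ^ 3 ≤ Nat.card A) (θ : G → Subgroup G)
    (hθC : ∀ a ∈ A, a ≠ 1 → θ a ≤ Subgroup.centralizer {a})
    (hθp : ∀ a ∈ A, a ≠ 1 → ¬ 2 ∣ Nat.card (θ a))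
    (hθinv : ∀ a ∈ A, a ≠ 1 → ∀ b ∈ A, ∀ x ∈ θ a, b * x * b⁻¹ ∈ θ a)
    (hθsolv : ∀ a ∈ A, a ≠ 1 → Group.IsSolvable (θ a))
    (hbal : ∀ a ∈ A, a ≠ 1 → ∀ b ∈ A, b ≠ 1 → θ a ⊓ Subgroup.centralizer {b} ≤ θ b) :
    ¬ 2 ∣ Nat.card ↥(⨆ a : {a : G // a ∈ A ∧ a ≠ 1}, θ a) ∧
      (∀ a ∈ A, a ≠ 1 →
        (⨆ b : {a : G // a ∈ A ∧ a ≠ 1}, θ b) ⊓ Subgroup.centralizer {a} = θ a) ∧
      Group.IsSolvable ↥(⨆ a : {a : G // a ∈ A ∧ a ≠ 1}, θ a) := by
  have : Fact (Nat.Prime 2) := ⟨Nat.prime_two⟩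
  have hA : Cfsg.IsElementaryAbelian 2 A :=
    ⟨⟨⟨fun x y => Subtype.ext (hAcomm x x.2 y y.2)⟩⟩, hAexp⟩
  have hθ : Cfsg.IsSolvableSignalizerFunctor 2 A θ := ⟨⟨hθC, hθp, hθinv, hbal⟩, hθsolv⟩
  obtain ⟨h1, h2⟩ := SolComplete.conclusion hA hθ (solComplete A hA hArank θ hθ)
  exact ⟨h1.2.1, h2, h1.1⟩

end Cfsg.Agent.SignalizersComponents.SolFunctorTwo
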