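import Mathlib
import Cfsg.Prelude.Def_Local
import Cfsg.Prelude.Def_Involutions
import Cfsg.Agent.Lib.Cores
import Cfsg.Agent.Lib.GenFitting
import Cfsg.Agent.SignalizersComponents.Components
import Cfsg.Agent.SignalizersComponents.CompBasic
import Cfsg.Agent.SignalizersComponents.CompOrbit
import Cfsg.Agent.SignalizersComponents.CoprimeBasic
import Cfsg.Agent.SignalizersComponents.StandardTools
import Cfsg.Agent.SignalizersComponents.BenderPerfect
set_option linter.all false

/-!
# Standard subgroups in groups with trivial core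

Steps of the trichotomy for a standard subgroup `A` of `G`, `O(G) = 1`, `t ∈ C_G(A)` an involution.
-/

set_option autoImplicit false
set_option linter.unusedSectionVars false

namespace Cfsg.Agent.SignalizersComponents.StandardTrichotomy

open Cfsg Subgroup Cfsg.Agent.SignalizersComponents.Components
open Cfsg.Agent.SignalizersComponents.StandardTools

variable {G : Type*} [Group G] [Finite G] {A : Subgroup G} {t : G}

theorem centralizer_involution_le (hA : IsStandardSubgroup A) (ht : orderOf t = 2)
    (htA : t ∈ centralizer (A : Set G)) :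
    centralizer ({t} : Set G) ≤ normalizer (A : Set G) := by
  have h1 : Even (Nat.card (zpowers t)) := by
    rw [Nat.card_zpowers, ht]; exact even_two
  refine le_trans ?_ (centralizer_le_of_even hA (M := zpowers t) ?_ h1)
  · intro g hg
    rw [mem_centralizer_singleton_iff] at hg
    rw [mem_centralizer_iff]
    intro x hx
    obtain ⟨k, rfl⟩ := mem_zpowers_iff.mp hx
    have : Commute g t := hg
    exact (this.zpow_right k).eq.symm
  · rw [zpowers_le]; exact htA

theorem self_le_normalizer_inf {Q : Subgroup G} (hQ : A ≤ normalizer (Q : Set G)) :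
    A ≤ normalizer ((Q ⊓ normalizer (A : Set G) : Subgroup G) : Set G) := by
  intro a ha
  have haN : a ∈ normalizer (A : Set G) := le_normalizer ha
  rw [mem_normalizer_iff]
  intro x
  rw [mem_inf, mem_inf]
  have h1 := mem_normalizer_iff.mp (hQ ha) x
  have h2 : x ∈ normalizer (A : Set G) ↔ a * x * a⁻¹ ∈ normalizer (A : Set G) := by
    constructor
    · intro hx
      exact mul_mem (mul_mem haN hx) (inv_mem haN)
    · intro hx
      have := mul_mem (mul_mem (inv_mem haN) hx) haN
      have e : a⁻¹ * (a * x * a⁻¹) * a = x := by group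
      rwa [e] at this
  rw [h1, h2]

/-- For an `A⟨t⟩`-invariant subgroup `Q` of even order not containing `A`, `Q ∩ N_G(A)` centralizes
`A` and has even order. -/
theorem inf_normalizer_le (hA : IsStandardSubgroup A) (ht : orderOf t = 2)
    (htA : t ∈ centralizer (A : Set G)) {Q : Subgroup G} (hQ : A ≤ normalizer (Q : Set G))
    (htQ : t ∈ normalizer (Q : Set G)) (he : Even (Nat.card Q)) (hAQ : ¬ A ≤ Q) :
    Q ⊓ normalizer (A : Set G) ≤ centralizer (A : Set G) ∧
      Even (Nat.card ↥(Q ⊓ normalizer (A : Set G))) := by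
  constructor
  · rcases le_or_le_centralizer hA.1 (M := Q ⊓ normalizer (A : Set G)) inf_le_right
      (self_le_normalizer_inf hQ) with h | h
    · exact absurd (h.trans inf_le_left) hAQ
    · exact h
  · have htt : t * t = 1 := by
      have := pow_orderOf_eq_one t
      rwa [ht, pow_two] at this
    obtain ⟨s, hs, hs2, hst⟩ := exists_involution_commute he htt htQ
    have hsN : s ∈ normalizer (A : Set G) := by
      apply centralizer_involution_le hA ht htA
      rw [mem_centralizer_singleton_iff]
      exact hst.symm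
    have h1 : orderOf s ∣ Nat.card ↥(Q ⊓ normalizer (A : Set G)) :=
      Subgroup.orderOf_dvd_natCard _ ⟨hs, hsN⟩
    rw [hs2] at h1
    exact even_iff_two_dvd.mpr h1

theorem lt_inf_normalizer {P Q : Subgroup G} (hP : IsPGroup 2 P) (hQ : Q < P) :
    Q < P ⊓ Subgroup.normalizer (Q : Set G) := by
  have : Group.IsNilpotent P := hP.isNilpotent
  have hnc := Group.normalizerCondition_of_isNilpotent (G := P)
  have h1 : Q.subgroupOf P < ⊤ := by
    rw [lt_top_iff_ne_top]
    intro h
    rw [Subgroup.subgroupOf_eq_top] at h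
    exact absurd h (not_le_of_gt hQ)
  have h2 := hnc _ h1
  obtain ⟨x, hx, hx'⟩ := SetLike.exists_of_lt h2
  refine lt_of_le_of_ne (le_inf hQ.le Subgroup.le_normalizer) ?_
  intro heq
  apply hx'
  rw [mem_subgroupOf, heq, mem_inf]
  refine ⟨x.2, ?_⟩
  rw [mem_normalizer_iff] at hx ⊢
  intro y
  constructor
  · intro hy
    have := (hx ⟨y, hQ.le hy⟩).mp hy
    exact this
  · intro hy
    have hyP : y ∈ P := by
      have h3 := mul_mem (mul_mem (inv_mem x.2) (hQ.le hy)) x.2
      have e : (x : G)⁻¹ * ((x : G) * y * (x : G)⁻¹) * x = y := by group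
      rwa [e] at h3
    exact (hx ⟨y, hyP⟩).mpr hy

/-- First step: if `O_2(G) ≠ 1` then `A` is normal. -/
theorem normal_of_pCore_ne_bot (hA : IsStandardSubgroup A) (ht : orderOf t = 2)
    (htA : t ∈ centralizer (A : Set G)) (hQ : pCore 2 G ≠ ⊥) : A.Normal := by
  have hQn : (pCore 2 G).Normal := Cfsg.Agent.Lib.Cores.pCore_normal 2
  have hQp : IsPGroup 2 (pCore 2 G) := Cfsg.Agent.Lib.Cores.pCore_isPGroup 2
  have hev : Even (Nat.card (pCore 2 G)) := by
    obtain ⟨n, hn⟩ := IsPGroup.iff_card.mp hQp
    have hn0 : n ≠ 0 := by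
      rintro rfl
      rw [pow_zero] at hn
      exact hQ (Subgroup.eq_bot_of_card_eq _ hn)
    rw [hn]
    exact (Nat.even_pow.mpr ⟨even_two, hn0⟩)
  have hnt : normalizer (pCore 2 G : Set G) = ⊤ := normalizer_eq_top_iff.mpr hQn
  have hAQ : ¬ A ≤ pCore 2 G := by
    intro h
    apply quasisimple_not_isSolvable hA.1
    have : Group.IsNilpotent (pCore 2 G) := hQp.isNilpotent
    exact Group.isSolvable_of_isSolvable_injective (f := inclusion h) (inclusion_injective h)
  obtain ⟨h1, h2⟩ := inf_normalizer_le hA ht htA (Q := pCore 2 G) (by rw [hnt]; exact le_top)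
    (by rw [hnt]; exact mem_top t) hev hAQ
  have h3 := normalizer_le_of_even hA h1 h2
  have h4 : pCore 2 G ⊓ normalizer (A : Set G) = pCore 2 G := by
    by_contra hne
    have hlt : pCore 2 G ⊓ normalizer (A : Set G) < pCore 2 G := lt_of_le_of_ne inf_le_left hne
    have h5 := lt_inf_normalizer hQp hlt
    exact absurd (le_inf inf_le_left (inf_le_right.trans h3)) (not_le_of_gt h5)
  rw [h4] at h1
  exact normal_of_normal_le hA h1 hev hQn

section Layer

theorem centralizer_layer_eq_bot (hO : oddCore G = ⊥) (h2 : pCore 2 G = ⊥) :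
    centralizer (layer G : Set G) = ⊥ := by
  have hF : fittingSubgroup G = ⊥ := by
    have := CompOrbit.fittingSubgroup_le_pCore (p := 2) hO
    rw [h2] at this
    exact le_bot_iff.mp this
  have h1 := Cfsg.Agent.Lib.GenFitting.centralizer_genFitting_le (G := G)
  have h3 : generalizedFittingSubgroup G = layer G := by
    show layer G ⊔ fittingSubgroup G = layer G
    rw [hF, sup_bot_eq]
  rw [h3] at h1
  have h4 := CompOrbit.inf_centralizer_self_le_pCore (p := 2) hO (layer_normal G)
  rw [h2] at h4
  rw [← le_bot_iff]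
  exact (le_inf h1 le_rfl).trans h4

theorem inf_centralizer_component (hC : centralizer (layer G : Set G) = ⊥) {L : Subgroup G}
    (hL : IsComponent L) : L ⊓ centralizer (L : Set G) = ⊥ := by
  rw [← le_bot_iff, ← hC, le_centralizer_iff, layer_le_iff]
  intro K hK
  rw [le_centralizer_iff]
  by_cases h : K = L
  · rw [h]; exact inf_le_right
  · exact inf_le_left.trans (component_le_centralizer_of_ne hL hK (fun h' => h h'.symm))

theorem isSimpleGroup_component (hC : centralizer (layer G : Set G) = ⊥) {L : Subgroup G}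
    (hL : IsComponent L) : IsSimpleGroup L := by
  have hn := quasisimple_nontrivial hL.2
  have hz : center L = ⊥ := by
    rw [eq_bot_iff]
    intro x hx
    have h1 : (x : G) ∈ L ⊓ centralizer (L : Set G) := by
      refine ⟨x.2, mem_centralizer_iff.mpr ?_⟩
      intro y hy
      exact congrArg Subtype.val (mem_center_iff.mp hx ⟨y, hy⟩)
    rw [inf_centralizer_component hC hL] at h1
    exact Subtype.ext h1
  refine ⟨fun N hN => ?_⟩
  rcases quasisimple_normal hL.2 N hN with h | h
  · exact Or.inr h
  · rw [hz] at h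
    exact Or.inl (le_bot_iff.mp h)

theorem even_card_component (hO : oddCore G = ⊥) {L : Subgroup G} (hL : IsComponent L) :
    Even (Nat.card L) := by
  by_contra hodd
  rw [Nat.not_even_iff_odd] at hodd
  have h1 : (Nat.card L).Coprime 2 := Nat.coprime_two_right.mpr hodd
  have h2 := CompBasic.subnormal_coprime_le_pPrimeCore hL.1 h1
  have h3 : pPrimeCore 2 G = ⊥ := hO
  rw [h3] at h2
  exact component_ne_bot hL (le_bot_iff.mp h2)

theorem exists_isComponent (hC : centralizer (layer G : Set G) = ⊥) (hA : A ≠ ⊥) :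
    ∃ L : Subgroup G, IsComponent L := by
  by_contra hcon
  push Not at hcon
  have h1 : layer G = ⊥ := by
    rw [← le_bot_iff, layer_le_iff]
    intro K hK
    exact absurd hK (hcon K)
  rw [h1] at hC
  apply hA
  rw [← le_bot_iff, ← hC]
  intro x _
  rw [mem_centralizer_iff]
  intro y hy
  rw [mem_bot.mp hy, one_mul, mul_one]

end Layer

theorem ne_bot (hA : IsStandardSubgroup A) : A ≠ ⊥ := by
  rintro rfl
  have := quasisimple_nontrivial hA.1
  exact not_nontrivial _ this

/-- Second step: if `A` is not contained in the layer (`C_G(E(G)) = 1`) then commuting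
involutions of `E(G)` are equal. -/
theorem eq_of_commute_of_not_le_layer (hA : IsStandardSubgroup A) (ht : orderOf t = 2)
    (htA : t ∈ centralizer (A : Set G)) (hO : oddCore G = ⊥)
    (hC : centralizer (layer G : Set G) = ⊥) (hAE : ¬ A ≤ layer G) {r s : G} (hr : r ∈ layer G)
    (hs : s ∈ layer G) (hr2 : orderOf r = 2) (hs2 : orderOf s = 2) (hrs : Commute r s) : r = s := by
  have hEn : (layer G).Normal := layer_normal G
  have hnt : normalizer (layer G : Set G) = ⊤ := normalizer_eq_top_iff.mpr hEn
  have hEev : Even (Nat.card (layer G)) := by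
    obtain ⟨L, hL⟩ := exists_isComponent hC (ne_bot hA)
    have h1 := Subgroup.card_dvd_of_le (component_le_layer hL)
    exact even_iff_two_dvd.mpr ((even_card_component hO hL).two_dvd.trans h1)
  obtain ⟨h1, h2⟩ := inf_normalizer_le hA ht htA (Q := layer G) (by rw [hnt]; exact le_top)
    (by rw [hnt]; exact mem_top t) hEev hAE
  let H : Subgroup (layer G) := (normalizer (A : Set G)).subgroupOf (layer G)
  have hHmap : H.map (layer G).subtype = layer G ⊓ normalizer (A : Set G) := by
    rw [inf_comm]; exact subgroupOf_map_subtype _ _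
  have hHcard : Nat.card H = Nat.card ↥(layer G ⊓ normalizer (A : Set G)) := by
    rw [← hHmap]
    exact Nat.card_congr (H.equivMapOfInjective _ (layer G).subtype_injective).toEquiv
  have hH : IsStronglyEmbedded H := by
    refine ⟨?_, ?_, ?_⟩
    · intro htop
      have h3 : layer G ≤ normalizer (A : Set G) := subgroupOf_eq_top.mp htop
      rw [inf_eq_left.mpr h3, le_centralizer_iff, hC] at h1
      exact ne_bot hA (le_bot_iff.mp h1)
    · rw [hHcard]; exact h2
    · intro g hg
      have hg' : (g : G) ∉ normalizer (centralizer (A : Set G) : Set G) := by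
        intro h
        rw [← hA.2.2.2] at h
        exact hg (mem_subgroupOf.mpr h)
      have hodd := hA.2.1.2 g hg'
      have hle : (H ⊓ H.map (MulAut.conj g).toMonoidHom).map (layer G).subtype ≤
          centralizer (A : Set G) ⊓ (centralizer (A : Set G)).map (MulAut.conj (g : G)).toMonoidHom := by
        rintro _ ⟨x, ⟨hx1, y, hy, hyx⟩, rfl⟩
        refine ⟨h1 ⟨x.2, mem_subgroupOf.mp hx1⟩, (y : G), h1 ⟨y.2, mem_subgroupOf.mp hy⟩, ?_⟩
        have := congrArg (Subtype.val) hyx
        exact this
      have h3 := Subgroup.card_dvd_of_le hle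
      have h4 : Nat.card ↥((H ⊓ H.map (MulAut.conj g).toMonoidHom).map (layer G).subtype) =
          Nat.card ↥(H ⊓ H.map (MulAut.conj g).toMonoidHom) :=
        (Nat.card_congr ((H ⊓ H.map (MulAut.conj g).toMonoidHom).equivMapOfInjective _
          (layer G).subtype_injective).toEquiv).symm
      rw [h4] at h3
      exact Odd.of_dvd_nat hodd h3
  let φ : A →* MulAut (layer G) := MulAut.conjNormal.comp A.subtype
  have hφ : ∀ (a : A) (g : layer G), ((φ a g : layer G) : G) = a * g * (a : G)⁻¹ :=
    fun a g => MulAut.conjNormal_apply _ _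
  have hfix : ∀ g : layer G, g ∈ H ↔ ∀ a : A, φ a g = g := by
    intro g
    constructor
    · intro hg a
      apply Subtype.ext
      rw [hφ]
      have h3 : (g : G) ∈ centralizer (A : Set G) := h1 ⟨g.2, mem_subgroupOf.mp hg⟩
      rw [mem_centralizer_iff.mp h3 a a.2]
      group
    · intro h
      rw [mem_subgroupOf]
      apply centralizer_le_normalizer
      rw [mem_centralizer_iff]
      intro a ha
      have h3 := congrArg Subtype.val (h ⟨a, ha⟩)
      rw [hφ] at h3
      nth_rewrite 2 [← h3]
      group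
  have h5 := BenderPerfect.eq_of_commute_of_perfect hA.1.1 φ hH hfix
    (s := ⟨r, hr⟩) (t := ⟨s, hs⟩) (by rw [Subgroup.orderOf_mk]; exact hr2)
    (by rw [Subgroup.orderOf_mk]; exact hs2) (Subtype.ext hrs)
  exact congrArg Subtype.val h5

section Final

/-- If `A ≤ E(G)` and some component centralizes `A`, then `A` is normal. -/
theorem normal_of_component_le (hA : IsStandardSubgroup A) (hO : oddCore G = ⊥)
    (hAE : A ≤ layer G) {L : Subgroup G} (hL : IsComponent L)
    (hLA : L ≤ centralizer (A : Set G)) : A.Normal :=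
  normal_of_layer_le hA hAE ((layer_le_normalizer_component hL).trans
    (normalizer_le_of_even hA hLA (even_card_component hO hL)))

theorem le_normalizer_inf {Q R : Subgroup G} (hQ : A ≤ normalizer (Q : Set G))
    (hR : A ≤ normalizer (R : Set G)) : A ≤ normalizer ((Q ⊓ R : Subgroup G) : Set G) := by
  intro a ha
  rw [mem_normalizer_iff]
  intro x
  rw [mem_inf, mem_inf, mem_normalizer_iff.mp (hQ ha) x, mem_normalizer_iff.mp (hR ha) x]

theorem conj_mem_map {t x : G} {L : Subgroup G} (hx : x ∈ L) :
    t * x * t⁻¹ ∈ L.map (MulAut.conj t).toMonoidHom := ⟨x, hx, rfl⟩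

/-- If `A ≤ E(G)` normalizes no..: a component normalized by `t`, with a second component. -/
theorem normal_of_normalized_component (hA : IsStandardSubgroup A) (ht : orderOf t = 2)
    (htA : t ∈ centralizer (A : Set G)) (hO : oddCore G = ⊥) (hAE : A ≤ layer G)
    {L L' : Subgroup G} (hL : IsComponent L) (hL' : IsComponent L') (hne : L ≠ L')
    (htL : t ∈ normalizer (L : Set G)) : A.Normal := by
  have htt : t * t = 1 := by
    have := pow_orderOf_eq_one t
    rwa [ht, pow_two] at this
  have hAL : A ≤ normalizer (L : Set G) := hAE.trans (layer_le_normalizer_component hL)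
  have hAL' : A ≤ normalizer (L' : Set G) := hAE.trans (layer_le_normalizer_component hL')
  have hAt : A ≤ centralizer ({t} : Set G) := by
    intro a ha
    rw [mem_centralizer_singleton_iff]
    exact mem_centralizer_iff.mp htA a ha
  have hcN := centralizer_involution_le hA ht htA
  rcases le_or_le_centralizer hA.1 (M := L ⊓ centralizer ({t} : Set G)) (inf_le_right.trans hcN)
    (le_normalizer_inf hAL (hAt.trans le_normalizer)) with h | h
  · -- `A ≤ L`, so `L'` centralizes `A`
    refine normal_of_component_le hA hO hAE hL' ?_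
    exact (component_le_centralizer_of_ne hL' hL hne.symm).trans
      (centralizer_le (h.trans inf_le_left))
  · -- `C_L(t) ≤ C(A)`
    have hev : Even (Nat.card ↥(L ⊓ centralizer ({t} : Set G))) := by
      obtain ⟨s, hs, hs2, hst⟩ := exists_involution_commute (even_card_component hO hL) htt htL
      have h1 : orderOf s ∣ Nat.card ↥(L ⊓ centralizer ({t} : Set G)) :=
        Subgroup.orderOf_dvd_natCard _ ⟨hs, mem_centralizer_singleton_iff.mpr hst.symm⟩
      rw [hs2] at h1
      exact even_iff_two_dvd.mpr h1
    have h2 : L' ≤ normalizer (A : Set G) :=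
      ((component_le_centralizer_of_ne hL' hL hne.symm).trans (centralizer_le inf_le_left)).trans
        (centralizer_le_of_even hA h hev)
    rcases le_or_le_centralizer hA.1 h2 hAL' with h3 | h3
    · refine normal_of_component_le hA hO hAE hL ?_
      exact (component_le_centralizer_of_ne hL hL' hne).trans (centralizer_le h3)
    · exact normal_of_component_le hA hO hAE hL' h3

theorem swap_case (hA : IsStandardSubgroup A) (ht : orderOf t = 2)
    (htA : t ∈ centralizer (A : Set G)) (hO : oddCore G = ⊥)
    (hC : centralizer (layer G : Set G) = ⊥) (hAE : A ≤ layer G) (hnn : ¬ A.Normal)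
    {L : Subgroup G} (hL : IsComponent L) (htL : t ∉ normalizer (L : Set G)) :
    IsSimpleGroup ↥L ∧ ¬ IsMulCommutative ↥L ∧ Nonempty (↥L ≃* ↥A) ∧
      (∀ a ∈ L, ∀ b ∈ L.map (MulAut.conj t).toMonoidHom, a * b = b * a) ∧
      L ⊓ L.map (MulAut.conj t).toMonoidHom = ⊥ ∧
      L ⊔ L.map (MulAut.conj t).toMonoidHom = layer G ∧
      centralizer (A : Set G) = zpowers t := by
  have htt : t * t = 1 := by
    have := pow_orderOf_eq_one t
    rwa [ht, pow_two] at this
  have hti : t⁻¹ = t := inv_eq_of_mul_eq_one_right htt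
  have hττ : ∀ x : G, t * (t * x * t⁻¹) * t⁻¹ = x := by
    intro x
    have : t * (t * x * t⁻¹) * t⁻¹ = (t * t) * x * (t * t)⁻¹ := by group
    rw [this, htt]; simp
  set Lt := L.map (MulAut.conj t).toMonoidHom with hLtdef
  have hLt : IsComponent Lt := isComponent_conj t hL
  have hne : Lt ≠ L := fun h => htL (mem_normalizer_iff_map_conj_eq.mpr h)
  have hcomm : ∀ a ∈ L, ∀ b ∈ Lt, a * b = b * a := by
    intro a ha b hb
    exact mem_centralizer_iff.mp (component_le_centralizer_of_ne hLt hL hne hb) a ha
  have hinf : L ⊓ Lt = ⊥ := by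
    rw [← le_bot_iff, ← inf_centralizer_component hC hL]
    exact inf_le_inf le_rfl (component_le_centralizer_of_ne hLt hL hne)
  have huniq : ∀ x ∈ L, ∀ x' ∈ L, ∀ y ∈ Lt, ∀ y' ∈ Lt, x * y = x' * y' → x = x' ∧ y = y' := by
    intro x hx x' hx' y hy y' hy' h
    have h1 : x'⁻¹ * x = y' * y⁻¹ := by
      rw [inv_mul_eq_iff_eq_mul, ← mul_assoc, ← h]; group
    have h2 : x'⁻¹ * x ∈ L ⊓ Lt :=
      mem_inf.mpr ⟨mul_mem (inv_mem hx') hx, by rw [h1]; exact mul_mem hy' (inv_mem hy)⟩
    rw [hinf, mem_bot] at h2
    have h3 : x = x' := by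
      rw [inv_mul_eq_one] at h2
      exact h2.symm
    refine ⟨h3, ?_⟩
    rw [h3] at h
    exact mul_left_cancel h
  have hno : ∀ K : Subgroup G, IsComponent K → ¬ K ≤ centralizer (A : Set G) :=
    fun K hK h => hnn (normal_of_component_le hA hO hAE hK h)
  have hAt : A ≤ centralizer ({t} : Set G) := by
    intro a ha
    rw [mem_centralizer_singleton_iff]
    exact mem_centralizer_iff.mp htA a ha
  have hcN := centralizer_involution_le hA ht htA
  have hτL : ∀ x ∈ L, t * x * t⁻¹ ∈ Lt := fun x hx => conj_mem_map hx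
  have hdiag : ∀ x ∈ L, x * (t * x * t⁻¹) ∈ (L ⊔ Lt) ⊓ centralizer ({t} : Set G) := by
    intro x hx
    refine ⟨mul_mem ((le_sup_left : L ≤ L ⊔ Lt) hx) ((le_sup_right : Lt ≤ L ⊔ Lt) (hτL x hx)), ?_⟩
    show _ ∈ centralizer ({t} : Set G)
    rw [mem_centralizer_singleton_iff]
    have h1 : t * (x * (t * x * t⁻¹)) * t⁻¹ = x * (t * x * t⁻¹) := by
      have e : t * (x * (t * x * t⁻¹)) * t⁻¹ = (t * x * t⁻¹) * (t * (t * x * t⁻¹) * t⁻¹) := by group
      rw [e, hττ, hcomm x hx _ (hτL x hx)]
    nth_rewrite 1 [← h1]
    group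
  -- `A` normalizes `L`, `Lt` and `L ⊔ Lt`
  have hAL : A ≤ normalizer (L : Set G) := hAE.trans (layer_le_normalizer_component hL)
  have hALt : A ≤ normalizer (Lt : Set G) := hAE.trans (layer_le_normalizer_component hLt)
  have hAsup : A ≤ normalizer ((L ⊔ Lt : Subgroup G) : Set G) := by
    intro a ha
    rw [mem_normalizer_iff_map_conj_eq, Subgroup.map_sup,
      mem_normalizer_iff_map_conj_eq.mp (hAL ha), mem_normalizer_iff_map_conj_eq.mp (hALt ha)]
  have hAD : A ≤ (L ⊔ Lt) ⊓ centralizer ({t} : Set G) := by
    rcases le_or_le_centralizer hA.1 (M := (L ⊔ Lt) ⊓ centralizer ({t} : Set G))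
      (inf_le_right.trans hcN) (le_normalizer_inf hAsup (hAt.trans le_normalizer)) with h | h
    · exact h
    · exfalso
      refine hno L hL ?_
      intro x hx
      rw [mem_centralizer_iff]
      intro a ha
      have h1 := mem_centralizer_iff.mp (h (hdiag x hx)) a ha
      have h2 : (a * x * a⁻¹) * (a * (t * x * t⁻¹) * a⁻¹) = x * (t * x * t⁻¹) := by
        have e : (a * x * a⁻¹) * (a * (t * x * t⁻¹) * a⁻¹) = a * (x * (t * x * t⁻¹)) * a⁻¹ := by
          group
        rw [e, h1]; group
      have h3 := huniq _ ((mem_normalizer_iff.mp (hAL ha) x).mp hx) _ hx _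
        ((mem_normalizer_iff.mp (hALt ha) _).mp (hτL x hx)) _ (hτL x hx) h2
      have h4 := h3.1
      nth_rewrite 2 [← h4]
      group
  -- the components are `L` and `Lt`
  have hall : ∀ K : Subgroup G, IsComponent K → K = L ∨ K = Lt := by
    intro K hK
    by_contra hcon
    push Not at hcon
    refine hno K hK ?_
    have h1 : K ≤ centralizer ((L ⊔ Lt : Subgroup G) : Set G) := by
      rw [le_centralizer_iff, sup_le_iff]
      exact ⟨component_le_centralizer_of_ne hL hK hcon.1.symm,
        component_le_centralizer_of_ne hLt hK hcon.2.symm⟩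
    exact h1.trans (centralizer_le (hAD.trans inf_le_left))
  have hsup : L ⊔ Lt = layer G := by
    apply le_antisymm (sup_le (component_le_layer hL) (component_le_layer hLt))
    rw [layer_le_iff]
    intro K hK
    rcases hall K hK with h | h
    · rw [h]; exact le_sup_left
    · rw [h]; exact le_sup_right
  have hLsimple := isSimpleGroup_component hC hL
  -- the diagonal
  let δ : L →* G :=
    { toFun := fun x => (x : G) * (t * x * t⁻¹)
      map_one' := by simp
      map_mul' := by
        rintro ⟨x, hx⟩ ⟨y, hy⟩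
        show (x * y) * (t * (x * y) * t⁻¹) = x * (t * x * t⁻¹) * (y * (t * y * t⁻¹))
        have h := hcomm y hy _ (hτL x hx)
        calc (x * y) * (t * (x * y) * t⁻¹) = x * (y * (t * x * t⁻¹)) * (t * y * t⁻¹) := by group
          _ = x * ((t * x * t⁻¹) * y) * (t * y * t⁻¹) := by rw [h]
          _ = (x * (t * x * t⁻¹)) * (y * (t * y * t⁻¹)) := by group }
  have hδ : ∀ x : L, δ x = (x : G) * (t * x * t⁻¹) := fun x => rfl
  have hδinj : Function.Injective δ := by
    intro x y h
    rw [hδ, hδ] at h
    exact Subtype.ext (huniq _ x.2 _ y.2 _ (hτL _ x.2) _ (hτL _ y.2) h).1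
  have hDrange : (L ⊔ Lt) ⊓ centralizer ({t} : Set G) ≤ δ.range := by
    rintro n ⟨hn1, hn2⟩
    have hcen : Lt ≤ centralizer (L : Set G) := component_le_centralizer_of_ne hLt hL hne
    obtain ⟨x, hx, y', hy', rfl⟩ :=
      (CoprimeBasic.mem_sup_iff (hcen.trans (centralizer_le_normalizer _)) n).mp hn1
    obtain ⟨y, hy, hyy⟩ := hy'
    have hyy' : y' = t * y * t⁻¹ := hyy.symm
    have h1 : (x * y') * t = t * (x * y') := mem_centralizer_singleton_iff.mp hn2
    have h2 : x * y' = y * (t * x * t⁻¹) := by
      have e1 : x * y' = t * (x * y') * t⁻¹ := by rw [← h1]; group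
      rw [e1, hyy']
      have e2 : t * (x * (t * y * t⁻¹)) * t⁻¹ = (t * x * t⁻¹) * (t * (t * y * t⁻¹) * t⁻¹) := by
        group
      rw [e2, hττ, hcomm y hy _ (hτL x hx)]
    have h3 := huniq x hx y hy y' (by rw [hyy']; exact hτL y hy) _ (hτL x hx) h2
    exact ⟨⟨x, hx⟩, by rw [hδ]; show x * (t * x * t⁻¹) = x * y'; rw [h3.2]⟩
  have hAr : A = δ.range := by
    apply le_antisymm (hAD.trans hDrange)
    have hn : (A.comap δ).Normal := by
      refine ⟨fun x hx y => ?_⟩
      rw [mem_comap] at hx ⊢
      rw [map_mul, map_mul, map_inv]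
      exact (mem_normalizer_iff.mp (hcN (hdiag y y.2).2) _).mp hx
    rcases hn.eq_bot_or_eq_top with h | h
    · exfalso
      apply ne_bot hA
      rw [eq_bot_iff]
      intro a ha
      obtain ⟨x, rfl⟩ := hDrange (hAD ha)
      have : x ∈ A.comap δ := ha
      rw [h, mem_bot] at this
      rw [this, map_one]; exact one_mem _
    · rintro _ ⟨x, rfl⟩
      have : x ∈ A.comap δ := by rw [h]; exact mem_top x
      exact this
  have hδA : ∀ x ∈ L, x * (t * x * t⁻¹) ∈ A := by
    intro x hx
    rw [hAr]
    exact ⟨⟨x, hx⟩, rfl⟩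
  -- elements of `C(A)` normalizing `L` are trivial
  have hkey : ∀ k ∈ centralizer (A : Set G), L.map (MulAut.conj k).toMonoidHom = L → k = 1 := by
    intro k hk hkL
    have hkLt : Lt.map (MulAut.conj k).toMonoidHom = Lt := by
      rcases hall _ (isComponent_conj k hLt) with h | h
      · exfalso
        apply hne
        rw [← hkL] at h
        exact Subgroup.map_injective (MulAut.conj k).injective h
      · exact h
    have h1 : k ∈ centralizer ((L ⊔ Lt : Subgroup G) : Set G) := by
      have h2 : ∀ x ∈ L, k * x * k⁻¹ = x ∧ k * (t * x * t⁻¹) * k⁻¹ = t * x * t⁻¹ := by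
        intro x hx
        refine huniq _ ?_ _ hx _ ?_ _ (hτL x hx) ?_
        · rw [← hkL]; exact ⟨x, hx, rfl⟩
        · rw [← hkLt]; exact ⟨_, hτL x hx, rfl⟩
        · have e : k * x * k⁻¹ * (k * (t * x * t⁻¹) * k⁻¹) = k * (x * (t * x * t⁻¹)) * k⁻¹ := by
            group
          rw [e, ← mem_centralizer_iff.mp hk _ (hδA x hx)]
          group
      rw [← zpowers_le, le_centralizer_iff, sup_le_iff]
      constructor
      · rw [le_centralizer_iff, zpowers_le, mem_centralizer_iff]
        intro x hx
        have := (h2 x hx).1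
        nth_rewrite 1 [← this]
        group
      · rw [le_centralizer_iff, zpowers_le, mem_centralizer_iff]
        rintro _ ⟨x, hx, rfl⟩
        have h3 : (MulAut.conj t).toMonoidHom x = t * x * t⁻¹ := rfl
        rw [h3]
        have := (h2 x hx).2
        nth_rewrite 1 [← this]
        group
    rw [hsup, hC, mem_bot] at h1
    exact h1
  refine ⟨hLsimple, quasisimple_not_isMulCommutative hL.2, ?_, hcomm, hinf, hsup, ?_⟩
  · exact ⟨(MonoidHom.ofInjective hδinj).trans (MulEquiv.subgroupCongr hAr.symm)⟩
  · apply le_antisymm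
    · intro k hk
      rcases hall _ (isComponent_conj k hL) with h | h
      · rw [hkey k hk h]; exact one_mem _
      · have hk' : t⁻¹ * k ∈ centralizer (A : Set G) := mul_mem (inv_mem htA) hk
        have h1 : L.map (MulAut.conj (t⁻¹ * k)).toMonoidHom = L := by
          have e : (MulAut.conj (t⁻¹ * k)).toMonoidHom =
              (MulAut.conj t⁻¹).toMonoidHom.comp (MulAut.conj k).toMonoidHom := by
            ext x; simp [mul_assoc]
          rw [e, ← Subgroup.map_map, h, hLtdef, Subgroup.map_map]
          have e2 : (MulAut.conj t⁻¹).toMonoidHom.comp (MulAut.conj t).toMonoidHom =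
              MonoidHom.id G := by
            ext x; simp [mul_assoc]
          rw [e2, Subgroup.map_id]
        have h2 := hkey _ hk' h1
        rw [inv_mul_eq_one] at h2
        rw [← h2]; exact mem_zpowers t
    · rw [zpowers_le]; exact htA

end Final

end Cfsg.Agent.SignalizersComponents.StandardTrichotomy
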