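import Cfsg.Prelude.Def_Local
import Cfsg.Agent.Lib.Cores
import Cfsg.Agent.Lib.ComponentSolvable
set_option linter.all false

/-!
The quotient of a `p`-component by its `p'`-core is quasisimple, and a `p`-component is quasisimple
iff it centralizes its `p'`-core.
-/

set_option autoImplicit false

namespace Cfsg.Agent.SignalizersComponents.PCompQuot

open Subgroup Cfsg

/-- Quasisimplicity is invariant under isomorphism. -/
theorem quasisimple_congr {H L : Type*} [Group H] [Group L] (e : H ≃* L) (hH : IsQuasisimple H) :
    IsQuasisimple L := by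
  obtain ⟨h1, h2⟩ := hH
  refine ⟨?_, ?_⟩
  · have := h1
    exact Group.IsPerfect.ofSurjective (f := e.toMonoidHom) e.surjective
  · have hc : (center H).map e.toMonoidHom = center L := by
      ext x
      simp only [Subgroup.mem_map, Subgroup.mem_center_iff]
      constructor
      · rintro ⟨y, hy, rfl⟩ g
        have := hy (e.symm g)
        have h3 := congrArg e this
        simpa using h3
      · intro hx
        refine ⟨e.symm x, fun g => ?_, by simp⟩
        have := hx (e g)
        have h3 := congrArg e.symm this
        simpa using h3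
    have := h2
    have : Nontrivial (L ⧸ center L) :=
      (QuotientGroup.congr (center H) (center L) e hc).symm.toEquiv.nontrivial
    exact IsSimpleGroup.isSimpleGroup_of_surjective
      (QuotientGroup.congr (center H) (center L) e hc).toMonoidHom
      (QuotientGroup.congr (center H) (center L) e hc).surjective

/-- For `K` subnormal in the finite group `G`, `O_{p'}(K) = K ⊓ O_{p'}(G)`. -/
theorem map_subtype_pPrimeCore_subnormal {G : Type*} [Group G] [Finite G] (p : ℕ)
    {K : Subgroup G} (hK : K.IsSubnormal) :
    (pPrimeCore p K).map K.subtype = K ⊓ pPrimeCore p G := by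
  induction hK with
  | top => exact Lib.Cores.map_subtype_pPrimeCore p inferInstance
  | step H K h _ hN ih =>
    have h1 := Lib.Cores.map_subtype_pPrimeCore p hN
    have h2 := Lib.Cores.map_equiv_pPrimeCore (subgroupOfEquivOfLe h) p
    rw [← h2, map_map]
    have h3 : (H.subtype.comp (subgroupOfEquivOfLe h).toMonoidHom) =
        K.subtype.comp (H.subgroupOf K).subtype := by
      ext x; rfl
    rw [h3, ← map_map, h1]
    rw [Subgroup.map_inf _ _ _ K.subtype_injective, ih, subgroupOf_map_subtype]
    rw [← inf_assoc, inf_assoc H K K, inf_idem, inf_eq_left.mpr h]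

/-- The `p'`-core of a subnormal subgroup, in terms of membership. -/
theorem mem_pPrimeCore_of_subnormal {G : Type*} [Group G] [Finite G] {p : ℕ}
    {K : Subgroup G} (hK : K.IsSubnormal) (x : K) :
    x ∈ pPrimeCore p K ↔ (x : G) ∈ pPrimeCore p G := by
  have h := map_subtype_pPrimeCore_subnormal p hK
  constructor
  · intro hx
    have : (x : G) ∈ (pPrimeCore p K).map K.subtype := ⟨x, hx, rfl⟩
    rw [h] at this
    exact this.2
  · intro hx
    have : (x : G) ∈ K ⊓ pPrimeCore p G := ⟨x.2, hx⟩
    rw [← h] at this
    obtain ⟨y, hy, hyx⟩ := this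
    have : y = x := Subtype.ext hyx
    rwa [← this]

/-- `K / O_{p'}(K)` is isomorphic to the image of `K` in `G / O_{p'}(G)` when `K` is subnormal. -/
theorem exists_quotient_equiv {G : Type*} [Group G] [Finite G] (p : ℕ)
    {K : Subgroup G} (hK : K.IsSubnormal) :
    ∃ e : (K ⧸ pPrimeCore p K) ≃* K.map (QuotientGroup.mk' (pPrimeCore p G)),
      ∀ x : K, ((e (QuotientGroup.mk x) : K.map (QuotientGroup.mk' (pPrimeCore p G))) :
        G ⧸ pPrimeCore p G) = QuotientGroup.mk (x : G) := by
  have hker : pPrimeCore p K = ((QuotientGroup.mk' (pPrimeCore p G)).subgroupMap K).ker := by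
    ext x
    rw [mem_pPrimeCore_of_subnormal hK, MonoidHom.mem_ker, Subtype.ext_iff]
    exact (QuotientGroup.eq_one_iff (x : G)).symm
  refine ⟨(QuotientGroup.quotientMulEquivOfEq hker).trans
    (QuotientGroup.quotientKerEquivOfSurjective _
      ((QuotientGroup.mk' (pPrimeCore p G)).subgroupMap_surjective K)), fun x => rfl⟩

/-- **S1275 for every `p`.** The quotient of a `p`-component by its `p'`-core is quasisimple. -/
theorem quasisimple_quotient {X : Type*} [Group X] [Finite X] {p : ℕ} {K : Subgroup X}
    (hK : IsPComponent p K) : IsQuasisimple (↥K ⧸ pPrimeCore p ↥K) := by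
  obtain ⟨e, _⟩ := exists_quotient_equiv p hK.1
  exact quasisimple_congr e.symm hK.2.1.2

/-- A `p`-component is perfect. -/
theorem perfect_of_pComponent {X : Type*} [Group X] [Finite X] {p : ℕ} {K : Subgroup X}
    (hK : IsPComponent p K) : Group.IsPerfect K := by
  obtain ⟨hsub, hcomp, hmin⟩ := hK
  rw [isPerfect_iff]
  apply hmin
  · refine IsSubnormal.trans (K := K) (commutator_le_self K) ?_ hsub
    apply Normal.isSubnormal
    rw [normal_subgroupOf_iff_le_normalizer (commutator_le_self K), le_normalizer_iff_commutator_le_left]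
    exact commutator_mono (commutator_le_self K) le_rfl
  · exact commutator_le_self K
  · rw [map_commutator]
    exact isPerfect_iff.mp hcomp.2.1

/-- If `K` is perfect and `N` is a central subgroup with `K / N` quasisimple, then `K` is
quasisimple. -/
theorem quasisimple_of_central_quotient {K : Type*} [Group K] (hK : Group.IsPerfect K)
    {N : Subgroup K} [N.Normal] (hN : N ≤ center K) (hq : IsQuasisimple (K ⧸ N)) :
    IsQuasisimple K := by
  refine ⟨hK, ?_⟩
  -- the centre of `K / N` is `Z(K) / N`
  have hc : (center K).map (QuotientGroup.mk' N) = center (K ⧸ N) := by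
    apply le_antisymm
    · rintro _ ⟨x, hx, rfl⟩
      rw [Subgroup.mem_center_iff]
      intro g
      obtain ⟨y, rfl⟩ := QuotientGroup.mk'_surjective N g
      rw [← map_mul, ← map_mul, Subgroup.mem_center_iff.mp hx y]
    · intro g hg
      obtain ⟨x, rfl⟩ := QuotientGroup.mk'_surjective N g
      refine ⟨x, ?_, rfl⟩
      -- the image of `x` in `K / Z(K)` is central
      have h1 : (QuotientGroup.mk' (center K)) x ∈ center (K ⧸ center K) := by
        rw [Subgroup.mem_center_iff]
        intro z
        obtain ⟨y, rfl⟩ := QuotientGroup.mk'_surjective (center K) z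
        have h2 := Subgroup.mem_center_iff.mp hg (QuotientGroup.mk' N y)
        rw [← map_mul, ← map_mul, QuotientGroup.mk'_eq_mk'] at h2
        obtain ⟨z, hz, hz'⟩ := h2
        rw [← map_mul, ← map_mul, QuotientGroup.mk'_eq_mk']
        exact ⟨z, hN hz, hz'⟩
      have := hK
      rw [Group.IsPerfect.center_quotient_center_eq_bot, Subgroup.mem_bot] at h1
      exact (QuotientGroup.eq_one_iff x).mp h1
  have := hq.2
  have e1 : (K ⧸ N) ⧸ center (K ⧸ N) ≃* (K ⧸ N) ⧸ (center K).map (QuotientGroup.mk' N) :=
    QuotientGroup.quotientMulEquivOfEq hc.symm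
  have e := e1.trans (QuotientGroup.quotientQuotientEquivQuotient N (center K) hN)
  have hn : Nontrivial (K ⧸ center K) := e.symm.toEquiv.nontrivial
  exact IsSimpleGroup.isSimpleGroup_of_surjective e.toMonoidHom e.surjective

/-- The `p'`-core of a `p`-component is a proper subgroup. -/
theorem pPrimeCore_ne_top {X : Type*} [Group X] [Finite X] {p : ℕ} {K : Subgroup X}
    (hK : IsPComponent p K) : pPrimeCore p K ≠ ⊤ := by
  intro h
  have h1 := quasisimple_quotient hK
  have h2 := Lib.ComponentSolvable.quasisimple_nontrivial h1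
  have h3 : Subsingleton (K ⧸ pPrimeCore p K) := QuotientGroup.subsingleton_iff.mpr h
  exact not_subsingleton _ h3

/-- The subgroup `N` of `K` is central iff `[K, N] = 1`. -/
theorem commutator_map_subtype_eq_bot_iff {X : Type*} [Group X] {K : Subgroup X}
    {N : Subgroup K} : ⁅K, N.map K.subtype⁆ = ⊥ ↔ N ≤ center K := by
  rw [commutator_comm, commutator_eq_bot_iff_le_centralizer]
  constructor
  · intro h x hx
    rw [Subgroup.mem_center_iff]
    intro g
    have h1 := h ⟨x, hx, rfl⟩
    rw [mem_centralizer_iff] at h1
    exact Subtype.ext (h1 g g.2)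
  · rintro h _ ⟨x, hx, rfl⟩
    rw [mem_centralizer_iff]
    intro g hg
    have h1 := Subgroup.mem_center_iff.mp (h hx) ⟨g, hg⟩
    exact congrArg Subtype.val h1

/-- **S1276 for every `p`.** A `p`-component is quasisimple iff it centralizes its `p'`-core. -/
theorem quasisimple_iff_commutator {X : Type*} [Group X] [Finite X] {p : ℕ} {K : Subgroup X}
    (hK : IsPComponent p K) :
    IsQuasisimple ↥K ↔ ⁅K, ((pPrimeCore p ↥K).map K.subtype)⁆ = ⊥ := by
  rw [commutator_map_subtype_eq_bot_iff]
  constructor
  · intro hq
    rcases Lib.ComponentSolvable.quasisimple_normal_cases hq (Lib.Cores.pPrimeCore_normal p) with h | h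
    · exact absurd h (pPrimeCore_ne_top hK)
    · exact h
  · intro h
    exact quasisimple_of_central_quotient (perfect_of_pComponent hK) h (quasisimple_quotient hK)

end Cfsg.Agent.SignalizersComponents.PCompQuot
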