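import Mathlib.LinearAlgebra.Projectivization.PSL.PSL2
import Mathlib.FieldTheory.Finite.Basic
import Cfsg.Prelude.Def_CaseTheorems
import Cfsg.Agent.LieClassical.SLGen
set_option linter.all false

/-!
# `SL_n(F)` is quasisimple; `SL_n(q)` has even order for `q` odd
-/

set_option autoImplicit false

namespace Cfsg.Agent.SignalizersComponents.SLQuasisimple

open Matrix Cfsg

/-- `SL_n(F)` is quasisimple for `n ≥ 3`, any field. -/
theorem isQuasisimple_of_three_le {ι F : Type*} [Field F] [Fintype ι] [DecidableEq ι]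
    (h : 3 ≤ Fintype.card ι) : IsQuasisimple (Matrix.SpecialLinearGroup ι F) :=
  ⟨⟨Cfsg.Agent.LieClassical.SLGen.commutator_eq_top h⟩,
    Cfsg.Agent.LieClassical.SLGen.psl_isSimpleGroup h⟩

/-- `SL_2(F)` is quasisimple when some `a ≠ 0` has `a² ≠ 1`. -/
theorem isQuasisimple_two' {F : Type*} [Field F] (hF : ∃ a : F, a ≠ 0 ∧ a ^ 2 ≠ 1) :
    IsQuasisimple (Matrix.SpecialLinearGroup (Fin 2) F) := by
  refine ⟨⟨?_⟩, Matrix.ProjectiveSpecialLinearGroup.rank_two_simple' hF⟩
  obtain ⟨a, ha, hasq⟩ := hF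
  exact SL2.commutator_eq_top ha hasq

/-- In a finite field with at least 4 elements some `a ≠ 0` has `a² ≠ 1`. -/
theorem exists_sq_ne_one {F : Type*} [Field F] (hF : 4 ≤ Nat.card F) :
    ∃ a : F, a ≠ 0 ∧ a ^ 2 ≠ 1 := by
  have : Finite F := (Nat.card_pos_iff.1 (by omega)).2
  obtain ⟨x, hx⟩ : IsCyclic Fˣ := by infer_instance
  refine ⟨x, Units.ne_zero x, fun h ↦ ?_⟩
  have h1 : orderOf x ≤ 2 := orderOf_le_of_pow_eq_one zero_lt_two (Units.ext <| by simpa using h)
  have h2 := orderOf_eq_card_of_forall_mem_zpowers hx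
  have h3 := Nat.card_eq_card_units_add_one F
  omega

/-- `SL_2(q)` is quasisimple for `q ≥ 4`. -/
theorem isQuasisimple_two {F : Type*} [Field F] (hF : 4 ≤ Nat.card F) :
    IsQuasisimple (Matrix.SpecialLinearGroup (Fin 2) F) :=
  isQuasisimple_two' (exists_sq_ne_one hF)

/-- `SL_n(q)`, `n ≥ 2`, `q` odd, has even order. -/
theorem even_card {ι F : Type*} [Field F] [Finite F] [Fintype ι] [DecidableEq ι] [Nontrivial ι]
    (h2 : (2 : F) ≠ 0) : Even (Nat.card (Matrix.SpecialLinearGroup ι F)) := by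
  obtain ⟨i, j, hij⟩ := exists_pair_ne ι
  have hm : (-1 : F) ≠ 0 := neg_ne_zero.mpr one_ne_zero
  set x : Matrix.SpecialLinearGroup ι F := Matrix.SpecialLinearGroup.diag2n hij (-1) hm with hx
  have hcoe : (x : Matrix ι ι F) = diagonal (fun k ↦
      if k = i then -1 else if k = j then (-1)⁻¹ else 1) := rfl
  have hxx : x ^ 2 = 1 := by
    apply Subtype.ext
    change (x : Matrix ι ι F) ^ 2 = 1
    rw [hcoe, pow_two, diagonal_mul_diagonal, ← diagonal_one]
    congr 1
    funext k
    by_cases hk : k = i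
    · simp [hk]
    · by_cases hk' : k = j
      · simp [hk', inv_neg]
      · simp [hk, hk']
  have hx1 : x ≠ 1 := by
    intro h
    have h3 : (x : Matrix ι ι F) i i = 1 := by rw [h]; simp
    rw [hcoe] at h3
    simp at h3
    apply h2
    have h4 : (1 : F) + 1 = 0 := by
      nth_rewrite 1 [← h3]
      ring
    rw [← h4]
    norm_num
  have hord : orderOf x = 2 := orderOf_eq_prime hxx hx1
  have hdvd := orderOf_dvd_natCard x
  rw [hord] at hdvd
  exact even_iff_two_dvd.mpr hdvd

/-- In a finite field of odd order, `2 ≠ 0`. -/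
theorem two_ne_zero_of_odd {F : Type*} [Field F] [Fintype F] (hF : Odd (Fintype.card F)) :
    (2 : F) ≠ 0 := by
  intro h
  have h1 : CharP F 2 := by
    have := CharP.exists F
    obtain ⟨p, hp⟩ := this
    have h3 : p ∣ 2 := (CharP.cast_eq_zero_iff F p 2).mp (by exact_mod_cast h)
    rcases (Nat.dvd_prime Nat.prime_two).mp h3 with h4 | h4
    · subst h4
      exact absurd rfl (CharP.char_ne_one F 1)
    · rwa [h4] at hp
  have h2 := FiniteField.even_card_of_char_two (F := F) (ringChar.eq F 2)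
  rw [Nat.odd_iff] at hF
  omega

end Cfsg.Agent.SignalizersComponents.SLQuasisimple
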