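import Mathlib
import Cfsg.Agent.SignalizersComponents.IntrinsicBasic
import Cfsg.Agent.SignalizersComponents.CoprimeBasic
set_option linter.all false

/-!
The hypothesis package `Intr z J` of S1315: `J` is a 2-component of `C(z)`, `z` is the unique
involution of `J` and generates the centre of `J` modulo the core.
-/

set_option autoImplicit false
set_option linter.unusedSectionVars false

namespace Cfsg.Agent.SignalizersComponents.IntrinsicIntr

open Subgroup Cfsg IntrinsicBasic Cfsg.Agent.SignalizersComponents.PLayerAut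

variable {G : Type*} [Group G]

/-- `J` is a 2-component of `C(z)`, `z` is the unique involution of `J` and `Z(J/O(J)) = ⟨z⟩`. -/
structure Intr (z : G) (J : Subgroup G) : Prop where
  tc : TC (centralizer ({z} : Set G)) J
  mem : z ∈ J
  sq : z * z = 1
  ne : z ≠ 1
  uniq : ∀ t ∈ J, t * t = 1 → t ≠ 1 → t = z
  ctr : ∀ j ∈ J, j ∈ cenMod (centralizer ({z} : Set G)) J →
    j ∈ relCore 2 (centralizer ({z} : Set G)) ∨ j * z ∈ relCore 2 (centralizer ({z} : Set G))

theorem Intr.inv_eq {z : G} {J : Subgroup G} (h : Intr z J) : z⁻¹ = z :=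
  inv_eq_of_mul_eq_one_left h.sq

theorem Intr.comm {z : G} {J : Subgroup G} (h : Intr z J) {j : G} (hj : j ∈ J) : j * z = z * j := by
  have := h.tc.le hj
  rwa [mem_centralizer_singleton_iff] at this

theorem Intr.cj {z : G} {J : Subgroup G} (h : Intr z J) (g : G) :
    Intr (g * z * g⁻¹) (IntrinsicBasic.cj g J) := by
  refine ⟨?_, conj_mem_cj h.mem, ?_, ?_, ?_, ?_⟩
  · rw [← cj_centralizer]; exact h.tc.cj g
  · calc g * z * g⁻¹ * (g * z * g⁻¹) = g * (z * z) * g⁻¹ := by group
      _ = 1 := by rw [h.sq]; group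
  · intro h1
    apply h.ne
    have : z = g⁻¹ * (g * z * g⁻¹) * g := by group
    rw [this, h1]; group
  · intro t ht ht2 ht1
    rw [mem_cj] at ht
    have h1 := h.uniq _ ht (by
      calc g⁻¹ * t * g * (g⁻¹ * t * g) = g⁻¹ * (t * t) * g := by group
        _ = 1 := by rw [ht2]; group) (by
      intro h2
      apply ht1
      have : t = g * (g⁻¹ * t * g) * g⁻¹ := by group
      rw [this, h2]; group)
    rw [← h1]; group
  · intro j hj hjc
    rw [← cj_centralizer, ← cj_cenMod g h.tc.le, mem_cj] at hjc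
    rw [← cj_centralizer, ← cj_relCore, mem_cj, mem_cj]
    rcases h.ctr _ (mem_cj.mp hj) hjc with h1 | h1
    · exact Or.inl h1
    · right
      convert h1 using 1
      group

variable [Finite G]

theorem Intr.sq_mem {z : G} {J : Subgroup G} (h : Intr z J) {j : G} (hj : j ∈ J)
    (hjc : j ∈ cenMod (centralizer ({z} : Set G)) J) :
    j * j ∈ relCore 2 (centralizer ({z} : Set G)) := by
  rcases h.ctr j hj hjc with h1 | h1
  · exact mul_mem h1 h1
  · have h2 := mul_mem h1 h1
    have h3 : j * z * (j * z) = j * j := by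
      calc j * z * (j * z) = j * (z * j) * z := by group
        _ = j * (j * z) * z := by rw [h.comm hj]
        _ = j * j * (z * z) := by group
        _ = j * j := by rw [h.sq, mul_one]
    rwa [h3] at h2

/-- A 2-element of `J` centralizing `J` modulo the core is `1` or `z`. -/
theorem Intr.eq_of_cenMod {z : G} {J : Subgroup G} (h : Intr z J) {j : G} (hj : j ∈ J)
    (hjc : j ∈ cenMod (centralizer ({z} : Set G)) J) {n : ℕ} (hn : j ^ 2 ^ n = 1) :
    j = 1 ∨ j = z := by
  rcases h.ctr j hj hjc with h1 | h1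
  · exact Or.inl (eq_one_of_mem_relCore h1 hn)
  · right
    have h2 : j * z = 1 := by
      apply eq_one_of_mem_relCore h1 (n := n + 1)
      have hc : Commute j z := h.comm hj
      rw [hc.mul_pow, pow_succ, pow_mul, hn, one_pow, one_mul, pow_mul', pow_two, h.sq, one_pow]
    rw [← h.inv_eq]
    exact eq_inv_of_mul_eq_one_left h2

/-- lifting of square roots of elements of an odd order group -/
theorem exists_sq_eq_one {N : Subgroup G} (hN : Odd (Nat.card N)) {S : Subgroup G} {s : G}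
    (hs : s ∈ S) (h : s * s ∈ N) : ∃ s' ∈ S, s' * s' = 1 ∧ s⁻¹ * s' ∈ N ∧ ∃ k, s' = s ^ k := by
  obtain ⟨k, hk⟩ := hN
  have h1 : (s * s) ^ Nat.card N = 1 := by
    have := pow_card_eq_one' (x := (⟨s * s, h⟩ : N))
    exact congrArg Subtype.val this
  refine ⟨s ^ Nat.card N, pow_mem hs _, ?_, ?_, _, rfl⟩
  · rw [← Commute.mul_pow (Commute.refl s)]; exact h1
  · rw [hk, pow_succ', inv_mul_cancel_left, pow_mul, pow_two]
    exact pow_mem h k

theorem Intr.exists_four {z : G} {J : Subgroup G} (h : Intr z J) :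
    ∃ k ∈ J, k * k = z ∧ k * z = z * k := by
  have hperf : Group.IsPerfect J := Subgroup.isPerfect_iff.mpr h.tc.perfect
  have h2 : 2 ∣ Nat.card J := by
    have h3 : orderOf (⟨z, h.mem⟩ : J) = 2 := by
      apply orderOf_eq_prime
      · apply Subtype.ext
        simpa [pow_two] using h.sq
      · intro h4
        exact h.ne (congrArg Subtype.val h4)
    rw [← h3]
    exact orderOf_dvd_natCard _
  have : Fact (Nat.Prime 2) := ⟨Nat.prime_two⟩
  obtain ⟨T⟩ : Nonempty (Sylow 2 J) := inferInstance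
  have hT := CompBasic.sylow_not_le_center_of_perfect hperf 2 h2 T
  obtain ⟨a, haT, hac⟩ := SetLike.not_le_iff_exists.mp hT
  obtain ⟨k, hk⟩ := (IsPGroup.iff_orderOf.mp T.isPGroup') ⟨a, haT⟩
  rw [Subgroup.orderOf_mk] at hk
  have hz_center : (⟨z, h.mem⟩ : J) ∈ Subgroup.center J := by
    rw [Subgroup.mem_center_iff]
    intro g
    apply Subtype.ext
    exact h.comm g.2
  have huniq' : ∀ t : J, t * t = 1 → t ≠ 1 → t = ⟨z, h.mem⟩ := by
    intro t ht ht1
    apply Subtype.ext
    apply h.uniq t t.2 (congrArg Subtype.val ht)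
    intro h5
    exact ht1 (Subtype.ext h5)
  have ha1 : a ^ 2 ^ k = 1 := by rw [← hk]; exact pow_orderOf_eq_one a
  have hk2 : 2 ≤ k := by
    by_contra hlt
    have : k = 0 ∨ k = 1 := by omega
    rcases this with rfl | rfl
    · rw [pow_zero, pow_one] at ha1
      exact hac (ha1 ▸ Subgroup.one_mem _)
    · rw [pow_one, pow_two] at ha1
      have ha2 : a ≠ 1 := fun h => hac (h ▸ Subgroup.one_mem _)
      rw [huniq' a ha1 ha2] at hac
      exact hac hz_center
  have hb : a ^ 2 ^ (k - 1) = ⟨z, h.mem⟩ := by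
    apply huniq'
    · rw [← pow_add, ← two_mul, ← pow_succ', Nat.sub_add_cancel (by omega), ha1]
    · intro h1
      have h2 := orderOf_dvd_of_pow_eq_one h1
      rw [hk] at h2
      have h3 := Nat.le_of_dvd (by positivity) h2
      have h4 : 2 ^ (k - 1) < 2 ^ k := Nat.pow_lt_pow_right (by norm_num) (by omega)
      omega
  refine ⟨(a ^ 2 ^ (k - 2) : J), (a ^ 2 ^ (k - 2) : J).2, ?_, ?_⟩
  · have h3 : a ^ 2 ^ (k - 2) * a ^ 2 ^ (k - 2) = ⟨z, h.mem⟩ := by
      rw [← hb, ← pow_add, ← two_mul, ← pow_succ', show k - 2 + 1 = k - 1 by omega]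
    exact congrArg Subtype.val h3
  · exact h.comm (a ^ 2 ^ (k - 2) : J).2

/-- The centralizer of an involution `v ∈ X` in `X` maps onto the centralizer of its image in
`X / O(X)`. -/
theorem exists_lift {X : Subgroup G} {v m : G} (hv : v ∈ X) (hv2 : v * v = 1) (hm : m ∈ X)
    (h : m⁻¹ * (v * m * v⁻¹) ∈ relCore 2 X) :
    ∃ m' ∈ X, m⁻¹ * m' ∈ relCore 2 X ∧ m' * v = v * m' := by
  have : Fact (Nat.Prime 2) := ⟨Nat.prime_two⟩
  obtain ⟨d, hd, hd2⟩ := CoprimeBasic.exists_fixed_in_coset_of_pow (p := 2) v 1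
    (by rw [pow_one, pow_two, hv2]) (relCore 2 X) (by
      intro h2
      have := odd_card_relCore X
      rw [← Nat.not_even_iff_odd] at this
      exact this (even_iff_two_dvd.mpr h2)) (fun d hd => conj_mem_relCore' hv hd) m h
  refine ⟨m * d, mul_mem hm (relCore_le 2 X hd), by simpa using hd, hd2.symm⟩

/-- The map `C_X(v) → C_{X/O(X)}(v̄)`. -/
noncomputable def centMap (X : Subgroup G) (v : G) (hv : v ∈ X) :
    ↥(X ⊓ centralizer ({v} : Set G)) →*
      ↥(centralizer ({(QuotientGroup.mk' (oddCore ↥X)) ⟨v, hv⟩} : Set (↥X ⧸ oddCore ↥X))) where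
  toFun m := ⟨(QuotientGroup.mk' (oddCore ↥X)) ⟨m, m.2.1⟩, by
    rw [mem_centralizer_singleton_iff, ← map_mul, ← map_mul]
    congr 1
    apply Subtype.ext
    exact mem_centralizer_singleton_iff.mp m.2.2⟩
  map_one' := rfl
  map_mul' _ _ := rfl

omit [Finite G] in
theorem centMap_coe (X : Subgroup G) (v : G) (hv : v ∈ X) (m : ↥(X ⊓ centralizer ({v} : Set G))) :
    ((centMap X v hv m : ↥(centralizer ({(QuotientGroup.mk' (oddCore ↥X)) ⟨v, hv⟩} :
      Set (↥X ⧸ oddCore ↥X)))) : ↥X ⧸ oddCore ↥X) =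
      (QuotientGroup.mk' (oddCore ↥X)) ⟨m, m.2.1⟩ := rfl

theorem centMap_surjective (X : Subgroup G) (v : G) (hv : v ∈ X) (hv2 : v * v = 1) :
    Function.Surjective (centMap X v hv) := by
  rintro ⟨m, hm⟩
  obtain ⟨m, rfl⟩ := QuotientGroup.mk'_surjective (oddCore ↥X) m
  rw [mem_centralizer_singleton_iff] at hm
  have h1 : (QuotientGroup.mk' (oddCore ↥X)) m =
      (QuotientGroup.mk' (oddCore ↥X)) (⟨v, hv⟩ * m * ⟨v, hv⟩⁻¹) := by
    rw [map_mul, map_mul, map_inv, ← hm]; group
  obtain ⟨m', hm'X, hm', hm'v⟩ := exists_lift hv hv2 m.2 (mk_eq_mk_iff.mp h1)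
  refine ⟨⟨m', hm'X, mem_centralizer_singleton_iff.mpr hm'v⟩, ?_⟩
  apply Subtype.ext
  exact (mk_eq_mk_iff.mpr hm').symm

end Cfsg.Agent.SignalizersComponents.IntrinsicIntr
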