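import Mathlib
import Cfsg.Prelude.Def_Local
import Cfsg.Agent.Lib.Cores
import Cfsg.Agent.Lib.PComponents
import Cfsg.Agent.SignalizersComponents.Components
import Cfsg.Agent.SignalizersComponents.PLayerAut
import Cfsg.Agent.SignalizersComponents.PerfectGoingUp
set_option linter.all false

/-!
# L-balance from a statement about centralizers of Sylow subgroups of `L_{p'}(X) O_{p',p}(X)`
-/

set_option autoImplicit false

open scoped commutatorElement

namespace Cfsg.Agent.SignalizersComponents.LBalanceCore

open Cfsg Cfsg.Agent.Lib Cfsg.Agent.SignalizersComponents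

variable {X : Type*} [Group X] [Finite X] {p : ℕ} [hp : Fact p.Prime]

omit [Finite X] hp in
theorem mk_eq_one {N : Subgroup X} [N.Normal] {x : X} (hx : x ∈ N) : QuotientGroup.mk' N x = 1 :=
  (QuotientGroup.eq_one_iff x).mpr hx

omit [Finite X] hp in
/-- A `p`-element of `L W`, `L` normal and `W` a `p'`-group, lies in `L`. -/
theorem mem_left_of_mem_sup {L W : Subgroup X} (hL : L.Normal) (hW : (Nat.card W).Coprime p) {y : X}
    (hy : y ∈ L ⊔ W) {n : ℕ} (hn : y ^ p ^ n = 1) : y ∈ L := by
  obtain ⟨a, ha, b, hb, hab⟩ := Subgroup.mem_sup_of_normal_left.mp hy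
  have e1 : (QuotientGroup.mk' L) y = (QuotientGroup.mk' L) b := by
    rw [← hab, map_mul, mk_eq_one ha, one_mul]
  have e2 : orderOf ((QuotientGroup.mk' L) y) ∣ p ^ n := by
    apply orderOf_dvd_of_pow_eq_one
    rw [← map_pow, hn, map_one]
  have e3 : orderOf ((QuotientGroup.mk' L) y) ∣ Nat.card W := by
    apply orderOf_dvd_of_pow_eq_one
    rw [e1, ← map_pow]
    have h1 : (⟨b, hb⟩ : W) ^ Nat.card W = 1 := pow_card_eq_one'
    have h2 := congrArg Subtype.val h1
    rw [Subgroup.coe_pow] at h2
    change b ^ Nat.card W = 1 at h2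
    rw [h2, map_one]
  have e4 := Nat.dvd_gcd e3 e2
  rw [(hW.pow_right n : (Nat.card W).gcd (p ^ n) = 1), Nat.dvd_one, orderOf_eq_one_iff] at e4
  exact (QuotientGroup.eq_one_iff y).mp e4

/-- A `p`-component of a group `C` lies in the normal subgroup `N` or centralizes it modulo `O_{p'}(C)`. -/
theorem pcomp_le_or_commutator_le {C : Type*} [Group C] [Finite C] {J N : Subgroup C}
    (hJ : IsPComponent p J) (hN : N.Normal) : J ≤ N ∨ ⁅J, N⁆ ≤ pPrimeCore p C := by
  have hN' : (N.map (QuotientGroup.mk' (pPrimeCore p C))).Normal :=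
    hN.map _ (QuotientGroup.mk'_surjective _)
  rcases Components.component_le_or_commutator_eq_bot hJ.2.1 hN'.isSubnormal with h | h
  · left
    have h1 : J ≤ N ⊔ pPrimeCore p C := by
      rw [← QuotientGroup.ker_mk' (pPrimeCore p C), ← Subgroup.comap_map_eq]
      exact Subgroup.map_le_iff_le_comap.mp h
    have h2 : PComponents.pElem p J ≤ N := by
      refine (Subgroup.closure_le _).mpr ?_
      rintro y ⟨hyJ, n, hn⟩
      exact mem_left_of_mem_sup hN (Cores.pPrimeCore_coprime p) (h1 hyJ) hn
    rwa [PComponents.pElem_pcomp hJ] at h2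
  · right
    rw [← Subgroup.map_commutator, Subgroup.map_eq_bot_iff, QuotientGroup.ker_mk'] at h
    exact h

/-- If the claim holds for `R` then the `p`-components of `C_X(R)` lie in `M`. -/
theorem pcomp_le_of_claim {M R : Subgroup X} (hM : M.Normal) (hR : PerfectGoingUp.Claim p M R)
    {C : Subgroup X} (hC : Subgroup.centralizer (R : Set X) = C) {J : Subgroup C}
    (hJ : IsPComponent p J) : J.map C.subtype ≤ M := by
  have hR' : ∀ H : Subgroup X, H ≤ C → ⁅H, H⁆ = H →
      ⁅H, C ⊓ M⁆ ≤ PerfectGoingUp.coreOf p (C ⊓ M) → (Nat.card H).Coprime p := by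
    subst hC; exact hR
  have hN : (M.subgroupOf C).Normal := inferInstance
  rcases pcomp_le_or_commutator_le hJ hN with h | h
  · rw [Subgroup.map_le_iff_le_comap]
    exact h
  · exfalso
    have h1 : (Nat.card (J.map C.subtype)).Coprime p := by
      refine hR' (J.map C.subtype) (Subgroup.map_subtype_le _) ?_ ?_
      · rw [← Subgroup.map_commutator, PComponents.pcomp_perfect hJ]
      · have h2 : ((pPrimeCore p C).map C.subtype ⊓ M : Subgroup X) ≤
            PerfectGoingUp.coreOf p (C ⊓ M) := by
          refine PerfectGoingUp.le_coreOf ?_ ?_ ?_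
          · exact inf_le_inf_right M (Subgroup.map_subtype_le _)
          · rw [Subgroup.le_normalizer_iff]
            rintro g ⟨hgC, hgM⟩ x ⟨⟨y, hy, rfl⟩, hxM⟩
            refine ⟨⟨⟨g, hgC⟩ * y * ⟨g, hgC⟩⁻¹, ?_, rfl⟩, hM.conj_mem _ hxM g⟩
            exact (Cores.pPrimeCore_normal (G := C) p).conj_mem y hy ⟨g, hgC⟩
          · refine Nat.Coprime.coprime_dvd_left (Subgroup.card_dvd_of_le inf_le_left) ?_
            exact PerfectGoingUp.card_coreOf p C
        refine le_trans ?_ h2
        refine le_inf ?_ ((Subgroup.commutator_mono le_rfl inf_le_right).trans ?_)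
        · have h3 : C ⊓ M = (M.subgroupOf C).map C.subtype := by
            rw [Subgroup.subgroupOf_map_subtype, inf_comm]
          rw [h3, ← Subgroup.map_commutator]
          exact Subgroup.map_mono h
        · exact Subgroup.commutator_le_right _ M
    have h2 : p ∣ Nat.card (J.map C.subtype) := by
      rw [Nat.card_congr (Subgroup.equivMapOfInjective _ _ (Subgroup.subtype_injective C)).symm.toEquiv]
      exact PComponents.prime_dvd_card_pcomp hJ
    exact (Nat.Prime.coprime_iff_not_dvd hp.out).mp h1.symm h2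

/-- A perfect subgroup generated by `p`-elements and contained in `L O_{p',p}(X)`, `L` normal, lies in `L`. -/
theorem le_of_le_sup_pPrimePCore {L H : Subgroup X} (hL : L.Normal) (hHp : ⁅H, H⁆ = H)
    (hHe : PComponents.pElem p H = H) (h : H ≤ L ⊔ pPrimePCore p X) : H ≤ L := by
  have hOn : (pPrimeCore p X).Normal := Cores.pPrimeCore_normal p
  set O := pPrimeCore p X with hO
  -- first step : `H ≤ L ⊔ O`
  have h1 : H ≤ L ⊔ O := by
    have hLO : (L ⊔ O).Normal := inferInstance
    let f := QuotientGroup.mk' (L ⊔ O)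
    have hU : IsPGroup p ((pPrimePCore p X).map f) := by
      rw [IsPGroup.iff_orderOf]
      rintro ⟨_, ⟨u, hu, rfl⟩⟩
      have hu' : (QuotientGroup.mk' O) u ∈ pCore p (X ⧸ O) := hu
      obtain ⟨k, hk⟩ := (Cores.pCore_isPGroup (G := X ⧸ O) p) ⟨_, hu'⟩
      have hk' : (QuotientGroup.mk' O) (u ^ p ^ k) = 1 := by
        rw [map_pow]
        exact congrArg Subtype.val hk
      have hk2 : u ^ p ^ k ∈ O := (QuotientGroup.eq_one_iff _).mp hk'
      have hk3 : (f u) ^ p ^ k = 1 := by
        rw [← map_pow]
        exact (QuotientGroup.eq_one_iff _).mpr (Subgroup.mem_sup_right hk2)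
      have h5 : orderOf (⟨f u, Subgroup.mem_map_of_mem f hu⟩ : (pPrimePCore p X).map f) ∣ p ^ k := by
        rw [Subgroup.orderOf_mk]
        exact orderOf_dvd_of_pow_eq_one hk3
      obtain ⟨m, -, hm⟩ := (Nat.dvd_prime_pow hp.out).mp h5
      exact ⟨m, hm⟩
    have hHU : H.map f ≤ (pPrimePCore p X).map f := by
      refine (Subgroup.map_mono h).trans ?_
      rw [Subgroup.map_sup]
      have : L.map f = ⊥ := by
        rw [Subgroup.map_eq_bot_iff, QuotientGroup.ker_mk']
        exact le_sup_left
      rw [this, bot_sup_eq]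
    have hHf : IsPGroup p (H.map f) := hU.to_le hHU
    have hnil : Group.IsNilpotent (H.map f) := hHf.isNilpotent
    have hperf : ⁅H.map f, H.map f⁆ = H.map f := by rw [← Subgroup.map_commutator, hHp]
    have hbot : H.map f = ⊥ := by
      by_contra hne
      have : Nontrivial (H.map f) := (Subgroup.nontrivial_iff_ne_bot _).mpr hne
      have hsol : Group.IsSolvable (H.map f) := inferInstance
      have hlt := Group.IsSolvable.commutator_lt_top_of_nontrivial (H.map f)
      apply hlt.ne
      have h8 : (commutator (H.map f)).map (H.map f).subtype = (⊤ : Subgroup (H.map f)).map (H.map f).subtype := by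
        rw [commutator_def, Subgroup.map_commutator, ← MonoidHom.range_eq_map,
          Subgroup.range_subtype, hperf]
      exact Subgroup.map_injective (Subgroup.subtype_injective _) h8
    rw [Subgroup.map_eq_bot_iff, QuotientGroup.ker_mk'] at hbot
    exact hbot
  rw [← hHe]
  refine (Subgroup.closure_le _).mpr ?_
  rintro y ⟨hyJ, n, hn⟩
  exact mem_left_of_mem_sup hL (Cores.pPrimeCore_coprime p) (h1 hyJ) hn

/-- **L-balance**, conditional on the structure of centralizers of Sylow `p`-subgroups of
`L_{p'}(X) O_{p',p}(X)`. -/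
theorem pLayer_centralizer_le
    (hB : ∀ T : Subgroup X, T ≤ pLayer p X ⊔ pPrimePCore p X → IsPGroup p T →
      ¬ p ∣ T.relIndex (pLayer p X ⊔ pPrimePCore p X) →
      ∀ H : Subgroup X, H ≤ Subgroup.centralizer (T : Set X) → ⁅H, H⁆ = H → (Nat.card H).Coprime p)
    (R : Subgroup X) (hR : IsPGroup p R) :
    (pLayer p ↥(Subgroup.centralizer (R : Set X))).map (Subgroup.centralizer (R : Set X)).subtype ≤
      pLayer p X := by
  have hLn : (pLayer p X).Normal := PLayerAut.pLayer_normal p
  have hUn : (pPrimePCore p X).Normal := by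
    have : (pCore p (X ⧸ pPrimeCore p X)).Normal := Cores.pCore_normal p
    exact Subgroup.Normal.comap this _
  have hMn : (pLayer p X ⊔ pPrimePCore p X).Normal := inferInstance
  have hcl := PerfectGoingUp.claim_all hMn hB R hR
  rw [Subgroup.map_le_iff_le_comap]
  refine sSup_le fun J hJ => ?_
  rw [← Subgroup.map_le_iff_le_comap]
  have h1 := pcomp_le_of_claim hMn hcl rfl hJ
  refine le_of_le_sup_pPrimePCore (p := p) hLn ?_ ?_ h1
  · rw [← Subgroup.map_commutator, PComponents.pcomp_perfect hJ]
  · apply le_antisymm (PComponents.pElem_le _)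
    rw [Subgroup.map_le_iff_le_comap]
    conv_lhs => rw [← PComponents.pElem_pcomp hJ]
    refine (Subgroup.closure_le _).mpr ?_
    rintro y ⟨hyJ, n, hn⟩
    change (Subgroup.centralizer (R : Set X)).subtype y ∈ PComponents.pElem p _
    refine PComponents.mem_pElem (Subgroup.mem_map_of_mem _ hyJ) (n := n) ?_
    rw [← map_pow, hn, map_one]

end Cfsg.Agent.SignalizersComponents.LBalanceCore
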