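import Mathlib
set_option linter.all false

/-!
Sylow `p`-subgroups of a subgroup `C` of `G`, as subgroups of `G`: `IsMaxP p C R` says that `R` is maximal among
the `p`-subgroups of `G` contained in `C`.
-/

set_option autoImplicit false

namespace Cfsg.Agent.SignalizersComponents.RelSylow

open Subgroup
open scoped Pointwise

variable {G : Type*} [Group G] {p : ℕ}

/-- `R` is a maximal `p`-subgroup of the subgroup `C`. -/
def IsMaxP (p : ℕ) (C R : Subgroup G) : Prop :=
  IsPGroup p R ∧ R ≤ C ∧ ∀ R' : Subgroup G, IsPGroup p R' → R' ≤ C → R ≤ R' → R' ≤ R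

theorem exists_isMaxP [Finite G] {C W : Subgroup G} (hW : IsPGroup p W) (hWC : W ≤ C) :
    ∃ R, IsMaxP p C R ∧ W ≤ R := by
  obtain ⟨R, hWR, hR⟩ := Finite.exists_le_maximal (p := fun R : Subgroup G => IsPGroup p R ∧ R ≤ C)
    (a := W) ⟨hW, hWC⟩
  exact ⟨R, ⟨hR.prop.1, hR.prop.2, fun R' h1 h2 h3 => hR.le_of_ge ⟨h1, h2⟩ h3⟩, hWR⟩

/-- A maximal `p`-subgroup of `C` as a Sylow subgroup of `↥C`. -/
def IsMaxP.toSylow {C R : Subgroup G} (h : IsMaxP p C R) : Sylow p ↥C where
  toSubgroup := R.subgroupOf C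
  isPGroup' := h.1.of_injective (Subgroup.inclusion (show (R.subgroupOf C).map C.subtype ≤ R by
      rw [Subgroup.subgroupOf_map_subtype]; exact inf_le_left)|>.comp
        ((R.subgroupOf C).equivMapOfInjective C.subtype C.subtype_injective).toMonoidHom) (by
      intro x y hxy
      simpa using hxy)
  is_maximal' := by
    intro Q hQ hRQ
    apply le_antisymm _ hRQ
    intro x hx
    have h1 : IsPGroup p (Q.map C.subtype) := hQ.map _
    have h2 : Q.map C.subtype ≤ C := by
      rintro _ ⟨y, _, rfl⟩; exact y.2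
    have h3 : R ≤ Q.map C.subtype := by
      intro r hr
      exact ⟨⟨r, h.2.1 hr⟩, hRQ (by simpa [Subgroup.mem_subgroupOf] using hr), rfl⟩
    have h4 := h.2.2 _ h1 h2 h3
    have : (x : G) ∈ R := h4 ⟨x, hx, rfl⟩
    simpa [Subgroup.mem_subgroupOf] using this

@[simp] theorem IsMaxP.coe_toSylow {C R : Subgroup G} (h : IsMaxP p C R) :
    (h.toSylow : Subgroup ↥C) = R.subgroupOf C := rfl

theorem isMaxP_of_sylow {C : Subgroup G} (P : Sylow p ↥C) :
    IsMaxP p C ((P : Subgroup ↥C).map C.subtype) := by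
  refine ⟨P.2.map _, ?_, ?_⟩
  · rintro _ ⟨y, _, rfl⟩; exact y.2
  · intro R' h1 h2 h3
    have h4 : IsPGroup p (R'.subgroupOf C) := by
      have := h1.comap_subtype (K := C)
      exact this
    have h5 : (P : Subgroup ↥C) ≤ R'.subgroupOf C := by
      intro x hx
      exact h3 ⟨x, hx, rfl⟩
    have h6 := P.3 h4 h5
    intro x hx
    refine ⟨⟨x, h2 hx⟩, ?_, rfl⟩
    rw [← h6]
    exact hx

theorem IsMaxP.map_subtype_toSylow {C R : Subgroup G} (h : IsMaxP p C R) :
    (h.toSylow : Subgroup ↥C).map C.subtype = R := by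
  rw [h.coe_toSylow, Subgroup.subgroupOf_map_subtype]
  exact inf_eq_left.mpr h.2.1

/-- conjugate of a subgroup -/
theorem mem_map_conj {R : Subgroup G} {c x : G} :
    x ∈ R.map (MulAut.conj c).toMonoidHom ↔ c⁻¹ * x * c ∈ R := by
  constructor
  · rintro ⟨y, hy, rfl⟩
    simpa [mul_assoc] using hy
  · intro h
    exact ⟨c⁻¹ * x * c, h, by simp [mul_assoc]⟩

theorem IsMaxP.exists_conj [Finite G] [Fact p.Prime] {C R R' : Subgroup G} (h : IsMaxP p C R)
    (h' : IsMaxP p C R') : ∃ c ∈ C, R.map (MulAut.conj c).toMonoidHom = R' := by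
  obtain ⟨c, hc⟩ := MulAction.exists_smul_eq ↥C h.toSylow h'.toSylow
  refine ⟨c, c.2, ?_⟩
  have h1 : MulAut.conj c • (h.toSylow : Subgroup ↥C) = (h'.toSylow : Subgroup ↥C) := by
    rw [← hc]; rfl
  ext x
  rw [mem_map_conj]
  constructor
  · intro hx
    have hxC : x ∈ C := by
      have := C.mul_mem (C.mul_mem c.2 (h.2.1 hx)) (C.inv_mem c.2)
      simpa [mul_assoc] using this
    have : (⟨x, hxC⟩ : ↥C) ∈ (h'.toSylow : Subgroup ↥C) := by
      rw [← h1, Subgroup.mem_pointwise_smul_iff_inv_smul_mem]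
      show _ ∈ R.subgroupOf C
      rw [Subgroup.mem_subgroupOf, ← map_inv]
      simpa using hx
    exact this
  · intro hx
    have hxC : x ∈ C := h'.2.1 hx
    have : (⟨x, hxC⟩ : ↥C) ∈ (h'.toSylow : Subgroup ↥C) := by
      show _ ∈ R'.subgroupOf C
      rw [Subgroup.mem_subgroupOf]
      exact hx
    rw [← h1, Subgroup.mem_pointwise_smul_iff_inv_smul_mem] at this
    change _ ∈ R.subgroupOf C at this
    rw [Subgroup.mem_subgroupOf, ← map_inv] at this
    simpa using this

/-- Conjugating a maximal `p`-subgroup. -/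
theorem IsMaxP.map_conj {C R : Subgroup G} (h : IsMaxP p C R) (g : G) :
    IsMaxP p (C.map (MulAut.conj g).toMonoidHom) (R.map (MulAut.conj g).toMonoidHom) := by
  refine ⟨h.1.map _, Subgroup.map_mono h.2.1, ?_⟩
  intro R' h1 h2 h3
  have key : R'.map (MulAut.conj g⁻¹).toMonoidHom ≤ R := by
    apply h.2.2
    · exact h1.map _
    · intro x hx
      rw [mem_map_conj] at hx
      have := h2 hx
      rw [mem_map_conj] at this
      simpa [mul_assoc] using this
    · intro x hx
      rw [mem_map_conj]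
      apply h3
      rw [mem_map_conj]
      simpa [mul_assoc] using hx
  intro x hx
  rw [mem_map_conj]
  apply key
  rw [mem_map_conj]
  simpa [mul_assoc] using hx

theorem IsMaxP.map_conj_mem {C R : Subgroup G} (h : IsMaxP p C R) {g : G}
    (hg : g ∈ normalizer (C : Set G)) : IsMaxP p C (R.map (MulAut.conj g).toMonoidHom) := by
  have h1 := h.map_conj g
  have h2 : C.map (MulAut.conj g).toMonoidHom = C := by
    ext x
    rw [mem_map_conj]
    have := (Subgroup.mem_normalizer_iff''.mp hg x)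
    exact this.symm
  rwa [h2] at h1

theorem IsMaxP.card_eq [Finite G] [Fact p.Prime] {C R R' : Subgroup G} (h : IsMaxP p C R)
    (h' : IsMaxP p C R') : Nat.card R = Nat.card R' := by
  obtain ⟨c, _, rfl⟩ := h.exists_conj h'
  exact (Nat.card_congr (R.equivMapOfInjective _ (MulAut.conj c).injective).toEquiv)

theorem card_map_conj (R : Subgroup G) (c : G) :
    Nat.card (R.map (MulAut.conj c).toMonoidHom) = Nat.card R :=
  (Nat.card_congr (R.equivMapOfInjective _ (MulAut.conj c).injective).toEquiv).symm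

/-- Every `p`-subgroup of `C` has a `C`-conjugate inside a given maximal one. -/
theorem IsMaxP.exists_conj_le [Finite G] [Fact p.Prime] {C R W : Subgroup G} (h : IsMaxP p C R)
    (hW : IsPGroup p W) (hWC : W ≤ C) : ∃ c ∈ C, W.map (MulAut.conj c).toMonoidHom ≤ R := by
  obtain ⟨R', hR', hWR'⟩ := exists_isMaxP hW hWC
  obtain ⟨c, hc, h1⟩ := hR'.exists_conj h
  exact ⟨c, hc, h1 ▸ Subgroup.map_mono hWR'⟩

/-- "Normalizers grow" in finite `p`-groups. -/
theorem exists_mem_normalizer [Finite G] [Fact p.Prime] {R D : Subgroup G} (hR : IsPGroup p R)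
    (hDR : D ≤ R) (hne : ¬ R ≤ D) : ∃ x ∈ R, x ∈ normalizer (D : Set G) ∧ x ∉ D := by
  have : Group.IsNilpotent ↥R := hR.isNilpotent
  have hN : NormalizerCondition ↥R := Group.normalizerCondition_of_isNilpotent
  have h1 : D.subgroupOf R < ⊤ := by
    rw [lt_top_iff_ne_top]
    intro h
    apply hne
    rwa [Subgroup.subgroupOf_eq_top] at h
  have h2 := hN _ h1
  obtain ⟨x, hx, hx'⟩ := SetLike.exists_of_lt h2
  refine ⟨x, x.2, ?_, ?_⟩
  · rw [Subgroup.mem_normalizer_iff] at hx ⊢
    intro d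
    constructor
    · intro hd
      have := (hx ⟨d, hDR hd⟩).mp (by simpa [Subgroup.mem_subgroupOf] using hd)
      simpa [Subgroup.mem_subgroupOf] using this
    · intro hd
      have hdR : d ∈ R := by
        have := R.mul_mem (R.mul_mem (R.inv_mem x.2) (hDR hd)) x.2
        simpa [mul_assoc] using this
      have := (hx ⟨d, hdR⟩).mpr (by simpa [Subgroup.mem_subgroupOf] using hd)
      simpa [Subgroup.mem_subgroupOf] using this
  · intro h
    exact hx' (by simpa [Subgroup.mem_subgroupOf] using h)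

theorem IsMaxP.not_dvd_index [Finite G] [Fact p.Prime] {C R : Subgroup G} (h : IsMaxP p C R) :
    ¬ p ∣ R.relIndex C := h.toSylow.not_dvd_index

/-- A `p`-subgroup `R ≤ C` of index prime to `p` is maximal. -/
theorem isMaxP_of_not_dvd [Finite G] [Fact p.Prime] {C R : Subgroup G} (hR : IsPGroup p R) (hRC : R ≤ C)
    (h : ¬ p ∣ R.relIndex C) : IsMaxP p C R := by
  refine ⟨hR, hRC, ?_⟩
  intro R' h1 h2 h3
  have h4 : R.relIndex R' * R'.relIndex C = R.relIndex C := Subgroup.relIndex_mul_relIndex _ _ _ h3 h2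
  have h5 : ¬ p ∣ R.relIndex R' := fun h' => h (h4 ▸ Dvd.dvd.mul_right h' _)
  have : ∃ n, R.relIndex R' = p ^ n := by
    have h6 := h1.index (R.subgroupOf R')
    simpa [Subgroup.relIndex] using h6
  obtain ⟨n, hn⟩ := this
  have hn0 : n = 0 := by
    rcases n with _ | n
    · rfl
    · exact absurd (hn ▸ dvd_pow_self p (Nat.succ_ne_zero n)) h5
  rw [hn0, pow_zero] at hn
  exact Subgroup.relIndex_eq_one.mp hn

end Cfsg.Agent.SignalizersComponents.RelSylow
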