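import Mathlib
import Cfsg.Prelude.Def_Local
set_option linter.all false

set_option autoImplicit false
open Cfsg

namespace Cfsg.Agent.SignalizersComponents.LayerBasic

open Subgroup

/-- A normal subgroup of a quasisimple group is everything or central. -/
theorem quasisimple_normal {Q : Type*} [Group Q] (hQ : IsQuasisimple Q) (N : Subgroup Q)
    (hN : N.Normal) : N = ⊤ ∨ N ≤ Subgroup.center Q := by
  obtain ⟨hP, hS⟩ := hQ
  have hmap : (N.map (QuotientGroup.mk' (center Q))).Normal :=
    hN.map _ (QuotientGroup.mk'_surjective _)
  rcases hmap.eq_bot_or_eq_top with h | h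
  · right
    rw [Subgroup.map_eq_bot_iff, QuotientGroup.ker_mk'] at h
    exact h
  · left
    have h2 : N ⊔ center Q = ⊤ := by
      have := congrArg (Subgroup.comap (QuotientGroup.mk' (center Q))) h
      rw [Subgroup.comap_map_eq, QuotientGroup.ker_mk', Subgroup.comap_top] at this
      exact this
    rw [eq_top_iff]
    have hc : commutator Q ≤ N := by
      refine Subgroup.Normal.commutator_le_of_self_sup_commutative_eq_top (H := center Q) h2 ?_
      infer_instance
    rwa [hP.commutator_eq_top] at hc

/-- A quasisimple group is not solvable. -/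
theorem quasisimple_not_solvable {Q : Type*} [Group Q] (hQ : IsQuasisimple Q) :
    ¬ Group.IsSolvable Q := by
  intro hs
  obtain ⟨hP, hS⟩ := hQ
  have : Nontrivial Q := by
    have := hS.toNontrivial
    exact (QuotientGroup.mk'_surjective (center Q)).nontrivial
  exact Group.IsPerfect.not_isSolvable Q hs

/-- A component centralizes every normal solvable subgroup (no finiteness). -/
theorem component_commutator_normal_solvable {G : Type*} [Group G] {K R : Subgroup G}
    (hK : IsComponent K) (hR : R.Normal) (hs : Group.IsSolvable R) : ⁅K, R⁆ = ⊥ := by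
  obtain ⟨hsub, hq⟩ := hK
  obtain ⟨n, f, hmono, hnorm, h0, hn⟩ := Subgroup.IsSubnormal.isSubnormal_iff.mp hsub
  have key : ∀ i : ℕ, ⁅K, R ⊓ f i⁆ = ⊥ := by
    intro i
    induction i with
    | zero =>
      rw [h0]
      have hN : (R.subgroupOf K).Normal := inferInstance
      rcases quasisimple_normal hq (R.subgroupOf K) hN with h | h
      · exfalso
        rw [Subgroup.subgroupOf_eq_top] at h
        have : Group.IsSolvable K :=
          Group.isSolvable_of_isSolvable_injective (Subgroup.inclusion_injective h)
        exact quasisimple_not_solvable hq this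
      · rw [Subgroup.commutator_eq_bot_iff_le_centralizer]
        intro k hk
        rw [Subgroup.mem_centralizer_iff]
        intro r hr
        have hr' : (⟨r, hr.2⟩ : K) ∈ R.subgroupOf K := by
          rw [Subgroup.mem_subgroupOf]; exact hr.1
        have := Subgroup.mem_center_iff.mp (h hr') ⟨k, hk⟩
        exact (congrArg Subtype.val this).symm
    | succ i ih =>
      have hKi : K ≤ f i := by rw [← h0]; exact hmono (Nat.zero_le i)
      have h1 : ⁅K, R ⊓ f (i + 1)⁆ ≤ R ⊓ f i := by
        refine le_inf ?_ ?_
        · exact (Subgroup.commutator_mono le_rfl inf_le_left).trans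
            (Subgroup.commutator_le_right K R)
        · rw [Subgroup.commutator_le]
          intro k hk r hr
          have hr2 : r ∈ f (i + 1) := hr.2
          have hki : k ∈ f i := hKi hk
          have hki1 : k⁻¹ ∈ f i := (f i).inv_mem hki
          have := (hnorm i).conj_mem ⟨k⁻¹, hmono (Nat.le_succ i) hki1⟩
            (by rw [Subgroup.mem_subgroupOf]; exact hki1) ⟨r, hr2⟩
          rw [Subgroup.mem_subgroupOf] at this
          have h3 : r * k⁻¹ * r⁻¹ ∈ f i := this
          rw [commutatorElement_def]
          have h4 : k * r * k⁻¹ * r⁻¹ = k * (r * k⁻¹ * r⁻¹) := by group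
          rw [h4]
          exact (f i).mul_mem hki h3
      have h2 : ⁅⁅K, R ⊓ f (i + 1)⁆, K⁆ = ⊥ := by
        rw [eq_bot_iff]
        calc ⁅⁅K, R ⊓ f (i + 1)⁆, K⁆ ≤ ⁅R ⊓ f i, K⁆ := Subgroup.commutator_mono h1 le_rfl
          _ = ⊥ := by rw [Subgroup.commutator_comm, ih]
      have h3 : ⁅⁅R ⊓ f (i + 1), K⁆, K⁆ = ⊥ := by
        rw [Subgroup.commutator_comm (R ⊓ f (i + 1)) K]; exact h2
      have h4 := Subgroup.commutator_commutator_eq_bot_of_rotate h2 h3
      have h5 : ⁅K, K⁆ = K := by
        have := hq.1
        exact Subgroup.isPerfect_iff.mp this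
      rwa [h5] at h4
  have := key n
  rwa [hn, inf_top_eq] at this

/-- The layer centralizes every normal solvable subgroup. -/
theorem layer_le_centralizer {G : Type*} [Group G] {R : Subgroup G}
    (hR : R.Normal) (hs : Group.IsSolvable R) : layer G ≤ Subgroup.centralizer (R : Set G) := by
  refine sSup_le ?_
  intro K hK
  exact Subgroup.commutator_eq_bot_iff_le_centralizer.mp
    (component_commutator_normal_solvable hK hR hs)

/-- `[E(G), F(G)] = 1` (no finiteness). -/
theorem fitting_le_centralizer_layer (G : Type*) [Group G] :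
    fittingSubgroup G ≤ Subgroup.centralizer (layer G : Set G) := by
  refine sSup_le ?_
  rintro N ⟨hN, hnil⟩
  have hs : Group.IsSolvable N := inferInstance
  rw [← Subgroup.commutator_eq_bot_iff_le_centralizer, Subgroup.commutator_comm,
    Subgroup.commutator_eq_bot_iff_le_centralizer]
  exact layer_le_centralizer hN hs

theorem commutator_layer_fitting (G : Type*) [Group G] : ⁅layer G, fittingSubgroup G⁆ = ⊥ := by
  rw [Subgroup.commutator_comm, Subgroup.commutator_eq_bot_iff_le_centralizer]
  exact fitting_le_centralizer_layer G

/-- The layer is perfect. -/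
theorem layer_perfect (G : Type*) [Group G] : ⁅layer G, layer G⁆ = layer G := by
  refine le_antisymm (Subgroup.commutator_le_self _) ?_
  refine sSup_le ?_
  intro K hK
  have h5 : ⁅K, K⁆ = K := Subgroup.isPerfect_iff.mp hK.2.1
  rw [← h5]
  exact Subgroup.commutator_mono (le_sSup hK) (le_sSup hK)

theorem map_center_equiv {X Y : Type*} [Group X] [Group Y] (e : X ≃* Y) :
    (center X).map e.toMonoidHom = center Y := by
  ext y
  rw [Subgroup.mem_map]
  constructor
  · rintro ⟨x, hx, rfl⟩
    rw [Subgroup.mem_center_iff] at hx ⊢
    intro g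
    obtain ⟨g', rfl⟩ := e.surjective g
    have := congrArg e (hx g')
    simpa using this
  · intro hy
    refine ⟨e.symm y, ?_, by simp⟩
    rw [Subgroup.mem_center_iff] at hy ⊢
    intro g
    apply e.injective
    have := hy (e g)
    simpa using this

theorem quasisimple_congr {X Y : Type*} [Group X] [Group Y] (e : X ≃* Y) (h : IsQuasisimple X) :
    IsQuasisimple Y := by
  obtain ⟨hP, hS⟩ := h
  refine ⟨?_, ?_⟩
  · exact Group.IsPerfect.ofSurjective (f := e.toMonoidHom) e.surjective
  · let e' := QuotientGroup.congr (center X) (center Y) e (map_center_equiv e)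
    exact e'.symm.isSimpleGroup

theorem isSubnormal_map_equiv {X Y : Type*} [Group X] [Group Y] (e : X ≃* Y) {K : Subgroup X}
    (hK : K.IsSubnormal) : (K.map e.toMonoidHom).IsSubnormal := by
  induction hK with
  | top =>
    rw [← MonoidHom.range_eq_map, MonoidHom.range_eq_top_of_surjective _ e.surjective]
    exact Subgroup.IsSubnormal.top
  | step H K h_le hSubn hN ih =>
    refine Subgroup.IsSubnormal.step _ (K.map e.toMonoidHom) (Subgroup.map_mono h_le) ih ?_
    rw [Subgroup.normal_subgroupOf_iff (Subgroup.map_mono h_le)]
    rw [Subgroup.normal_subgroupOf_iff h_le] at hN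
    rintro _ _ ⟨h, hh, rfl⟩ ⟨k, hk, rfl⟩
    refine ⟨k * h * k⁻¹, hN h k hh hk, by simp⟩

theorem isComponent_map_equiv {X Y : Type*} [Group X] [Group Y] (e : X ≃* Y) {K : Subgroup X}
    (hK : IsComponent K) : IsComponent (K.map e.toMonoidHom) :=
  ⟨isSubnormal_map_equiv e hK.1, quasisimple_congr
    (K.equivMapOfInjective e.toMonoidHom e.injective) hK.2⟩

theorem layer_map_equiv {X Y : Type*} [Group X] [Group Y] (e : X ≃* Y) :
    (layer X).map e.toMonoidHom = layer Y := by
  refine le_antisymm ?_ ?_
  · rw [Subgroup.map_le_iff_le_comap]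
    refine sSup_le ?_
    intro K hK
    rw [← Subgroup.map_le_iff_le_comap]
    exact le_sSup (isComponent_map_equiv e hK)
  · refine sSup_le ?_
    intro K hK
    have h1 : K.map e.symm.toMonoidHom ≤ layer X := le_sSup (isComponent_map_equiv e.symm hK)
    have h2 := Subgroup.map_mono (f := e.toMonoidHom) h1
    rw [Subgroup.map_map] at h2
    have h3 : e.toMonoidHom.comp e.symm.toMonoidHom = MonoidHom.id Y := by
      ext y; simp
    rwa [h3, Subgroup.map_id] at h2

theorem layer_characteristic (G : Type*) [Group G] : (layer G).Characteristic := by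
  rw [Subgroup.characteristic_iff_map_eq]
  intro e
  exact layer_map_equiv e

theorem layer_normal (G : Type*) [Group G] : (layer G).Normal := by
  have := layer_characteristic G
  infer_instance

theorem fittingSubgroup_normal (G : Type*) [Group G] : (fittingSubgroup G).Normal :=
  Subgroup.sSup_normal _ (fun _ h => h.1)

theorem generalizedFittingSubgroup_normal (G : Type*) [Group G] :
    (generalizedFittingSubgroup G).Normal := by
  have := layer_normal G
  have := fittingSubgroup_normal G
  exact Subgroup.sup_normal _ _

/-- The join of a solvable subgroup and a normal solvable subgroup is solvable. -/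
theorem isSolvable_sup {G : Type*} [Group G] {M N : Subgroup G} (hM : Group.IsSolvable M)
    (hN : Group.IsSolvable N) (hNn : N.Normal) : Group.IsSolvable ↥(M ⊔ N) := by
  rw [Group.isSolvable_iff_subgroup_quotient (N.subgroupOf (M ⊔ N))]
  refine ⟨?_, ?_⟩
  · exact Group.isSolvable_of_isSolvable_injective
      (f := (Subgroup.subgroupOfEquivOfLe (le_sup_right : N ≤ M ⊔ N)).toMonoidHom)
      (Subgroup.subgroupOfEquivOfLe (le_sup_right : N ≤ M ⊔ N)).injective
  · exact Group.isSolvable_of_surjective
      (f := (QuotientGroup.quotientInfEquivProdNormalQuotient M N).toMonoidHom)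
      (QuotientGroup.quotientInfEquivProdNormalQuotient M N).surjective

/-- The Fitting subgroup of a finite group is solvable. -/
theorem fittingSubgroup_isSolvable (G : Type*) [Group G] [Finite G] :
    Group.IsSolvable (fittingSubgroup G) := by
  have key : ∀ S : Set (Subgroup G), S.Finite → (∀ N ∈ S, N.Normal ∧ Group.IsNilpotent N) →
      Group.IsSolvable ↥(sSup S) := by
    intro S hS
    induction S, hS using Set.Finite.induction_on with
    | empty =>
      intro _
      rw [sSup_empty]
      infer_instance
    | insert ha hs ih =>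
      intro h
      rename_i N S
      rw [sSup_insert, sup_comm]
      have h1 := ih (fun M hM => h M (Set.mem_insert_of_mem _ hM))
      have h2 := h N (Set.mem_insert _ _)
      have h3 := h2.2
      exact isSolvable_sup h1 inferInstance h2.1
  exact key _ (Set.toFinite _) (fun N hN => hN)

end Cfsg.Agent.SignalizersComponents.LayerBasic
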