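import Mathlib
import Cfsg.Prelude.Def_Balance
import Cfsg.Agent.S0016
import Cfsg.Agent.S0201
import Cfsg.Agent.SignalizersComponents.QsBasic
set_option linter.all false

set_option autoImplicit false
open Cfsg

namespace Cfsg.Agent.SignalizersComponents.QsRankOne

open Subgroup Cfsg.Agent.SignalizersComponents.QsBasic

/-- A quasisimple group of even order and 2-rank 1 has a central involution, and its Sylow
2-subgroups are generalized quaternion. -/
theorem exists_central_involution {L : Type*} [Group L] [Finite L] (hL : Cfsg.IsQuasisimple L)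
    (heven : Even (Nat.card L)) (hrk : Cfsg.PRankLE 2 1 L) :
    (∃ t ∈ Subgroup.center L, orderOf t = 2) ∧
      ∃ S : Sylow 2 L, ∃ n : ℕ, Nonempty (↥(S : Subgroup L) ≃* QuaternionGroup (2 ^ (n + 1))) := by
  have hperf : Group.IsPerfect L := hL.1
  have : Fact (Nat.Prime 2) := ⟨Nat.prime_two⟩
  obtain ⟨S⟩ : Nonempty (Sylow 2 L) := inferInstance
  have hcyc := not_isCyclic_sylow heven S
  have hS := Cfsg.Agent.S0016.result (G := S) 2 S.isPGroup'
    (unique_of_rank_one S.isPGroup' (pRankLE_subgroup hrk S))
  obtain ⟨n, ⟨e⟩⟩ : ∃ n : ℕ, Nonempty (↥(S : Subgroup L) ≃* QuaternionGroup (2 ^ (n + 1))) := by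
    rcases hS with hS | ⟨_, n, ⟨e⟩⟩
    · exact absurd hS hcyc
    · rcases n with _ | n
      · exfalso
        apply hcyc
        have h1 : IsCyclic (QuaternionGroup (2 ^ 0)) := by
          rw [pow_zero]; exact QuaternionGroup.quaternionGroup_one_isCyclic
        exact isCyclic_of_surjective e.symm e.symm.surjective
      · exact ⟨n, ⟨e⟩⟩
  refine ⟨?_, S, n, ⟨e⟩⟩
  obtain ⟨N, hN1, hN2, hN3⟩ := exists_maximal_odd_normal L
  have hSN : Disjoint (S : Subgroup L) N := by
    apply Subgroup.disjoint_of_coprime_natCard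
    obtain ⟨k, hk⟩ := IsPGroup.iff_card.mp S.isPGroup'
    rw [hk]
    exact Nat.Coprime.pow_left _ (Nat.coprime_two_left.mpr hN2)
  set π := QuotientGroup.mk' N with hπ
  set T : Sylow 2 (L ⧸ N) := S.mapSurjective (QuotientGroup.mk'_surjective N) with hT
  have hinj : Function.Injective ((π.comp (S : Subgroup L).subtype)) := by
    rw [injective_iff_map_eq_one]
    intro x hx
    have hx' : (x : L) ∈ N := by
      rw [MonoidHom.comp_apply, hπ, QuotientGroup.mk'_apply, QuotientGroup.eq_one_iff] at hx
      exact hx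
    have : (x : L) ∈ (⊥ : Subgroup L) := hSN.le_bot ⟨x.2, hx'⟩
    exact Subtype.ext (Subgroup.mem_bot.mp this)
  have hrange : ((π.comp (S : Subgroup L).subtype)).range = (T : Subgroup (L ⧸ N)) := by
    rw [MonoidHom.range_comp, Subgroup.range_subtype]
    rfl
  have eT : ↥(T : Subgroup (L ⧸ N)) ≃* QuaternionGroup (2 ^ (n + 1)) :=
    ((MulEquiv.subgroupCongr hrange).symm.trans (MonoidHom.ofInjective hinj).symm).trans e
  have hcen := Cfsg.Agent.S0201.result T n eT (fun M hM hM' => hN3 M hM hM')
  set Z := (Subgroup.center (L ⧸ N)).comap π with hZ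
  have hZn : Z.Normal := inferInstance
  have hZne : Z ≠ ⊤ := by
    intro h
    have h1 : Subgroup.center (L ⧸ N) = ⊤ := by
      rw [hZ] at h
      have := congrArg (Subgroup.map π) h
      rw [Subgroup.map_comap_eq_self_of_surjective (QuotientGroup.mk'_surjective N),
        ← MonoidHom.range_eq_map, MonoidHom.range_eq_top_of_surjective _
        (QuotientGroup.mk'_surjective N)] at this
      exact this
    have h2 : Group.IsPerfect (L ⧸ N) := inferInstance
    have h3 : commutator (L ⧸ N) = ⊥ := by
      rw [_root_.commutator_def, Subgroup.commutator_eq_bot_iff_le_centralizer]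
      rw [Subgroup.coe_top, Subgroup.centralizer_univ, h1]
    rw [h2.commutator_eq_top] at h3
    rw [h1, h3] at hcen
    simp at hcen
  have hZc := normal_le_center_of_ne_top hL Z hZne
  have hZeven : 2 ∣ Nat.card Z := by
    have h1 : Nat.card (Z.map π) ∣ Nat.card Z := Subgroup.card_map_dvd ..
    rw [hZ, Subgroup.map_comap_eq_self_of_surjective (QuotientGroup.mk'_surjective N), hcen] at h1
    exact h1
  obtain ⟨t, ht⟩ := exists_prime_orderOf_dvd_card' 2 hZeven
  exact ⟨t, hZc t.2, by rw [Subgroup.orderOf_coe]; exact ht⟩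

end Cfsg.Agent.SignalizersComponents.QsRankOne
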