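import Mathlib.GroupTheory.Commutator.Basic
import Mathlib.GroupTheory.Index
import Mathlib.GroupTheory.Subgroup.Center
import Mathlib.GroupTheory.OrderOfElement
import Mathlib.Tactic
set_option linter.all false

/-!
# The Baer trick

A finite group `N` of odd order and of class at most two carries a commutative group structure with
the same powers as `N`, which is preserved by every endomorphism of `N`.
-/

set_option autoImplicit false

open scoped commutatorElement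

namespace Cfsg.Agent.SignalizersComponents.BaerTrick

universe u

section ClassTwo

variable {N : Type u} [Group N]

theorem comm_left_of_class_two (hc : ∀ x y : N, ⁅x, y⁆ ∈ Subgroup.center N) (x y z : N) :
    ⁅x * y, z⁆ = ⁅x, z⁆ * ⁅y, z⁆ := by
  have h := Subgroup.mem_center_iff.mp (hc y z)
  have h1 : ⁅x * y, z⁆ = x * ⁅y, z⁆ * x⁻¹ * ⁅x, z⁆ := by
    simp only [commutatorElement_def]; group
  rw [h1, h x, mul_assoc ⁅y, z⁆ x x⁻¹, mul_inv_cancel, mul_one]
  exact (h _).symm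

theorem comm_right_of_class_two (hc : ∀ x y : N, ⁅x, y⁆ ∈ Subgroup.center N) (x y z : N) :
    ⁅x, y * z⁆ = ⁅x, y⁆ * ⁅x, z⁆ := by
  have h := Subgroup.mem_center_iff.mp (hc x z)
  have h1 : ⁅x, y * z⁆ = ⁅x, y⁆ * (y * ⁅x, z⁆ * y⁻¹) := by
    simp only [commutatorElement_def]; group
  rw [h1, h y, mul_assoc ⁅x, z⁆ y y⁻¹, mul_inv_cancel, mul_one]

theorem comm_of_mem_center_left {c : N} (hc : c ∈ Subgroup.center N) (x : N) : ⁅c, x⁆ = 1 := by
  rw [commutatorElement_eq_one_iff_mul_comm]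
  exact (Subgroup.mem_center_iff.mp hc x).symm

theorem comm_of_mem_center_right {c : N} (hc : c ∈ Subgroup.center N) (x : N) : ⁅x, c⁆ = 1 := by
  rw [commutatorElement_eq_one_iff_mul_comm]
  exact Subgroup.mem_center_iff.mp hc x

/-- The Baer product `x ∘ y = x y [y, x]^h`. -/
def bmul (h : ℕ) (x y : N) : N := x * y * ⁅y, x⁆ ^ h

theorem bmul_def (h : ℕ) (x y : N) : bmul h x y = x * y * ⁅y, x⁆ ^ h := rfl

theorem bmul_assoc (hc : ∀ x y : N, ⁅x, y⁆ ∈ Subgroup.center N) (h : ℕ) (x y z : N) :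
    bmul h (bmul h x y) z = bmul h x (bmul h y z) := by
  have c1 : ⁅y, x⁆ ^ h ∈ Subgroup.center N := Subgroup.pow_mem _ (hc _ _) _
  have c2 : ⁅z, y⁆ ^ h ∈ Subgroup.center N := Subgroup.pow_mem _ (hc _ _) _
  have c3 : ⁅z, x⁆ ^ h ∈ Subgroup.center N := Subgroup.pow_mem _ (hc _ _) _
  have e1 : ⁅z, x * y * ⁅y, x⁆ ^ h⁆ = ⁅z, x⁆ * ⁅z, y⁆ := by
    rw [comm_right_of_class_two hc, comm_right_of_class_two hc, comm_of_mem_center_right c1,
      mul_one]
  have e2 : ⁅y * z * ⁅z, y⁆ ^ h, x⁆ = ⁅y, x⁆ * ⁅z, x⁆ := by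
    rw [comm_left_of_class_two hc, comm_left_of_class_two hc, comm_of_mem_center_left c2, mul_one]
  rw [bmul_def, bmul_def, bmul_def, bmul_def, e1, e2]
  have m1 : (⁅z, x⁆ * ⁅z, y⁆) ^ h = ⁅z, x⁆ ^ h * ⁅z, y⁆ ^ h :=
    Commute.mul_pow (Subgroup.mem_center_iff.mp (hc z y) _) _
  have m2 : (⁅y, x⁆ * ⁅z, x⁆) ^ h = ⁅y, x⁆ ^ h * ⁅z, x⁆ ^ h :=
    Commute.mul_pow (Subgroup.mem_center_iff.mp (hc z x) _) _
  rw [m1, m2]
  have s1 : x * y * ⁅y, x⁆ ^ h * z = x * y * z * ⁅y, x⁆ ^ h := by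
    rw [mul_assoc (x * y), ← Subgroup.mem_center_iff.mp c1 z, ← mul_assoc]
  rw [s1]
  have s2 : ⁅y, x⁆ ^ h * (⁅z, x⁆ ^ h * ⁅z, y⁆ ^ h) = ⁅z, y⁆ ^ h * (⁅y, x⁆ ^ h * ⁅z, x⁆ ^ h) := by
    rw [← Subgroup.mem_center_iff.mp c2 (⁅y, x⁆ ^ h * ⁅z, x⁆ ^ h), mul_assoc]
  rw [mul_assoc (x * y * z), s2, ← mul_assoc (x * y * z)]
  simp only [mul_assoc]

theorem bmul_comm (hc : ∀ x y : N, ⁅x, y⁆ ∈ Subgroup.center N) {h : ℕ}
    (hh : ∀ x : N, x ^ (2 * h) = x) (x y : N) : bmul h x y = bmul h y x := by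
  rw [bmul_def, bmul_def]
  have h1 : x * y = ⁅x, y⁆ * (y * x) := by
    rw [commutatorElement_def]; group
  have h2 : ⁅y, x⁆ ^ h = (⁅x, y⁆ ^ h)⁻¹ := by
    rw [← inv_pow, commutatorElement_inv]
  have h3 : ⁅x, y⁆ = ⁅x, y⁆ ^ h * ⁅x, y⁆ ^ h := by
    rw [← pow_add, ← two_mul, hh]
  have h4 : ⁅x, y⁆ * (⁅x, y⁆ ^ h)⁻¹ = ⁅x, y⁆ ^ h := mul_inv_eq_of_eq_mul h3
  rw [h1, h2, ← Subgroup.mem_center_iff.mp (hc x y) (y * x), mul_assoc (y * x), h4]

theorem one_bmul (h : ℕ) (x : N) : bmul h 1 x = x := by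
  rw [bmul_def, commutatorElement_one_right, one_pow, one_mul, mul_one]

theorem bmul_one (h : ℕ) (x : N) : bmul h x 1 = x := by
  rw [bmul_def, commutatorElement_one_left, one_pow, mul_one, mul_one]

theorem inv_bmul (h : ℕ) (x : N) : bmul h x⁻¹ x = 1 := by
  rw [bmul_def, commutatorElement_def, inv_inv]
  simp

theorem map_bmul (h : ℕ) (f : N →* N) (x y : N) : f (bmul h x y) = bmul h (f x) (f y) := by
  rw [bmul_def, bmul_def, map_mul, map_mul, map_pow, map_commutatorElement]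

/-- A copy of the type `N`, without its group structure. -/
def Copy (N : Type u) : Type u := N

/-- The commutative group structure given by the Baer product. -/
@[reducible]
def baerGroup (hc : ∀ x y : N, ⁅x, y⁆ ∈ Subgroup.center N) {h : ℕ}
    (hh : ∀ x : N, x ^ (2 * h) = x) : CommGroup (Copy N) where
  mul x y := bmul (N := N) h x y
  mul_assoc x y z := bmul_assoc (N := N) hc h x y z
  one := (1 : N)
  one_mul x := one_bmul (N := N) h x
  mul_one x := bmul_one (N := N) h x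
  inv x := (Inv.inv (α := N) x : N)
  inv_mul_cancel x := inv_bmul (N := N) h x
  mul_comm x y := bmul_comm (N := N) hc hh x y

/-- **Baer trick.** -/
theorem exists_baer (N : Type u) [Group N] [Finite N] (hodd : Odd (Nat.card N))
    (hc : ∀ x y : N, ⁅x, y⁆ ∈ Subgroup.center N) :
    ∃ (V : Type u) (_ : CommGroup V) (e : N ≃ V), (∀ (x : N) (n : ℕ), e (x ^ n) = e x ^ n) ∧
      (∀ x y : N, Commute x y → e (x * y) = e x * e y) ∧
      (∀ f : N →* N, ∀ a b : V, e (f (e.symm (a * b))) = e (f (e.symm a)) * e (f (e.symm b))) := by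
  obtain ⟨k, hk⟩ := hodd
  have hh : ∀ x : N, x ^ (2 * (k + 1)) = x := by
    intro x
    have h1 : 2 * (k + 1) = Nat.card N + 1 := by rw [hk]; ring
    rw [h1, pow_succ, pow_card_eq_one', one_mul]
  have hcomm : ∀ x y : N, Commute x y → x * y = bmul (k + 1) x y := by
    intro x y hxy
    rw [bmul_def, (commutatorElement_eq_one_iff_mul_comm).mpr hxy.symm.eq, one_pow, mul_one]
  let inst : CommGroup (Copy N) := baerGroup hc hh
  refine ⟨Copy N, inst, (Equiv.refl N : N ≃ Copy N), ?_, ?_, ?_⟩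
  · intro x n
    induction n with
    | zero => rw [pow_zero, pow_zero]; rfl
    | succ n ih =>
      rw [pow_succ, pow_succ, ← ih, hcomm _ _ (Commute.pow_left rfl n)]
      rfl
  · intro x y hxy
    exact hcomm x y hxy
  · intro f a b
    exact map_bmul (N := N) (k + 1) f a b

end ClassTwo

end Cfsg.Agent.SignalizersComponents.BaerTrick
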