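import Mathlib.GroupTheory.Sylow
import Mathlib.GroupTheory.Nilpotent
import Mathlib.GroupTheory.Solvable
import Mathlib.GroupTheory.Subgroup.Centralizer
import Mathlib.GroupTheory.Commutator.Basic
import Mathlib.Tactic
import Cfsg.Agent.SignalizersComponents.BaerTrick
set_option linter.all false

/-!
# A p'-group and a p-group acting on a p-group, p odd

`le_centralizer_of_fixed`: let `p` be odd, `P` a `p`-subgroup, `Q` a `p'`-subgroup, `A` a `p`-subgroup of a
finite group such that `A` normalizes `Q`, and `A`, `Q` normalize `P`. If `Q` centralizes every element of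
order `p` of `C_P(A)` then `Q` centralizes `P`.
-/

set_option autoImplicit false
set_option linter.style.haveILetI false

open scoped commutatorElement

namespace Cfsg.Agent.SignalizersComponents.InvariantPPrime

open Cfsg.Agent.SignalizersComponents.BaerTrick

universe u v

/-- Abelian case: `Q` and `A` act on the commutative `p`-group `V`. -/
theorem fixed_of_abelian {V : Type u} [CommGroup V] [Finite V] {p : ℕ} [Fact p.Prime]
    (hV : IsPGroup p V) {Γ : Type v} [Group Γ] (ρ : Γ →* MulAut V) (Q A : Subgroup Γ) [Finite Q]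
    (hQ : ¬ p ∣ Nat.card Q) (hA : IsPGroup p A) (hAQ : A ≤ Subgroup.normalizer (Q : Set Γ))
    (hfix : ∀ x : V, orderOf x = p → (∀ a ∈ A, ρ a x = x) → ∀ q ∈ Q, ρ q x = x) :
    ∀ q ∈ Q, ∀ x : V, ρ q x = x := by
  classical
  haveI := Fintype.ofFinite Q
  have hpp : p.Prime := Fact.out
  have hcop : ∀ v : V, (Nat.card Q).Coprime (orderOf v) := by
    intro v
    obtain ⟨k, hk⟩ := (IsPGroup.iff_orderOf.mp hV) v
    rw [hk]
    exact Nat.Coprime.pow_right _ ((Nat.Prime.coprime_iff_not_dvd hpp).mpr hQ).symm
  -- the norm map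
  let nm : V →* V :=
    { toFun := fun v => ∏ q : Q, ρ q v
      map_one' := by simp
      map_mul' := fun x y => by simp [Finset.prod_mul_distrib] }
  have nm_def : ∀ v, nm v = ∏ q : Q, ρ q v := fun v => rfl
  have nm_fixed : ∀ q ∈ Q, ∀ v, ρ q (nm v) = nm v := by
    intro q hq v
    rw [nm_def, map_prod]
    refine Fintype.prod_equiv (Equiv.mulLeft (⟨q, hq⟩ : Q)) _ _ ?_
    intro a
    simp [map_mul]
  have nm_A : ∀ a ∈ A, ∀ v, ρ a (nm v) = nm (ρ a v) := by
    intro a ha v
    rw [nm_def, nm_def, map_prod]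
    have hn : a ∈ Subgroup.normalizer (Q : Set Γ) := hAQ ha
    refine Fintype.prod_equiv ((Subgroup.normalizerMonoidHom Q ⟨a, hn⟩).toEquiv) _ _ ?_
    intro q
    have h1 : (((Subgroup.normalizerMonoidHom Q ⟨a, hn⟩).toEquiv q : Q) : Γ) = a * q * a⁻¹ := rfl
    rw [h1, map_mul, map_mul]
    simp
  have nm_of_fixed : ∀ v, (∀ q ∈ Q, ρ q v = v) → nm v = v ^ Nat.card Q := by
    intro v hv
    have h1 : ∀ q : Q, ρ q v = v := fun q => hv q q.2
    rw [nm_def, Finset.prod_congr rfl (fun q _ => h1 q), Finset.prod_const, Finset.card_univ,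
      Nat.card_eq_fintype_card]
  let π : V →* V :=
    { toFun := fun v => v ^ Nat.card Q * (nm v)⁻¹
      map_one' := by simp
      map_mul' := fun x y => by rw [map_mul, mul_pow, mul_inv, mul_mul_mul_comm] }
  have π_def : ∀ v, π v = v ^ Nat.card Q * (nm v)⁻¹ := fun v => rfl
  have nm_π : ∀ v, nm (π v) = 1 := by
    intro v
    rw [π_def, map_mul, map_pow, map_inv, nm_of_fixed (nm v) (fun q hq => nm_fixed q hq v)]
    simp
  have π_A : ∀ a ∈ A, ∀ v, ρ a (π v) = π (ρ a v) := by
    intro a ha v
    rw [π_def, π_def, map_mul, map_pow, map_inv, nm_A a ha]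
  have π_one : ∀ v, π v = 1 := by
    by_contra hne
    push Not at hne
    obtain ⟨v₀, hv₀⟩ := hne
    let W : Subgroup V := π.range
    have hW : IsPGroup p W := hV.to_subgroup W
    have hWnt : Nontrivial W := ⟨⟨⟨π v₀, v₀, rfl⟩, 1, fun h => hv₀ (congrArg Subtype.val h)⟩⟩
    have hpW : p ∣ Nat.card W := by
      obtain ⟨n, hn0, hn⟩ := hW.nontrivial_iff_card.mp hWnt
      rw [hn]; exact dvd_pow_self p hn0.ne'
    have hWA : ∀ a ∈ A, ∀ w ∈ W, ρ a w ∈ W := by
      rintro a ha _ ⟨v, rfl⟩
      exact ⟨ρ a v, (π_A a ha v).symm⟩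
    let act : MulAction A W :=
      { smul := fun a w => ⟨ρ a w, hWA a a.2 w w.2⟩
        one_smul := fun w => Subtype.ext (by
          change ρ ((1 : A) : Γ) (w : V) = w
          simp)
        mul_smul := fun a b w => Subtype.ext (by
          change ρ ((a * b : A) : Γ) (w : V) = ρ a (ρ b w)
          simp [map_mul]) }
    have hsm : ∀ (a : A) (w : W), ((a • w : W) : V) = ρ a w := fun a w => rfl
    have h1 : (1 : W) ∈ MulAction.fixedPoints A W := by
      intro a
      apply Subtype.ext
      rw [hsm]; simp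
    obtain ⟨w, hw, hw1⟩ :=
      hA.exists_fixed_point_of_prime_dvd_card_of_fixed_point W hpW h1
    have hwne : (w : V) ≠ 1 := fun h => hw1 (Subtype.ext h.symm)
    -- take a power of order p
    obtain ⟨k, hk⟩ := (IsPGroup.iff_orderOf.mp hV) (w : V)
    have hk0 : k ≠ 0 := by
      rintro rfl
      rw [pow_zero, orderOf_eq_one_iff] at hk
      exact hwne hk
    obtain ⟨m, rfl⟩ := Nat.exists_eq_succ_of_ne_zero hk0
    set x : V := (w : V) ^ (p ^ m) with hx
    have hxo : orderOf x = p := by
      rw [hx, orderOf_pow_of_dvd (pow_ne_zero _ hpp.ne_zero) (by rw [hk]; exact pow_dvd_pow _ (Nat.le_succ m)), hk,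
        Nat.pow_div (Nat.le_succ m) hpp.pos]
      simp
    have hxA : ∀ a ∈ A, ρ a x = x := by
      intro a ha
      have := congrArg Subtype.val (hw ⟨a, ha⟩)
      rw [hsm] at this
      rw [hx, map_pow]
      exact congrArg (· ^ (p ^ m)) this
    have hxQ := hfix x hxo hxA
    have hx2 : nm x = x ^ Nat.card Q := nm_of_fixed x hxQ
    have hxW : x ∈ W := W.pow_mem w.2 _
    obtain ⟨v, hv⟩ := hxW
    rw [← hv, nm_π v, hv] at hx2
    have h3 : orderOf x ∣ Nat.card Q := orderOf_dvd_of_pow_eq_one hx2.symm
    rw [hxo] at h3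
    exact hQ h3
  intro q hq x
  have h1 : x ^ Nat.card Q = nm x := by
    have := π_one x
    rw [π_def] at this
    exact mul_inv_eq_one.mp this
  obtain ⟨m, hm⟩ := exists_pow_eq_self_of_coprime (hcop x)
  rw [← hm, map_pow, h1, nm_fixed q hq]

/-- Class two case. -/
theorem fixed_of_class_two {N : Type u} [Group N] [Finite N] {p : ℕ} [Fact p.Prime] (hp : p ≠ 2)
    (hN : IsPGroup p N) (hc : ∀ x y : N, ⁅x, y⁆ ∈ Subgroup.center N)
    {Γ : Type v} [Group Γ] (ρ : Γ →* MulAut N) (Q A : Subgroup Γ) [Finite Q]
    (hQ : ¬ p ∣ Nat.card Q) (hA : IsPGroup p A) (hAQ : A ≤ Subgroup.normalizer (Q : Set Γ))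
    (hfix : ∀ x : N, orderOf x = p → (∀ a ∈ A, ρ a x = x) → ∀ q ∈ Q, ρ q x = x) :
    ∀ q ∈ Q, ∀ x : N, ρ q x = x := by
  have hpp : p.Prime := Fact.out
  have hodd : Odd (Nat.card N) := by
    obtain ⟨k, hk⟩ := hN.exists_card_eq
    rw [hk]
    exact (hpp.odd_of_ne_two hp).pow
  obtain ⟨V, instV, e, hpow, -, hmap⟩ := exists_baer N hodd hc
  haveI : Finite V := Finite.of_equiv N e
  have e1 : e 1 = 1 := by
    have := hpow 1 0
    rw [pow_zero, pow_zero] at this
    exact this
  have hord : ∀ x : N, orderOf (e x) = orderOf x := by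
    intro x
    apply Nat.dvd_antisymm
    · apply orderOf_dvd_of_pow_eq_one
      rw [← hpow, pow_orderOf_eq_one, e1]
    · apply orderOf_dvd_of_pow_eq_one
      apply e.injective
      rw [hpow, pow_orderOf_eq_one, e1]
  have hV : IsPGroup p V := by
    rw [IsPGroup.iff_orderOf]
    intro v
    obtain ⟨k, hk⟩ := (IsPGroup.iff_orderOf.mp hN) (e.symm v)
    refine ⟨k, ?_⟩
    rw [← hk, ← hord, e.apply_symm_apply]
  let σ : Γ →* MulAut V :=
    { toFun := fun g =>
        { toFun := fun v => e (ρ g (e.symm v))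
          invFun := fun v => e (ρ g⁻¹ (e.symm v))
          left_inv := fun v => by
            simp only [e.symm_apply_apply, map_inv]
            rw [MulAut.inv_apply_self, e.apply_symm_apply]
          right_inv := fun v => by
            simp only [e.symm_apply_apply, map_inv]
            rw [MulAut.apply_inv_self, e.apply_symm_apply]
          map_mul' := fun a b => hmap (ρ g).toMonoidHom a b }
      map_one' := by
        ext v
        change e (ρ 1 (e.symm v)) = v
        simp
      map_mul' := fun g h => by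
        ext v
        change e (ρ (g * h) (e.symm v)) = e (ρ g (e.symm (e (ρ h (e.symm v)))))
        rw [map_mul, e.symm_apply_apply, MulAut.mul_apply] }
  have hσ : ∀ g v, σ g v = e (ρ g (e.symm v)) := fun g v => rfl
  have key := fixed_of_abelian hV σ Q A hQ hA hAQ (by
    intro v hv hvA q hq
    rw [hσ]
    have h1 : orderOf (e.symm v) = p := by rw [← hord, e.apply_symm_apply, hv]
    rw [hfix (e.symm v) h1 (fun a ha => by
      have := hvA a ha
      rw [hσ] at this
      rw [← e.symm_apply_apply (ρ a (e.symm v)), this]) q hq, e.apply_symm_apply])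
  intro q hq x
  have := key q hq (e x)
  rw [hσ, e.symm_apply_apply] at this
  exact e.injective this

/-- If a `p'`-group `Q` centralizes `[P, Q]`, `P` a `p`-group, then `Q` centralizes `P`. -/
theorem le_centralizer_of_le_centralizer_commutator {G : Type u} [Group G] {p : ℕ} [Fact p.Prime]
    (P Q : Subgroup G) [Finite Q] (hP : IsPGroup p P) (hQ : ¬ p ∣ Nat.card Q)
    (hQP : Q ≤ Subgroup.normalizer (P : Set G))
    (h : Q ≤ Subgroup.centralizer (⁅P, Q⁆ : Subgroup G)) : Q ≤ Subgroup.centralizer (P : Set G) := by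
  have hpp : p.Prime := Fact.out
  intro q hq
  rw [Subgroup.mem_centralizer_iff]
  intro x hx
  have hcP : ⁅P, Q⁆ ≤ P := Subgroup.le_normalizer_iff_commutator_le_left.mp hQP
  have hc : ⁅x, q⁆ ∈ ⁅P, Q⁆ := Subgroup.commutator_mem_commutator hx hq
  have hcomm : Commute q ⁅x, q⁆ := (Subgroup.mem_centralizer_iff.mp (h hq) _ hc).symm
  -- x q x⁻¹ = c q, so x q^n x⁻¹ = c^n q^n
  have h1 : x * q * x⁻¹ = ⁅x, q⁆ * q := by rw [commutatorElement_def]; group
  have h2 : ∀ n : ℕ, x * q ^ n * x⁻¹ = ⁅x, q⁆ ^ n * q ^ n := by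
    intro n
    rw [← hcomm.symm.mul_pow, ← h1, conj_pow]
  have h3 : ⁅x, q⁆ ^ Nat.card Q = 1 := by
    have hq1 : q ^ Nat.card Q = 1 := by
      have h5 : (⟨q, hq⟩ : Q) ^ Nat.card Q = 1 := pow_card_eq_one'
      have h6 := congrArg Subtype.val h5
      rwa [Subgroup.coe_pow] at h6
    have := h2 (Nat.card Q)
    rw [hq1] at this
    simpa using this.symm
  have h4 : ⁅x, q⁆ = 1 := by
    obtain ⟨k, hk⟩ := (IsPGroup.iff_orderOf.mp hP) ⟨⁅x, q⁆, hcP hc⟩
    rw [Subgroup.orderOf_mk] at hk
    have h5 : orderOf ⁅x, q⁆ ∣ Nat.card Q := orderOf_dvd_of_pow_eq_one h3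
    rw [hk] at h5
    rcases Nat.eq_zero_or_pos k with rfl | hkpos
    · rw [pow_zero, orderOf_eq_one_iff] at hk; exact hk
    · exact absurd ((dvd_pow_self p hkpos.ne').trans h5) hQ
  exact commutatorElement_eq_one_iff_mul_comm.mp h4

theorem le_centralizer_of_fixed_aux {G : Type u} [Group G] [Finite G] {p : ℕ} [Fact p.Prime]
    (hp : p ≠ 2) (Q A : Subgroup G) (hQ : ¬ p ∣ Nat.card Q) (hA : IsPGroup p A)
    (hAQ : A ≤ Subgroup.normalizer (Q : Set G)) (n : ℕ) :
    ∀ P : Subgroup G, Nat.card P ≤ n → IsPGroup p P → Q ≤ Subgroup.normalizer (P : Set G) →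
      A ≤ Subgroup.normalizer (P : Set G) →
      (∀ x ∈ P, orderOf x = p → x ∈ Subgroup.centralizer (A : Set G) →
        x ∈ Subgroup.centralizer (Q : Set G)) → Q ≤ Subgroup.centralizer (P : Set G) := by
  induction n with
  | zero =>
    intro P hn
    exact absurd hn (Nat.not_le.mpr Nat.card_pos)
  | succ n ih =>
    intro P hn hP hQP hAP hfix
    have hsub : ∀ D : Subgroup G, D < P → Q ≤ Subgroup.normalizer (D : Set G) →
        A ≤ Subgroup.normalizer (D : Set G) → Q ≤ Subgroup.centralizer (D : Set G) := by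
      intro D hD hQD hAD
      have hlt : Nat.card D < Nat.card P := by
        refine lt_of_le_of_ne (Subgroup.card_le_of_le hD.le) ?_
        intro h
        exact hD.ne (Subgroup.eq_of_le_of_card_ge hD.le h.ge)
      exact ih D (by omega) (hP.to_le hD.le) hQD hAD (fun x hx => hfix x (hD.le hx))
    have hcP : ⁅P, Q⁆ ≤ P := Subgroup.le_normalizer_iff_commutator_le_left.mp hQP
    -- A normalizes [P, Q]
    have hAc : A ≤ Subgroup.normalizer ((⁅P, Q⁆ : Subgroup G) : Set G) := by
      apply Subgroup.le_normalizer_closure_iff.mpr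
      rintro a ha _ ⟨x, hx, q, hq, rfl⟩
      rw [conjugate_commutatorElement]
      exact Subgroup.commutator_mem_commutator
        (Subgroup.le_normalizer_iff.mp hAP a ha x hx) (Subgroup.le_normalizer_iff.mp hAQ a ha q hq)
    have hQc : Q ≤ Subgroup.normalizer ((⁅P, Q⁆ : Subgroup G) : Set G) :=
      Subgroup.normalizer_commutator_ge_right P Q
    rcases hcP.lt_or_eq with hlt | heq
    · exact le_centralizer_of_le_centralizer_commutator P Q hP hQ hQP (hsub _ hlt hQc hAc)
    · -- [P, Q] = P
      have hgen : ∀ B : Subgroup G, B ≤ Subgroup.normalizer (P : Set G) →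
          B ≤ Subgroup.normalizer ((⁅P, P⁆ : Subgroup G) : Set G) := by
        intro B hB
        apply Subgroup.le_normalizer_closure_iff.mpr
        rintro a ha _ ⟨x, hx, y, hy, rfl⟩
        rw [conjugate_commutatorElement]
        exact Subgroup.commutator_mem_commutator
          (Subgroup.le_normalizer_iff.mp hB a ha x hx) (Subgroup.le_normalizer_iff.mp hB a ha y hy)
      have hPP : ⁅P, P⁆ ≤ P := Subgroup.commutator_le.mpr (fun x hx y hy => by
        rw [commutatorElement_def]
        exact P.mul_mem (P.mul_mem (P.mul_mem hx hy) (P.inv_mem hx)) (P.inv_mem hy))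
      rcases hPP.lt_or_eq with hlt | heq2
      · have hQD := hsub _ hlt (hgen Q hQP) (hgen A hAP)
        -- [P', Q] = 1, so [P', P] = [P', [P, Q]] = 1
        have h1 : ⁅⁅P, P⁆, Q⁆ = ⊥ := by
          rw [Subgroup.commutator_comm, Subgroup.commutator_eq_bot_iff_le_centralizer]
          exact hQD
        have h2 : ⁅⁅P, Q⁆, ⁅P, P⁆⁆ = ⊥ := by
          apply Subgroup.commutator_commutator_eq_bot_of_rotate
          · rw [Subgroup.commutator_comm Q, h1, Subgroup.commutator_bot_left]
          · rw [eq_bot_iff, ← h1]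
            exact Subgroup.commutator_mono
              (by rw [Subgroup.commutator_comm]; exact Subgroup.commutator_mono le_rfl hPP) le_rfl
        rw [heq, Subgroup.commutator_comm, Subgroup.commutator_eq_bot_iff_le_centralizer] at h2
        have hc : ∀ x y : P, ⁅x, y⁆ ∈ Subgroup.center P := by
          intro x y
          rw [Subgroup.mem_center_iff]
          intro z
          apply Subtype.ext
          have h3 : ⁅(x : G), (y : G)⁆ ∈ ⁅P, P⁆ := Subgroup.commutator_mem_commutator x.2 y.2
          exact Subgroup.mem_centralizer_iff.mp (h2 h3) z z.2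
        let ρ : (Subgroup.normalizer (P : Set G)) →* MulAut P := Subgroup.normalizerMonoidHom P
        have hρ : ∀ (g : Subgroup.normalizer (P : Set G)) (x : P),
            ((ρ g x : P) : G) = (g : G) * x * (g : G)⁻¹ := fun g x => rfl
        have key := fixed_of_class_two (N := P) hp hP hc ρ
          (Q.subgroupOf (Subgroup.normalizer (P : Set G)))
          (A.subgroupOf (Subgroup.normalizer (P : Set G)))
          (by rw [Nat.card_congr (Subgroup.subgroupOfEquivOfLe hQP).toEquiv]; exact hQ)
          (hA.of_equiv (Subgroup.subgroupOfEquivOfLe hAP).symm)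
          (by
            rw [Subgroup.le_normalizer_iff]
            intro a ha q hq
            exact Subgroup.le_normalizer_iff.mp hAQ a ha q hq)
          (by
            intro x hx hxA q hq
            have hx' : orderOf (x : G) = p := by rw [← hx]; exact Subgroup.orderOf_coe x
            have hxc : (x : G) ∈ Subgroup.centralizer (A : Set G) := by
              rw [Subgroup.mem_centralizer_iff]
              intro a ha
              have h4 := congrArg Subtype.val (hxA ⟨a, hAP ha⟩ ha)
              rw [hρ] at h4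
              exact mul_inv_eq_iff_eq_mul.mp h4
            have h5 := Subgroup.mem_centralizer_iff.mp (hfix x x.2 hx' hxc) q hq
            apply Subtype.ext
            rw [hρ]
            exact mul_inv_eq_of_eq_mul h5)
        intro q hq
        rw [Subgroup.mem_centralizer_iff]
        intro x hx
        have h6 := congrArg Subtype.val (key ⟨q, hQP hq⟩ hq ⟨x, hx⟩)
        rw [hρ] at h6
        exact (mul_inv_eq_iff_eq_mul.mp h6).symm
      · -- P = P' forces P = 1
        have hbot : P = ⊥ := by
          by_contra hne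
          have : Nontrivial P := (Subgroup.nontrivial_iff_ne_bot P).mpr hne
          have hnil : Group.IsNilpotent P := hP.isNilpotent
          have hsol : Group.IsSolvable P := inferInstance
          have hlt := Group.IsSolvable.commutator_lt_top_of_nontrivial P
          apply hlt.ne
          rw [eq_top_iff]
          intro x _
          have h7 : (x : G) ∈ ⁅P, P⁆ := by rw [heq2]; exact x.2
          have h8 : (commutator P).map P.subtype = ⁅P, P⁆ := by
            rw [commutator_def, Subgroup.map_commutator, ← MonoidHom.range_eq_map,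
              Subgroup.range_subtype]
          rw [← h8] at h7
          obtain ⟨y, hy, hyx⟩ := h7
          have : y = x := Subtype.ext hyx
          rw [← this]; exact hy
        rw [hbot]
        intro q _
        rw [Subgroup.mem_centralizer_iff]
        intro x hx
        rw [Subgroup.coe_bot, Set.mem_singleton_iff] at hx
        rw [hx, one_mul, mul_one]

/-- Let `p` be odd, `P` a `p`-subgroup, `Q` a `p'`-subgroup and `A` a `p`-subgroup of a finite group, such that
`A` normalizes `Q` and both normalize `P`. If `Q` centralizes each element of order `p` of `C_P(A)`, then `Q`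
centralizes `P`. -/
theorem le_centralizer_of_fixed {G : Type u} [Group G] [Finite G] {p : ℕ} [Fact p.Prime]
    (hp : p ≠ 2) (P Q A : Subgroup G) (hP : IsPGroup p P) (hQ : ¬ p ∣ Nat.card Q)
    (hA : IsPGroup p A) (hAQ : A ≤ Subgroup.normalizer (Q : Set G))
    (hQP : Q ≤ Subgroup.normalizer (P : Set G)) (hAP : A ≤ Subgroup.normalizer (P : Set G))
    (hfix : ∀ x ∈ P, orderOf x = p → x ∈ Subgroup.centralizer (A : Set G) →
      x ∈ Subgroup.centralizer (Q : Set G)) : Q ≤ Subgroup.centralizer (P : Set G) :=
  le_centralizer_of_fixed_aux hp Q A hQ hA hAQ (Nat.card P) P le_rfl hP hQP hAP hfix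

end Cfsg.Agent.SignalizersComponents.InvariantPPrime
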