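import Mathlib
import Cfsg.Agent.SignalizersComponents.IntrinsicBasic
import Cfsg.Agent.S1314
import Cfsg.Agent.SignalizersComponents.IntrinsicIntr
set_option linter.all false

-- part: SignalizersComponents/IntrinsicCaseA
section
/-!
First step for S1315: if a 2-element `y` of a subnormal subgroup `S` of `C(u)` with unique
involution `u` moves a component `J` (with a unique involution), then `u` normalizes `J` but does
not centralize it.
-/

set_option autoImplicit false

namespace Cfsg.Agent.SignalizersComponents.IntrinsicCaseA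

open Subgroup Cfsg IntrinsicBasic

open scoped commutatorElement

/-- Let `S` be subnormal, `y ∈ S` and `E` a perfect subgroup commuting with `y E y⁻¹`.
Then `E ≤ S`. -/
theorem le_of_isSubnormal {W : Type*} [Group W] {S E : Subgroup W} (hS : S.IsSubnormal) {y : W}
    (hE : ⁅E, E⁆ = E) (hc : ∀ e ∈ E, ∀ f ∈ E, e * (y * f * y⁻¹) = (y * f * y⁻¹) * e) (hy : y ∈ S) :
    E ≤ S := by
  induction hS with
  | top => exact le_top
  | step H K h_le hSubn hN ih =>
    have hEK := ih (h_le hy)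
    rw [← hE, Subgroup.commutator_le]
    intro e he f hf
    have hconj : ∀ k ∈ K, ∀ h ∈ H, k * h * k⁻¹ ∈ H := by
      intro k hk h hh
      exact (hN.conj_mem ⟨h, h_le hh⟩ hh ⟨k, hk⟩)
    have h1 : y * (e * y⁻¹ * e⁻¹) ∈ H := H.mul_mem hy (hconj e (hEK he) _ (H.inv_mem hy))
    have h2 := hconj f (hEK hf) _ h1
    have h3 := H.mul_mem (H.inv_mem h1) h2
    convert h3 using 1
    have h4 := hc f hf e he
    calc ⁅e, f⁆ = e * f * e⁻¹ * f⁻¹ := commutatorElement_def e f
      _ = e * (y * e * y⁻¹)⁻¹ * ((y * e * y⁻¹) * f) * e⁻¹ * f⁻¹ := by group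
      _ = e * (y * e * y⁻¹)⁻¹ * (f * (y * e * y⁻¹)) * e⁻¹ * f⁻¹ := by rw [h4]
      _ = _ := by group

theorem comm_of_ne {X : Type*} [Group X] {J K : Subgroup X} (hJ : IsComponent J)
    (hK : IsComponent K) (hne : J ≠ K) : ∀ j ∈ J, ∀ k ∈ K, j * k = k * j := by
  have h := Components.component_commutator_eq_bot_of_ne hJ hK hne
  intro j hj k hk
  have h1 : ⁅j, k⁆ ∈ (⊥ : Subgroup X) := h ▸ Subgroup.commutator_mem_commutator hj hk
  rw [Subgroup.mem_bot] at h1
  exact commutatorElement_eq_one_iff_mul_comm.mp h1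

theorem isComponent_cj {X : Type*} [Group X] {J : Subgroup X} (hJ : IsComponent J) (g : X) :
    IsComponent (cj g J) := Components.isComponent_conj g hJ

theorem main {X : Type*} [Group X] [Finite X] {J : Subgroup X} {z u y : X} (hJ : IsComponent J)
    (hzX : ∀ x, x * z = z * x) (hzJ : z ∈ J) (hz2 : z * z = 1) (hzne : z ≠ 1)
    (hctr : ∀ j ∈ J, (∀ k ∈ J, j * k = k * j) → j * j = 1)
    (h4 : ∃ h ∈ J, h * h = z)
    {S : Subgroup X} (hu2 : u * u = 1) (hune : u ≠ 1)
    (hSuniq : ∀ t ∈ S, t * t = 1 → t ≠ 1 → t = u) (hScomm : S ≤ centralizer ({u} : Set X))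
    (hSsub : (S.subgroupOf (centralizer ({u} : Set X))).IsSubnormal) (hyS : y ∈ S)
    {n : ℕ} (hn : 2 ≤ n) (hy : orderOf y = 2 ^ n) (hyJ : cj y J ≠ J) :
    cj u J = J ∧ ∃ j ∈ J, u * j ≠ j * u := by
  have hJp : ⁅J, J⁆ = J := Components.component_commutator_self hJ
  have hyu : y * u = u * y := by
    have := hScomm hyS
    rw [mem_centralizer_singleton_iff] at this
    exact this
  have hu1 : u⁻¹ = u := inv_eq_of_mul_eq_one_left hu2
  obtain ⟨h, hhJ, hhz⟩ := h4
  have hhctr : ¬ (∀ k ∈ J, h * k = k * h) := by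
    intro hk
    have := hctr h hhJ hk
    rw [hhz] at this
    exact hzne this
  have hJy : IsComponent (cj y J) := isComponent_cj hJ y
  -- perfect subgroups of `C(u)` commuting with their conjugate under `y` lie in `S`
  have hES : ∀ E : Subgroup X, E ≤ centralizer ({u} : Set X) → ⁅E, E⁆ = E →
      (∀ e ∈ E, ∀ f ∈ E, e * (y * f * y⁻¹) = (y * f * y⁻¹) * e) → E ≤ S := by
    intro E hEu hEp hEc
    have h1 : E.subgroupOf (centralizer ({u} : Set X)) ≤ S.subgroupOf (centralizer ({u} : Set X)) := by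
      refine le_of_isSubnormal hSsub (y := ⟨y, hScomm hyS⟩) ?_ ?_ hyS
      · apply Subgroup.map_injective (centralizer ({u} : Set X)).subtype_injective
        rw [Subgroup.map_commutator, subgroupOf_map_subtype, inf_of_le_left hEu, hEp]
      · intro e he f hf
        apply Subtype.ext
        exact hEc e he f hf
    intro e he
    exact h1 (x := ⟨e, hEu he⟩) he
  by_cases hcase : cj u J = J
  · refine ⟨hcase, ?_⟩
    by_contra hcon
    push Not at hcon
    have hJS : J ≤ S := by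
      refine hES J ?_ hJp ?_
      · intro j hj
        rw [mem_centralizer_singleton_iff]
        exact (hcon j hj).symm
      · intro e he f hf
        exact comm_of_ne hJ hJy hyJ.symm e he _ (conj_mem_cj hf)
    have hzu : z = u := hSuniq z (hJS hzJ) hz2 hzne
    set h' := y * h * y⁻¹ with hh'
    have hh'S : h' ∈ S := S.mul_mem (S.mul_mem hyS (hJS hhJ)) (S.inv_mem hyS)
    have hh'J : h' ∈ cj y J := conj_mem_cj hhJ
    have hcomm : h * h' = h' * h := comm_of_ne hJ hJy hyJ.symm h hhJ h' hh'J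
    have hh'2 : h' * h' = z := by
      calc h' * h' = y * (h * h) * y⁻¹ := by rw [hh']; group
        _ = z := by rw [hhz, hzX y]; group
    have ht2 : (h * h') * (h * h') = 1 := by
      calc (h * h') * (h * h') = h * (h' * h) * h' := by group
        _ = h * (h * h') * h' := by rw [hcomm]
        _ = (h * h) * (h' * h') := by group
        _ = 1 := by rw [hhz, hh'2, hz2]
    have hh'cen : ∀ k ∈ J, h' * k = k * h' := fun k hk =>
      (comm_of_ne hJ hJy hyJ.symm k hk h' hh'J).symm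
    apply hhctr
    by_cases ht1 : h * h' = 1
    · have h5 : h = h'⁻¹ := eq_inv_of_mul_eq_one_left ht1
      intro k hk
      rw [h5]
      exact (Commute.inv_left (hh'cen k hk))
    · have ht3 := hSuniq _ (S.mul_mem (hJS hhJ) hh'S) ht2 ht1
      rw [← hzu] at ht3
      have h5 : h = z * h'⁻¹ := eq_mul_inv_of_mul_eq ht3
      intro k hk
      rw [h5]
      have h6 : h'⁻¹ * k = k * h'⁻¹ := Commute.inv_left (hh'cen k hk)
      rw [mul_assoc, h6, ← mul_assoc, ← hzX k, mul_assoc]
  · exfalso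
    have hJu : IsComponent (cj u J) := isComponent_cj hJ u
    have hJyu : IsComponent (cj y (cj u J)) := isComponent_cj hJu y
    -- `u` is a power of `y`
    have hyn : y ^ 2 ^ n = 1 := by rw [← hy]; exact pow_orderOf_eq_one y
    have hyu' : y ^ 2 ^ (n - 1) = u := by
      apply hSuniq _ (S.pow_mem hyS _)
      · rw [← pow_add, ← two_mul, ← pow_succ', Nat.sub_add_cancel (by omega), hyn]
      · intro h1
        have h2 := orderOf_dvd_of_pow_eq_one h1
        rw [hy] at h2
        have h3 := Nat.le_of_dvd (by positivity) h2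
        have h4 : 2 ^ (n - 1) < 2 ^ n := Nat.pow_lt_pow_right (by norm_num) (by omega)
        omega
    have hyuJ : cj (y * u) J ≠ J := by
      intro h1
      apply hyJ
      have h2 : ∀ k : ℕ, cj ((y * u) ^ k) J = J := by
        intro k
        induction k with
        | zero => rw [pow_zero, cj_one]
        | succ k ih => rw [pow_succ, cj_mul, h1, ih]
      have h3 : (y * u) ^ (1 + 2 ^ (n - 1)) = y := by
        have h4 : (y * u) ^ (1 + 2 ^ (n - 1)) = y ^ (1 + 2 ^ (n - 1)) * u ^ (1 + 2 ^ (n - 1)) :=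
          (Commute.mul_pow (show Commute y u from hyu) _)
        have h5 : u ^ (1 + 2 ^ (n - 1)) = u := by
          have h6 : 1 + 2 ^ (n - 1) = 2 * 2 ^ (n - 2) + 1 := by
            rw [← pow_succ']
            rw [show n - 2 + 1 = n - 1 by omega]; ring
          rw [h6, pow_succ, pow_mul, pow_two, hu2, one_pow, one_mul]
        rw [h4, h5, pow_add, pow_one, hyu', mul_assoc, hu2, mul_one]
      rw [← h3]
      exact h2 _
    have ne1 : J ≠ cj y J := hyJ.symm
    have ne2 : J ≠ cj y (cj u J) := by rw [← cj_mul]; exact hyuJ.symm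
    have ne3 : cj u J ≠ cj y J := by
      intro h1
      apply hyuJ
      have h2 := congrArg (cj u) h1
      rw [← cj_mul, hu2, cj_one, ← cj_mul, ← hyu] at h2
      exact h2.symm
    have ne4 : cj u J ≠ cj y (cj u J) := by
      intro h1
      apply hyJ
      have h2 := congrArg (cj u) h1
      rw [← cj_mul, hu2, cj_one, ← cj_mul, ← cj_mul, ← hyu, mul_assoc, hu2, mul_one] at h2
      exact h2.symm
    have c1 := comm_of_ne hJ hJy ne1
    have c2 := comm_of_ne hJ hJyu ne2
    have c3 := comm_of_ne hJu hJy ne3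
    have c4 := comm_of_ne hJu hJyu ne4
    have c0 := comm_of_ne hJ hJu (Ne.symm hcase)
    have hord : orderOf u = 2 := by
      apply orderOf_eq_prime
      · rw [pow_two, hu2]
      · exact hune
    obtain ⟨π, hπ1, _, hπ3, _⟩ := Cfsg.Agent.S1314.result u hord J hJp (by
      have := Components.component_commutator_eq_bot_of_ne hJ hJu (Ne.symm hcase)
      exact this)
    have hperf : ⁅π.range, π.range⁆ = π.range := by
      have h2 : ⁅(⊤ : Subgroup ↥J), (⊤ : Subgroup ↥J)⁆ = ⊤ := by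
        apply Subgroup.map_injective J.subtype_injective
        rw [Subgroup.map_commutator, ← MonoidHom.range_eq_map, Subgroup.range_subtype, hJp]
      rw [MonoidHom.range_eq_map, ← Subgroup.map_commutator, h2]
    have hErange : π.range ≤ S := by
      refine hES _ hπ3 hperf ?_
      rintro _ ⟨a, rfl⟩ _ ⟨b, rfl⟩
      rw [hπ1, hπ1]
      have hb1 : y * ((b : X) * (u * (b : X) * u⁻¹)) * y⁻¹ =
          (y * b * y⁻¹) * (y * (u * b * u⁻¹) * y⁻¹) := by group
      rw [hb1]
      have e1 : y * (b : X) * y⁻¹ ∈ cj y J := conj_mem_cj b.2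
      have e2 : y * (u * (b : X) * u⁻¹) * y⁻¹ ∈ cj y (cj u J) := conj_mem_cj (conj_mem_cj b.2)
      have e3 : u * (a : X) * u⁻¹ ∈ cj u J := conj_mem_cj a.2
      exact Commute.mul_left
        (Commute.mul_right (c1 _ a.2 _ e1) (c2 _ a.2 _ e2))
        (Commute.mul_right (c3 _ e3 _ e1) (c4 _ e3 _ e2))
    set h' := u * h * u⁻¹ with hh'
    have hh'J : h' ∈ cj u J := conj_mem_cj hhJ
    have htS : h * h' ∈ S := hErange ⟨⟨h, hhJ⟩, hπ1 _⟩
    have hcomm : h * h' = h' * h := c0 h hhJ h' hh'J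
    have hh'2 : h' * h' = z := by
      calc h' * h' = u * (h * h) * u⁻¹ := by rw [hh']; group
        _ = z := by rw [hhz, hzX u]; group
    have ht2 : (h * h') * (h * h') = 1 := by
      calc (h * h') * (h * h') = h * (h' * h) * h' := by group
        _ = h * (h * h') * h' := by rw [hcomm]
        _ = (h * h) * (h' * h') := by group
        _ = 1 := by rw [hhz, hh'2, hz2]
    have hh'cen : ∀ k ∈ J, h' * k = k * h' := fun k hk => (c0 k hk h' hh'J).symm
    apply hhctr
    by_cases ht1 : h * h' = 1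
    · have h5 : h = h'⁻¹ := eq_inv_of_mul_eq_one_left ht1
      intro k hk
      rw [h5]
      exact (Commute.inv_left (hh'cen k hk))
    · have ht3 := hSuniq _ htS ht2 ht1
      -- `t = u = y u y⁻¹` commutes with `J`
      have ht4 : h * h' = (y * h * y⁻¹) * (y * h' * y⁻¹) := by
        have : y * (h * h') * y⁻¹ = h * h' := by
          rw [ht3, hyu, mul_assoc, mul_inv_cancel, mul_one]
        rw [← this]; group
      have e1 : y * h * y⁻¹ ∈ cj y J := conj_mem_cj hhJ
      have e2 : y * h' * y⁻¹ ∈ cj y (cj u J) := conj_mem_cj hh'J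
      intro k hk
      have h6 : Commute k (h * h') := by
        rw [ht4]
        exact Commute.mul_right (c1 k hk _ e1) (c2 k hk _ e2)
      have h7 : Commute k h' := (hh'cen k hk).symm
      have h8 : h = (h * h') * h'⁻¹ := by group
      rw [h8]
      exact (Commute.mul_right h6 h7.inv_right).symm

end Cfsg.Agent.SignalizersComponents.IntrinsicCaseA
end

-- part: SignalizersComponents/IntrinsicLemmaA
section
/-!
S1315, step A: if a 2-element `y ∈ K` of order at least 4 centralizing `z(J)` does not normalize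
`J` then `u = z(K)` normalizes `J` and acts nontrivially on `J / O(J)`.
-/

set_option autoImplicit false
set_option linter.unusedSectionVars false

namespace Cfsg.Agent.SignalizersComponents.IntrinsicLemmaA

open Subgroup Cfsg IntrinsicBasic IntrinsicIntr Cfsg.Agent.SignalizersComponents.PLayerAut

variable {G : Type*} [Group G] [Finite G]

/-- facts about the image of `J` in `C(z)/O(C(z))` -/
theorem map_isComponent {X J : Subgroup G} (h : TC X J) :
    IsComponent ((J.subgroupOf X).map (QuotientGroup.mk' (oddCore ↥X))) := h.comp.2.1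

theorem mem_map_iff {X J : Subgroup G} (hJX : J ≤ X) {x : ↥X} :
    (QuotientGroup.mk' (oddCore ↥X)) x ∈ (J.subgroupOf X).map (QuotientGroup.mk' (oddCore ↥X)) ↔
      ∃ j ∈ J, j⁻¹ * (x : G) ∈ relCore 2 X := by
  constructor
  · rintro ⟨j, hj, hjx⟩
    exact ⟨j, hj, mk_eq_mk_iff.mp hjx⟩
  · rintro ⟨j, hj, hjx⟩
    exact ⟨⟨j, hJX hj⟩, hj, mk_eq_mk_iff.mpr hjx⟩

theorem cj_eq_of_map {X J : Subgroup G} (h : TC X J) {g : ↥X}
    (hg : cj ((QuotientGroup.mk' (oddCore ↥X)) g)
      ((J.subgroupOf X).map (QuotientGroup.mk' (oddCore ↥X))) =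
        (J.subgroupOf X).map (QuotientGroup.mk' (oddCore ↥X))) : cj (g : G) J = J := by
  have h1 := PCompCore.mem_normalizer_of_mk_normalizes h.comp (g := g) hg
  rw [mem_normalizer_iff] at h1
  rw [← mem_normalizer_iff_cj, mem_normalizer_iff]
  intro x
  constructor
  · intro hx
    exact (h1 ⟨x, h.le hx⟩).mp hx
  · intro hx
    have hX : x ∈ X := by
      have h3 := h.le hx
      have h4 : x = (g : G)⁻¹ * ((g : G) * x * (g : G)⁻¹) * g := by group
      rw [h4]
      exact X.mul_mem (X.mul_mem (X.inv_mem g.2) h3) g.2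
    exact (h1 ⟨x, hX⟩).mpr hx

theorem orderOf_map {X : Subgroup G} {y : ↥X} {n : ℕ} (hy : orderOf (y : G) = 2 ^ n) :
    orderOf ((QuotientGroup.mk' (oddCore ↥X)) y) = 2 ^ n := by
  have h1 : orderOf ((QuotientGroup.mk' (oddCore ↥X)) y) ∣ 2 ^ n := by
    rw [← hy, Subgroup.orderOf_coe]
    exact orderOf_map_dvd _ _
  refine Nat.dvd_antisymm h1 ?_
  set m := orderOf ((QuotientGroup.mk' (oddCore ↥X)) y) with hm
  have h2 : (QuotientGroup.mk' (oddCore ↥X)) (y ^ m) = 1 := by
    rw [map_pow, hm, pow_orderOf_eq_one]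
  have h3 : ((y ^ m : ↥X) : G) ∈ relCore 2 X := (mem_relCore_iff (y ^ m).2).mpr h2
  have h4 : ((y ^ m : ↥X) : G) = 1 := by
    apply eq_one_of_mem_relCore h3 (n := n)
    rw [Subgroup.coe_pow, ← pow_mul, mul_comm, pow_mul, ← hy, pow_orderOf_eq_one, one_pow]
  rw [Subgroup.coe_pow] at h4
  rw [← hy]
  exact orderOf_dvd_of_pow_eq_one h4

/-- `u` is a power of `y` -/
theorem pow_eq {u : G} {K : Subgroup G} (hK : Intr u K) {y : G} (hy : y ∈ K) {n : ℕ} (hn : 1 ≤ n)
    (hord : orderOf y = 2 ^ n) : y ^ 2 ^ (n - 1) = u := by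
  have hyn : y ^ 2 ^ n = 1 := by rw [← hord]; exact pow_orderOf_eq_one y
  apply hK.uniq _ (K.pow_mem hy _)
  · rw [← pow_add, ← two_mul, ← pow_succ', Nat.sub_add_cancel (by omega), hyn]
  · intro h1
    have h2 := orderOf_dvd_of_pow_eq_one h1
    rw [hord] at h2
    have h3 := Nat.le_of_dvd (by positivity) h2
    have h4 : 2 ^ (n - 1) < 2 ^ n := Nat.pow_lt_pow_right (by norm_num) (by omega)
    omega

theorem main {z u : G} {J K : Subgroup G} (hJ : Intr z J) (hK : Intr u K) {y : G} (hy : y ∈ K)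
    (hyz : y * z = z * y) {n : ℕ} (hn : 2 ≤ n) (hord : orderOf y = 2 ^ n) (hne : cj y J ≠ J) :
    cj u J = J ∧ u ∉ cenMod (centralizer ({z} : Set G)) J := by
  have hyu := pow_eq hK hy (by omega) hord
  have hyC : y ∈ centralizer ({z} : Set G) := mem_centralizer_singleton_iff.mpr hyz
  have huC : u ∈ centralizer ({z} : Set G) := hyu ▸ pow_mem hyC _
  have hzC : z ∈ centralizer ({z} : Set G) := hJ.tc.le hJ.mem
  set π := QuotientGroup.mk' (oddCore ↥(centralizer ({z} : Set G))) with hπ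
  set Jb := (J.subgroupOf (centralizer ({z} : Set G))).map π with hJb
  have hsurj : Function.Surjective π := QuotientGroup.mk'_surjective _
  obtain ⟨h4, h4J, h4z, _⟩ := hJ.exists_four
  -- the subgroup `S`
  let S : Subgroup ↥(centralizer ({z} : Set G)) := K.subgroupOf (centralizer ({z} : Set G))
  have key := IntrinsicCaseA.main (J := Jb) (z := π ⟨z, hzC⟩) (u := π ⟨u, huC⟩)
    (y := π ⟨y, hyC⟩) (map_isComponent hJ.tc) ?_ ⟨⟨z, hzC⟩, hJ.mem, rfl⟩ ?_ ?_ ?_
    ⟨π ⟨h4, hJ.tc.le h4J⟩, ⟨_, h4J, rfl⟩, ?_⟩ (S := S.map π) ?_ ?_ ?_ ?_ ?_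
    ⟨⟨y, hyC⟩, hy, rfl⟩ hn (orderOf_map hord) ?_
  · obtain ⟨h1, j, hj, hju⟩ := key
    refine ⟨cj_eq_of_map hJ.tc h1, ?_⟩
    intro hu
    rw [mem_cenMod hJ.tc.le] at hu
    obtain ⟨j, hj, rfl⟩ := hj
    apply hju
    have h2 := mk_eq_mk_iff.mpr (show (j : G)⁻¹ *
      ((⟨u, huC⟩ * j * ⟨u, huC⟩⁻¹ : ↥(centralizer ({z} : Set G))) : G) ∈
        relCore 2 (centralizer ({z} : Set G)) from hu.2 j hj)
    rw [map_mul, map_mul, map_inv] at h2
    calc π ⟨u, huC⟩ * π j = (π ⟨u, huC⟩ * π j * (π ⟨u, huC⟩)⁻¹) * π ⟨u, huC⟩ := by group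
      _ = π j * π ⟨u, huC⟩ := by rw [← h2]
  · intro x
    obtain ⟨x, rfl⟩ := hsurj x
    rw [← map_mul, ← map_mul]
    congr 1
    apply Subtype.ext
    exact mem_centralizer_singleton_iff.mp x.2
  · rw [← map_mul]
    have : (⟨z, hzC⟩ * ⟨z, hzC⟩ : ↥(centralizer ({z} : Set G))) = 1 := Subtype.ext hJ.sq
    rw [this, map_one]
  · intro h
    have := (mem_relCore_iff hzC).mpr h
    exact hJ.ne (eq_one_of_sq this hJ.sq)
  · rintro _ ⟨j, hj, rfl⟩ hcomm
    have hjc : (j : G) ∈ cenMod (centralizer ({z} : Set G)) J := by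
      rw [mem_cenMod hJ.tc.le]
      refine ⟨j.2, fun k hk => ?_⟩
      have h1 := hcomm (π ⟨k, hJ.tc.le hk⟩) ⟨⟨k, hJ.tc.le hk⟩, hk, rfl⟩
      have h2 : π ⟨k, hJ.tc.le hk⟩ = π (j * ⟨k, hJ.tc.le hk⟩ * j⁻¹) := by
        rw [map_mul, map_mul, map_inv, h1]; group
      exact mk_eq_mk_iff.mp h2
    have h1 := hJ.sq_mem hj hjc
    rw [← map_mul]
    exact (mem_relCore_iff (j * j).2).mp h1
  · rw [← map_mul]
    congr 1
    exact Subtype.ext h4z
  · rw [← map_mul]
    have : (⟨u, huC⟩ * ⟨u, huC⟩ : ↥(centralizer ({z} : Set G))) = 1 := Subtype.ext hK.sq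
    rw [this, map_one]
  · intro h
    have := (mem_relCore_iff huC).mpr h
    exact hK.ne (eq_one_of_sq this hK.sq)
  · rintro _ ⟨s, hs, rfl⟩ hs2 hs1
    rw [← map_mul] at hs2
    have h1 := (mem_relCore_iff (s * s).2).mpr hs2
    obtain ⟨s', hs'K, hs'2, hss', k, hk⟩ := exists_sq_eq_one
      (odd_card_relCore (centralizer ({z} : Set G))) (show (s : G) ∈ K from hs) h1
    have hs'C : s' ∈ centralizer ({z} : Set G) := by rw [hk]; exact pow_mem s.2 k
    have h3 : π s = π ⟨s', hs'C⟩ := mk_eq_mk_iff.mpr hss'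
    rw [h3]
    congr 1
    apply Subtype.ext
    apply hK.uniq s' hs'K hs'2
    rintro rfl
    apply hs1
    rw [h3]
    exact map_one π
  · rintro _ ⟨s, hs, rfl⟩
    rw [mem_centralizer_singleton_iff, ← map_mul, ← map_mul]
    congr 1
    apply Subtype.ext
    exact hK.comm hs
  · -- subnormality
    have h1 : (K.subgroupOf (centralizer ({u} : Set G))).IsSubnormal := hK.tc.comp.1
    let M : Subgroup G := centralizer ({z} : Set G) ⊓ centralizer ({u} : Set G)
    have h2 : ((K.subgroupOf (centralizer ({u} : Set G))).comap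
        (Subgroup.inclusion (inf_le_right : M ≤ centralizer ({u} : Set G)))).IsSubnormal :=
      h1.comap _
    have h3 := h2.map (centMap_surjective (centralizer ({z} : Set G)) u huC hK.sq)
    convert h3 using 1
    ext x
    constructor
    · rintro ⟨s, hs, hsx⟩
      have hsu : (s : G) ∈ centralizer ({u} : Set G) := hK.tc.le hs
      refine ⟨⟨s, s.2, hsu⟩, hs, ?_⟩
      apply Subtype.ext
      exact hsx
    · rintro ⟨s, hs, rfl⟩
      exact ⟨⟨s, s.2.1⟩, hs, rfl⟩
  · intro h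
    exact hne (cj_eq_of_map hJ.tc h)

end Cfsg.Agent.SignalizersComponents.IntrinsicLemmaA
end

-- part: SignalizersComponents/IntrinsicLemmaC
section
/-!
S1315, step C: if a 2-element `y ∈ K` of order at least 4 centralizing `z = z(J)` does not
normalize `J`, then `y² = u = z(K)` and a suitable involution `w ∈ J J^y` inverts... the element
`y` is mapped to `z y` by `w`, and `w` does not normalize `K`.
-/

set_option autoImplicit false
set_option linter.unusedSectionVars false

namespace Cfsg.Agent.SignalizersComponents.IntrinsicLemmaC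

open Subgroup Cfsg IntrinsicBasic IntrinsicIntr Cfsg.Agent.SignalizersComponents.PLayerAut

variable {G : Type*} [Group G] [Finite G]

theorem eq_one_of_mem_T {X T : Subgroup G} (hT : IsPGroup 2 T) {x : G} (hx : x ∈ relCore 2 X)
    (hxT : x ∈ T) : x = 1 := by
  obtain ⟨k, hk⟩ := hT ⟨x, hxT⟩
  exact eq_one_of_mem_relCore hx (n := k) (by simpa using congrArg Subtype.val hk)

theorem comm_of_cenMod {X K T : Subgroup G} (hKX : K ≤ X) (hT : IsPGroup 2 T) {p q : G}
    (hp : p ∈ K) (hq : q ∈ cenMod X K) (hpT : p ∈ T) (hqT : q ∈ T) : p * q = q * p := by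
  have h1 := ((mem_cenMod hKX).mp hq).2 p hp
  have h2 : p⁻¹ * (q * p * q⁻¹) = 1 := eq_one_of_mem_T hT h1
    (T.mul_mem (T.inv_mem hpT) (T.mul_mem (T.mul_mem hqT hpT) (T.inv_mem hqT)))
  calc p * q = p * (p⁻¹ * (q * p * q⁻¹)) * q := by rw [h2, mul_one]
    _ = q * p := by group

theorem comm_of_T {X L₁ L₂ T : Subgroup G} (h₁ : TC X L₁) (h₂ : TC X L₂) (hne : L₁ ≠ L₂)
    (hT : IsPGroup 2 T) {p q : G} (hp : p ∈ L₁) (hq : q ∈ L₂) (hpT : p ∈ T) (hqT : q ∈ T) :
    p * q = q * p :=
  comm_of_cenMod h₁.le hT hp (h₁.le_cenMod h₂ hne hq) hpT hqT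

theorem main {z u : G} {J K : Subgroup G} (hJ : Intr z J) (hK : Intr u K) {y : G} (hy : y ∈ K)
    (hyz : y * z = z * y) {n : ℕ} (hn : 2 ≤ n) (hord : orderOf y = 2 ^ n) (hne : cj y J ≠ J)
    {T : Subgroup G} (hT : IsPGroup 2 T) (hyT : y ∈ T) {f : G}
    (hfT : f ∈ T) (hfJ : f ∈ J) (hf2 : f * f = z) (hfu : u * f * u⁻¹ = f * z) :
    y * y = u ∧ cj (y * y) J = J ∧
      (f * (y * f * y⁻¹)) * (f * (y * f * y⁻¹)) = 1 ∧
      (f * (y * f * y⁻¹)) * u = u * (f * (y * f * y⁻¹)) ∧
      cj (f * (y * f * y⁻¹)) K ≠ K ∧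
      (f * (y * f * y⁻¹))⁻¹ * y * (f * (y * f * y⁻¹)) = z * y := by
  set X := centralizer ({z} : Set G) with hX
  have hyu := IntrinsicLemmaA.pow_eq hK hy (by omega) hord
  have huy : u * y = y * u := by rw [← hyu]; exact (Commute.pow_self y _)
  have hyX : y ∈ X := mem_centralizer_singleton_iff.mpr hyz
  have huX : u ∈ X := hyu ▸ pow_mem hyX _
  have hcjX : ∀ g ∈ X, TC X (cj g J) := fun g hg => hJ.tc.cj_of_mem (le_normalizer hg)
  have hzc : ∀ g ∈ X, g * z = z * g := fun g hg => mem_centralizer_singleton_iff.mp hg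
  set f₂ := y * f * y⁻¹ with hf₂
  set f₃ := y * f₂ * y⁻¹ with hf₃
  set f₄ := y * f₃ * y⁻¹ with hf₄
  have hfX : f ∈ X := hJ.tc.le hfJ
  have hf₂X : f₂ ∈ X := X.mul_mem (X.mul_mem hyX hfX) (X.inv_mem hyX)
  have hf₃X : f₃ ∈ X := X.mul_mem (X.mul_mem hyX hf₂X) (X.inv_mem hyX)
  have hf₂T : f₂ ∈ T := T.mul_mem (T.mul_mem hyT hfT) (T.inv_mem hyT)
  have hf₃T : f₃ ∈ T := T.mul_mem (T.mul_mem hyT hf₂T) (T.inv_mem hyT)
  have hf₄T : f₄ ∈ T := T.mul_mem (T.mul_mem hyT hf₃T) (T.inv_mem hyT)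
  have hf₂J : f₂ ∈ cj y J := conj_mem_cj hfJ
  have hf₃J : f₃ ∈ cj (y * y) J := by rw [cj_mul]; exact conj_mem_cj hf₂J
  have hf₄J : f₄ ∈ cj (y * (y * y)) J := by rw [cj_mul]; exact conj_mem_cj hf₃J
  have hf₂2 : f₂ * f₂ = z := by
    calc f₂ * f₂ = y * (f * f) * y⁻¹ := by rw [hf₂]; group
      _ = z := by rw [hf2, hyz]; group
  have hf₃2 : f₃ * f₃ = z := by
    calc f₃ * f₃ = y * (f₂ * f₂) * y⁻¹ := by rw [hf₃]; group
      _ = z := by rw [hf₂2, hyz]; group
  have hfzz : z * z = 1 := hJ.sq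
  have hzi : z⁻¹ = z := hJ.inv_eq
  -- `f` is not in `cenMod`
  have hfnot : f ∉ cenMod X J := by
    intro h
    have h4 : f ^ 2 ^ 2 = 1 := by
      rw [show (2 : ℕ) ^ 2 = 2 * 2 by norm_num, pow_mul, pow_two, pow_two, hf2, hJ.sq]
    rcases hJ.eq_of_cenMod hfJ h h4 with h1 | h1
    · rw [h1, mul_one] at hf2; exact hJ.ne hf2.symm
    · rw [h1, hJ.sq] at hf2; exact hJ.ne hf2.symm
  have hc12 : f * f₂ = f₂ * f :=
    comm_of_T hJ.tc (hcjX y hyX) hne.symm hT hfJ hf₂J hfT hf₂T
  obtain ⟨w, hw⟩ : ∃ w, w = f * f₂ := ⟨_, rfl⟩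
  rw [← hw]
  have hwT : w ∈ T := hw ▸ T.mul_mem hfT hf₂T
  have hwX : w ∈ X := hw ▸ X.mul_mem hfX hf₂X
  have hw2 : w * w = 1 := by
    calc w * w = f * (f₂ * f) * f₂ := by rw [hw]; group
      _ = (f * f) * (f₂ * f₂) := by rw [← hc12]; group
      _ = 1 := by rw [hf2, hf₂2, hfzz]
  have hf₂u : u * f₂ * u⁻¹ = f₂ * z := by
    calc u * f₂ * u⁻¹ = (u * y) * f * (u * y)⁻¹ := by rw [hf₂]; group
      _ = (y * u) * f * (y * u)⁻¹ := by rw [huy]
      _ = y * (u * f * u⁻¹) * y⁻¹ := by group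
      _ = y * f * (z * y⁻¹) := by rw [hfu]; group
      _ = f₂ * z := by
        have : z * y⁻¹ = y⁻¹ * z := by
          rw [eq_inv_mul_iff_mul_eq, ← mul_assoc, hyz, mul_inv_cancel_right]
        rw [this, hf₂]; group
  have hwu : w * u = u * w := by
    have h1 : u * w * u⁻¹ = w := by
      calc u * w * u⁻¹ = (u * f * u⁻¹) * (u * f₂ * u⁻¹) := by rw [hw]; group
        _ = f * (z * f₂) * z := by rw [hfu, hf₂u]; group
        _ = f * f₂ * (z * z) := by rw [← hzc f₂ hf₂X]; group
        _ = w := by rw [hfzz, mul_one, hw]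
    calc w * u = (u * w * u⁻¹) * u := by rw [h1]
      _ = u * w := by group
  -- the element `c`
  set c := f⁻¹ * f₃ with hc
  have hcT : c ∈ T := T.mul_mem (T.inv_mem hfT) hf₃T
  have hyw : w⁻¹ * y * w = c * y := by
    calc w⁻¹ * y * w = (f₂⁻¹ * f⁻¹) * (y * f * y⁻¹) * (y * f₂ * y⁻¹) * y := by rw [hw]; group
      _ = (f₂⁻¹ * f⁻¹) * f₂ * f₃ * y := by rw [← hf₂, ← hf₃]
      _ = (f₂⁻¹ * (f⁻¹ * f₂)) * f₃ * y := by group
      _ = (f₂⁻¹ * (f₂ * f⁻¹)) * f₃ * y := by
        have : f⁻¹ * f₂ = f₂ * f⁻¹ := by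
          rw [inv_mul_eq_iff_eq_mul, ← mul_assoc, hc12, mul_inv_cancel_right]
        rw [this]
      _ = c * y := by rw [hc]; group
  have hyord2 : y * y ≠ 1 := by
    intro h
    have h1 : orderOf y ∣ 2 := orderOf_dvd_of_pow_eq_one (by rw [pow_two, h])
    rw [hord] at h1
    have h2 := Nat.le_of_dvd (by norm_num) h1
    have h3 : 2 ^ 2 ≤ 2 ^ n := Nat.pow_le_pow_right (by norm_num) hn
    omega
  have hy1n : y ^ 2 ^ n = 1 := by rw [← hord]; exact pow_orderOf_eq_one y
  by_cases hwK : cj w K = K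
  · exfalso
    have hcK : c ∈ K := by
      have h1 : w⁻¹ * y * w ∈ K := mem_cj.mp (hwK.symm ▸ hy)
      rw [hyw] at h1
      have h2 := K.mul_mem h1 (K.inv_mem hy)
      rwa [mul_inv_cancel_right] at h2
    by_cases hJ3 : cj (y * y) J = J
    · -- (a2)
      have hf₃J' : f₃ ∈ J := hJ3 ▸ hf₃J
      have hcJ : c ∈ J := J.mul_mem (J.inv_mem hfJ) hf₃J'
      have hind : ∀ i : ℕ, ∃ d ∈ J ⊓ K, (y * y) ^ i * f * ((y * y) ^ i)⁻¹ = f * d := by
        intro i
        induction i with
        | zero => exact ⟨1, one_mem _, by simp⟩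
        | succ i ih =>
          obtain ⟨d, hd, hdi⟩ := ih
          refine ⟨c * ((y * y) * d * (y * y)⁻¹), ?_, ?_⟩
          · refine mul_mem ⟨hcJ, hcK⟩ ⟨?_, ?_⟩
            · have := conj_mem_cj (g := y * y) hd.1
              rwa [hJ3] at this
            · exact K.mul_mem (K.mul_mem (K.mul_mem hy hy) hd.2) (K.inv_mem (K.mul_mem hy hy))
          · calc (y * y) ^ (i + 1) * f * ((y * y) ^ (i + 1))⁻¹
                = (y * y) * ((y * y) ^ i * f * ((y * y) ^ i)⁻¹) * (y * y)⁻¹ := by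
                  rw [pow_succ', mul_inv_rev]; simp only [mul_assoc]
              _ = (y * y) * (f * d) * (y * y)⁻¹ := by rw [hdi]
              _ = (y * (y * f * y⁻¹) * y⁻¹) * ((y * y) * d * (y * y)⁻¹) := by group
              _ = f₃ * ((y * y) * d * (y * y)⁻¹) := by rw [← hf₂, ← hf₃]
              _ = f * (c * ((y * y) * d * (y * y)⁻¹)) := by rw [hc]; group
      obtain ⟨d, hd, hdu⟩ := hind (2 ^ (n - 2))
      have h5 : (y * y) ^ 2 ^ (n - 2) = u := by
        rw [← hyu, ← pow_two, ← pow_mul, ← pow_succ', show n - 2 + 1 = n - 1 by omega]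
      rw [h5, hfu] at hdu
      have h6 : z = d := mul_left_cancel hdu
      have h7 : z = u := hK.uniq z (h6 ▸ hd.2) hJ.sq hJ.ne
      rw [← h7] at hfu
      have h8 : z * f * z⁻¹ = f := by rw [← hzc f hfX]; group
      rw [h8] at hfu
      apply hJ.ne
      exact (mul_eq_left.mp hfu.symm)
    · -- (a1)
      have hc13 : f * f₃ = f₃ * f :=
        comm_of_T hJ.tc (hcjX _ (X.mul_mem hyX hyX)) (Ne.symm hJ3) hT hfJ hf₃J hfT hf₃T
      have hc23 : f₂ * f₃ = f₃ * f₂ := by
        refine comm_of_T (hcjX y hyX) (hcjX _ (X.mul_mem hyX hyX)) ?_ hT hf₂J hf₃J hf₂T hf₃T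
        intro h
        rw [cj_mul] at h
        exact hne (cj_injective y h).symm
      have hc2 : c * c = 1 := by
        have h1 : f⁻¹ * f₃ = f₃ * f⁻¹ := by
          rw [inv_mul_eq_iff_eq_mul, ← mul_assoc, hc13, mul_inv_cancel_right]
        calc c * c = f⁻¹ * (f₃ * f⁻¹) * f₃ := by rw [hc]; group
          _ = (f * f)⁻¹ * (f₃ * f₃) := by rw [← h1]; group
          _ = 1 := by rw [hf2, hf₃2, inv_mul_cancel]
      by_cases hc1 : c = 1
      · have h1 : f = f₃ := by
          have := inv_mul_eq_one.mp (hc ▸ hc1)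
          exact this
        apply hfnot
        apply hJ.tc.le_cenMod (hcjX _ (X.mul_mem hyX hyX)) (Ne.symm hJ3)
        rw [h1]; exact hf₃J
      · have h1 := hK.uniq c hcK hc2 hc1
        have h2 : f₂ * c = c * f₂ := by
          calc f₂ * c = (f₂ * f⁻¹) * f₃ := by rw [hc]; group
            _ = (f⁻¹ * f₂) * f₃ := by
              have : f⁻¹ * f₂ = f₂ * f⁻¹ := by
                rw [inv_mul_eq_iff_eq_mul, ← mul_assoc, hc12, mul_inv_cancel_right]
              rw [this]
            _ = f⁻¹ * (f₂ * f₃) := by group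
            _ = c * f₂ := by rw [hc23, hc]; group
        rw [h1] at h2
        have h3 : u * f₂ * u⁻¹ = f₂ := by rw [← h2]; group
        rw [h3] at hf₂u
        exact hJ.ne (mul_eq_left.mp hf₂u.symm)
  · -- case (b)
    have hwuC : w ∈ centralizer ({u} : Set G) := mem_centralizer_singleton_iff.mpr hwu
    have hKw : cj w⁻¹ K ≠ K := by
      intro h
      apply hwK
      rw [← h, cj_cj_inv]; exact h.symm ▸ rfl
    have hTCw : TC (centralizer ({u} : Set G)) (cj w⁻¹ K) :=
      hK.tc.cj_of_mem (le_normalizer (inv_mem hwuC))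
    have hymem : w⁻¹ * y * w ∈ cj w⁻¹ K := by
      have := conj_mem_cj (g := w⁻¹) hy
      rwa [inv_inv] at this
    have hymem' : w⁻¹ * y * w ∈ cenMod (centralizer ({u} : Set G)) K :=
      hK.tc.le_cenMod hTCw hKw.symm hymem
    have hycomm : y * (w⁻¹ * y * w) = (w⁻¹ * y * w) * y :=
      comm_of_cenMod hK.tc.le hT hy hymem' hyT
        (T.mul_mem (T.mul_mem (T.inv_mem hwT) hyT) hwT)
    have hyc : y * c = c * y := by
      rw [hyw] at hycomm
      have : y * (c * y) = (y * c) * y := by group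
      rw [this] at hycomm
      exact mul_right_cancel hycomm
    have hycc : y * c * y⁻¹ = c := by rw [hyc]; group
    have hycc' : c = f₂⁻¹ * f₄ := by
      rw [← hycc, hc, hf₄]
      calc y * (f⁻¹ * f₃) * y⁻¹ = (y * f * y⁻¹)⁻¹ * (y * f₃ * y⁻¹) := by group
        _ = f₂⁻¹ * (y * f₃ * y⁻¹) := by rw [← hf₂]
    by_cases hJ3 : cj (y * y) J = J
    · -- (b2)
      have hf₃J' : f₃ ∈ J := hJ3 ▸ hf₃J
      have hcJ : c ∈ J := J.mul_mem (J.inv_mem hfJ) hf₃J'
      have hcJ2 : c ∈ cj y J := by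
        rw [← hycc]; exact conj_mem_cj hcJ
      have hccen : c ∈ cenMod X J := hJ.tc.le_cenMod (hcjX y hyX) hne.symm hcJ2
      obtain ⟨k, hk⟩ := hT ⟨c, hcT⟩
      have hk' : c ^ 2 ^ k = 1 := by simpa using congrArg Subtype.val hk
      rcases hJ.eq_of_cenMod hcJ hccen hk' with hc1 | hcz
      · exfalso
        rw [hyw, hc1, one_mul] at hymem'
        rcases hK.eq_of_cenMod hy hymem' hy1n with h1 | h1
        · apply hyord2; rw [h1, mul_one]
        · apply hyord2; rw [h1, hK.sq]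
      · rw [hcz] at hyw
        have hzycen : z * y ∈ cenMod (centralizer ({u} : Set G)) K := hyw ▸ hymem'
        have hy2cen : y * y ∈ cenMod (centralizer ({u} : Set G)) K := by
          have h1 := mul_mem hzycen hzycen
          have h2 : z * y * (z * y) = y * y := by
            calc z * y * (z * y) = z * (y * z) * y := by group
              _ = (z * z) * (y * y) := by rw [hyz]; group
              _ = y * y := by rw [hfzz, one_mul]
          rwa [h2] at h1
        have hy2n : (y * y) ^ 2 ^ n = 1 := by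
          rw [(Commute.refl y).mul_pow, hy1n, one_mul]
        have hyy : y * y = u := by
          rcases hK.eq_of_cenMod (K.mul_mem hy hy) hy2cen hy2n with h1 | h1
          · exact absurd h1 hyord2
          · exact h1
        exact ⟨hyy, hJ3, hw2, hwu, hwK, hyw⟩
    · -- (b1)
      exfalso
      have hJ4 : J ≠ cj (y * (y * y)) J := by
        intro h
        apply hne
        have h1 : y * (y * y) = y ^ 3 := by rw [pow_three]
        rw [h1] at h
        have hcop : Nat.Coprime 3 (orderOf y) := by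
          rw [hord]
          exact Nat.Coprime.pow_right n (by norm_num)
        obtain ⟨m, hm⟩ := exists_pow_eq_self_of_coprime hcop
        have h2 : ∀ k : ℕ, cj ((y ^ 3) ^ k) J = J := by
          intro k
          induction k with
          | zero => rw [pow_zero, cj_one]
          | succ k ih => rw [pow_succ, cj_mul, ← h, ih]
        rw [← hm]
        exact h2 m
      apply hfnot
      have h1 : f⁻¹ = f₂⁻¹ * f₄ * f₃⁻¹ := by
        rw [← hycc', hc]; group
      have h2 : f⁻¹ ∈ cenMod X J := by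
        rw [h1]
        refine mul_mem (mul_mem (inv_mem ?_) ?_) (inv_mem ?_)
        · exact hJ.tc.le_cenMod (hcjX y hyX) hne.symm hf₂J
        · exact hJ.tc.le_cenMod (hcjX _ (X.mul_mem hyX (X.mul_mem hyX hyX))) hJ4 hf₄J
        · exact hJ.tc.le_cenMod (hcjX _ (X.mul_mem hyX hyX)) (Ne.symm hJ3) hf₃J
      exact (inv_mem_iff).mp h2

end Cfsg.Agent.SignalizersComponents.IntrinsicLemmaC
end
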