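import Mathlib
import Cfsg.Agent.SignalizersComponents.IntrinsicIntr
import Cfsg.Agent.SignalizersComponents.RelSylow
set_option linter.all false

/-!
S1315: tools (relative Sylow subgroups, normal subgroups of 2-components, actions modulo the centre).
-/

set_option autoImplicit false
set_option linter.unusedSectionVars false

namespace Cfsg.Agent.SignalizersComponents.IntrinsicTools

open Subgroup Cfsg IntrinsicBasic IntrinsicIntr Cfsg.Agent.SignalizersComponents.PLayerAut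
open RelSylow
open scoped commutatorElement

variable {G : Type*} [Group G]

/-- if `x` normalizes the perfect group `K` and all `[x,k]` centralize `K` then `x` centralizes
`K` -/
theorem comm_of_perfect {K : Subgroup G} (hperf : ⁅K, K⁆ = K) {x : G}
    (hx : ∀ k ∈ K, x * k * x⁻¹ ∈ K) (h : ∀ k ∈ K, ∀ l ∈ K, Commute (x * k * x⁻¹ * k⁻¹) l) :
    ∀ k ∈ K, x * k = k * x := by
  have h1 : ⁅K, K⁆ ≤ centralizer ({x} : Set G) := by
    rw [Subgroup.commutator_le]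
    intro a ha b hb
    rw [mem_centralizer_singleton_iff]
    obtain ⟨c, hc⟩ : ∃ c, c = x * a * x⁻¹ * a⁻¹ := ⟨_, rfl⟩
    obtain ⟨d, hd⟩ : ∃ d, d = x * b * x⁻¹ * b⁻¹ := ⟨_, rfl⟩
    have hcK : c ∈ K := hc ▸ K.mul_mem (hx a ha) (K.inv_mem ha)
    have hca : Commute c a := hc ▸ h a ha a ha
    have hcb : Commute c b := hc ▸ h a ha b hb
    have hda : Commute d a := hd ▸ h b hb a ha
    have hdb : Commute d b := hd ▸ h b hb b hb
    have hdc : Commute d c := hd ▸ h b hb c hcK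
    have h2 : x * a * x⁻¹ = c * a := by rw [hc]; group
    have h3 : x * b * x⁻¹ = d * b := by rw [hd]; group
    have h4 : x * ⁅a, b⁆ * x⁻¹ = ⁅a, b⁆ := by
      have h5 : x * ⁅a, b⁆ * x⁻¹ = (x * a * x⁻¹) * (x * b * x⁻¹) * (x * a * x⁻¹)⁻¹ *
          (x * b * x⁻¹)⁻¹ := by
        rw [commutatorElement_def]; group
      rw [h5, h2, h3, commutatorElement_def]
      calc c * a * (d * b) * (c * a)⁻¹ * (d * b)⁻¹
          = c * (a * d) * b * a⁻¹ * c⁻¹ * b⁻¹ * d⁻¹ := by group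
        _ = c * (d * a) * b * a⁻¹ * c⁻¹ * b⁻¹ * d⁻¹ := by rw [hda.eq]
        _ = (c * d) * (a * b * a⁻¹) * (c⁻¹ * b⁻¹) * d⁻¹ := by group
        _ = (c * d) * (a * b * a⁻¹) * (b⁻¹ * c⁻¹) * d⁻¹ := by rw [(hcb.inv_left.inv_right).eq]
        _ = (c * d) * (a * b * a⁻¹ * b⁻¹) * (c⁻¹ * d⁻¹) := by group
        _ = (a * b * a⁻¹ * b⁻¹) * (c * d) * (c⁻¹ * d⁻¹) := by
          have h6 : Commute c (a * b * a⁻¹ * b⁻¹) :=
            ((hca.mul_right hcb).mul_right hca.inv_right).mul_right hcb.inv_right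
          have h7 : Commute d (a * b * a⁻¹ * b⁻¹) :=
            ((hda.mul_right hdb).mul_right hda.inv_right).mul_right hdb.inv_right
          rw [(h6.mul_left h7).eq]
        _ = (a * b * a⁻¹ * b⁻¹) * (c * d) * (d * c)⁻¹ := by group
        _ = a * b * a⁻¹ * b⁻¹ := by rw [hdc.eq]; group
    calc ⁅a, b⁆ * x = (x * ⁅a, b⁆ * x⁻¹) * x := by rw [h4]
      _ = x * ⁅a, b⁆ := by group
  intro k hk
  rw [← hperf] at hk
  exact (mem_centralizer_singleton_iff.mp (h1 hk)).symm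

variable [Finite G]

/-- If `x ∈ X` normalizes the 2-component `K` and all `[x,k]` centralize `K` modulo `O(X)` then
`x` centralizes `K` modulo `O(X)`. -/
theorem mem_cenMod_of_commutator {X K : Subgroup G} (hK : TC X K) {x : G} (hxX : x ∈ X)
    (hxK : cj x K = K) (h : ∀ k ∈ K, x * k * x⁻¹ * k⁻¹ ∈ cenMod X K) : x ∈ cenMod X K := by
  rw [mem_cenMod hK.le]
  refine ⟨hxX, fun k hk => ?_⟩
  set π := QuotientGroup.mk' (oddCore ↥X) with hπ
  set K' := (K.subgroupOf X).map π with hK'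
  have hperf : ⁅K', K'⁆ = K' := by
    rw [hK', ← Subgroup.map_commutator, Lib.PComponents.pcomp_perfect hK.comp]
  have h1 : ∀ k' ∈ K', π ⟨x, hxX⟩ * k' * (π ⟨x, hxX⟩)⁻¹ ∈ K' := by
    rintro _ ⟨k', hk', rfl⟩
    refine ⟨⟨x, hxX⟩ * k' * ⟨x, hxX⟩⁻¹, ?_, by simp only [map_mul, map_inv]⟩
    change x * (k' : G) * x⁻¹ ∈ K
    have := conj_mem_cj (g := x) (K := K) (x := (k' : G)) hk'
    rwa [hxK] at this
  have h2 : ∀ k' ∈ K', ∀ l ∈ K', Commute (π ⟨x, hxX⟩ * k' * (π ⟨x, hxX⟩)⁻¹ * k'⁻¹) l := by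
    rintro _ ⟨k', hk', rfl⟩ _ ⟨l, hl, rfl⟩
    have h3 := ((mem_cenMod hK.le).mp (h k' hk')).2 l hl
    have h4 : π l = π ((⟨x, hxX⟩ * k' * ⟨x, hxX⟩⁻¹ * k'⁻¹) * l *
        (⟨x, hxX⟩ * k' * ⟨x, hxX⟩⁻¹ * k'⁻¹)⁻¹) := mk_eq_mk_iff.mpr h3
    simp only [map_mul, map_inv] at h4
    obtain ⟨c, hc⟩ : ∃ c, c = π ⟨x, hxX⟩ * π k' * (π ⟨x, hxX⟩)⁻¹ * (π k')⁻¹ := ⟨_, rfl⟩
    rw [← hc] at h4 ⊢
    change c * π l = π l * c
    calc c * π l = (c * π l * c⁻¹) * c := by group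
      _ = π l * c := by rw [← h4]
  have h5 := comm_of_perfect hperf h1 h2 (π ⟨k, hK.le hk⟩) ⟨⟨k, hK.le hk⟩, hk, rfl⟩
  have h6 : π ⟨k, hK.le hk⟩ = π (⟨x, hxX⟩ * ⟨k, hK.le hk⟩ * ⟨x, hxX⟩⁻¹) := by
    simp only [map_mul, map_inv]
    rw [h5]; group
  exact mk_eq_mk_iff.mp h6

/-- normal subgroups of a 2-component -/
theorem normal_cases {X K N : Subgroup G} (hK : TC X K) (hN : N ≤ K)
    (hn : ∀ k ∈ K, ∀ n ∈ N, k * n * k⁻¹ ∈ N) : N = K ∨ N ≤ cenMod X K := by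
  set π := QuotientGroup.mk' (oddCore ↥X) with hπ
  have hNK : ((N.subgroupOf X).subgroupOf (K.subgroupOf X)).Normal := by
    constructor
    intro n hn' k
    exact hn k k.2 n hn'
  have hsub : (N.subgroupOf X).IsSubnormal := by
    refine Subgroup.IsSubnormal.step _ (K.subgroupOf X) ?_ hK.comp.1 hNK
    intro x hx
    exact hN hx
  have hle : (N.subgroupOf X).map π ≤ (K.subgroupOf X).map π :=
    Subgroup.map_mono (fun x hx => hN hx)
  have hnorm : (((N.subgroupOf X).map π).subgroupOf ((K.subgroupOf X).map π)).Normal := by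
    constructor
    rintro ⟨_, k', hk', rfl⟩ ⟨n', hn', hnk⟩ ⟨_, l, hl, rfl⟩
    refine ⟨l * n' * l⁻¹, ?_, ?_⟩
    · change (l : G) * (n' : G) * (l : G)⁻¹ ∈ N
      exact hn l hl n' hn'
    · simp only [map_mul, map_inv]
      have : π n' = π k' := hnk
      rw [this]; rfl
  rcases Lib.ComponentSolvable.quasisimple_normal_cases hK.comp.2.1.2 hnorm with h | h
  · left
    rw [Subgroup.subgroupOf_eq_top] at h
    have h1 := hK.comp.2.2 _ hsub (fun x hx => hN hx) (le_antisymm hle h)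
    have h2 := congrArg (Subgroup.map X.subtype) h1
    rwa [subgroupOf_map_subtype, subgroupOf_map_subtype, inf_of_le_left hK.le,
      inf_of_le_left (hN.trans hK.le)] at h2
  · right
    intro n hn'
    rw [mem_cenMod hK.le]
    refine ⟨hK.le (hN hn'), fun k hk => ?_⟩
    have h1 : (⟨π ⟨n, hK.le (hN hn')⟩, ⟨⟨n, hK.le (hN hn')⟩, hN hn', rfl⟩⟩ :
        ↥((K.subgroupOf X).map π)) ∈ center ↥((K.subgroupOf X).map π) :=
      h ⟨⟨n, hK.le (hN hn')⟩, hn', rfl⟩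
    have h2 := mem_center_iff.mp h1 ⟨π ⟨k, hK.le hk⟩, ⟨⟨k, hK.le hk⟩, hk, rfl⟩⟩
    have h3 : π ⟨k, hK.le hk⟩ * π ⟨n, hK.le (hN hn')⟩ = π ⟨n, hK.le (hN hn')⟩ * π ⟨k, hK.le hk⟩ :=
      congrArg Subtype.val h2
    have h4 : π ⟨k, hK.le hk⟩ = π (⟨n, hK.le (hN hn')⟩ * ⟨k, hK.le hk⟩ * ⟨n, hK.le (hN hn')⟩⁻¹) := by
      simp only [map_mul, map_inv]
      rw [← h3]; group
    exact mk_eq_mk_iff.mp h4

/-- A maximal 2-subgroup of `X` meets a 2-component of `X` in a maximal 2-subgroup. -/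
theorem isMaxP_inf {X K T : Subgroup G} (hK : TC X K) (hT : IsMaxP 2 X T) :
    IsMaxP 2 K (T ⊓ K) := by
  have : Fact (Nat.Prime 2) := ⟨Nat.prime_two⟩
  refine ⟨hT.1.to_inf_left, inf_le_right, fun R' hR' hR'K hle => ?_⟩
  have h1 : (T.subgroupOf X).relIndex (K.subgroupOf X) ∣ (T.subgroupOf X).index :=
    PCompCore.relIndex_dvd_index_of_subnormal _ hK.comp.1
  rw [Subgroup.relIndex_subgroupOf hK.le] at h1
  have h2 : ¬ 2 ∣ (T.subgroupOf X).index := hT.toSylow.not_dvd_index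
  have h3 : (T ⊓ K).relIndex R' ∣ T.relIndex K := by
    rw [← Subgroup.inf_relIndex_right T K]
    exact Dvd.intro _ (Subgroup.relIndex_mul_relIndex _ _ _ hle hR'K)
  obtain ⟨n, hn⟩ := IsPGroup.iff_card.mp hR'
  have h4 : (T ⊓ K).relIndex R' ∣ 2 ^ n := by
    rw [← hn]; exact Subgroup.relIndex_dvd_card _ _
  have h5 : Nat.Coprime (2 ^ n) (T.subgroupOf X).index :=
    Nat.Coprime.pow_left n ((Nat.Prime.coprime_iff_not_dvd Nat.prime_two).mpr h2)
  have h6 := Nat.eq_one_of_dvd_coprimes h5 h4 (h3.trans h1)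
  exact Subgroup.relIndex_eq_one.mp h6

/-- In a 2-group, a conjugate different from `u` can be chosen to commute with `u`. -/
theorem exists_commuting_conj {P : Subgroup G} (hP : IsPGroup 2 P) {u g : G} (hu : u ∈ P)
    (hg : g * u * g⁻¹ ∈ P) (hne : g * u * g⁻¹ ≠ u) :
    ∃ x, x * u * x⁻¹ ∈ P ∧ x * u * x⁻¹ ≠ u ∧ Commute u (x * u * x⁻¹) := by
  have : Fact (Nat.Prime 2) := ⟨Nat.prime_two⟩
  by_cases hc : ∀ p ∈ P, p * u = u * p
  · exact ⟨g, hg, hne, (hc _ hg).symm⟩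
  · push Not at hc
    obtain ⟨p₀, hp₀, hp₀u⟩ := hc
    have hnil : Group.IsNilpotent P := hP.isNilpotent
    have hnc := Group.normalizerCondition_of_isNilpotent (G := P)
    have hlt : (centralizer ({(⟨u, hu⟩ : P)} : Set P)) < ⊤ := by
      rw [lt_top_iff_ne_top]
      intro h
      have h1 : (⟨p₀, hp₀⟩ : P) ∈ centralizer ({(⟨u, hu⟩ : P)} : Set P) := by rw [h]; trivial
      rw [mem_centralizer_singleton_iff] at h1
      exact hp₀u (congrArg Subtype.val h1)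
    obtain ⟨p, hpn, hpc⟩ := SetLike.exists_of_lt (hnc _ hlt)
    have hu' : (⟨u, hu⟩ : P) ∈ centralizer ({(⟨u, hu⟩ : P)} : Set P) := by
      rw [mem_centralizer_singleton_iff]
    have h1 := (mem_normalizer_iff.mp hpn ⟨u, hu⟩).mp hu'
    rw [mem_centralizer_singleton_iff] at h1
    refine ⟨p, P.mul_mem (P.mul_mem p.2 hu) (P.inv_mem p.2), ?_, ?_⟩
    · intro h2
      apply hpc
      rw [mem_centralizer_singleton_iff]
      apply Subtype.ext
      change (p : G) * u = u * p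
      calc (p : G) * u = ((p : G) * u * (p : G)⁻¹) * p := by group
        _ = u * p := by rw [h2]
    · exact (congrArg Subtype.val h1).symm

end Cfsg.Agent.SignalizersComponents.IntrinsicTools
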