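import Mathlib
import Cfsg.Agent.SignalizersComponents.IntrinsicGP
import Cfsg.Agent.SignalizersComponents.IntrinsicLemmaC
import Cfsg.Agent.S0215
import Cfsg.Agent.SignalizersComponents.IntrinsicTools
set_option linter.all false

-- part: SignalizersComponents/IntrinsicEnd
section
/-!
S1315 (i): the end of the argument.
-/

set_option autoImplicit false
set_option linter.unusedSectionVars false

namespace Cfsg.Agent.SignalizersComponents.IntrinsicEnd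

open Subgroup Cfsg IntrinsicBasic IntrinsicIntr Cfsg.Agent.SignalizersComponents.PLayerAut

/-! ### a computation in the quotient -/

section calc1

variable {Q : Type*} [Group Q] {x u y f z x₂ f₂ : Q}

theorem calc_a (h1 : x⁻¹ * u * x = u * f) (hyu : y * u = u * y) (hx₂ : x₂ = y * x * y⁻¹)
    (hf₂ : f₂ = y * f * y⁻¹) (hfx₂ : f * x₂ = x₂ * f) (hff₂ : f * f₂ = f₂ * f) :
    (x * x₂)⁻¹ * u * (x * x₂) = u * (f * f₂) := by
  have h3 : x₂⁻¹ * u * x₂ = u * f₂ := by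
    have h4 : y⁻¹ * u * y = u := by rw [mul_assoc, ← hyu]; group
    calc x₂⁻¹ * u * x₂ = y * (x⁻¹ * (y⁻¹ * u * y) * x) * y⁻¹ := by rw [hx₂]; group
      _ = (y * u) * f * y⁻¹ := by rw [h4, h1]; group
      _ = u * f₂ := by rw [hyu, hf₂]; group
  calc (x * x₂)⁻¹ * u * (x * x₂) = x₂⁻¹ * (x⁻¹ * u * x) * x₂ := by group
    _ = x₂⁻¹ * u * (f * x₂) := by rw [h1]; group
    _ = (x₂⁻¹ * u * x₂) * f := by rw [hfx₂]; group
    _ = u * (f * f₂) := by rw [h3, mul_assoc, hff₂]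

theorem calc_b (h1 : x⁻¹ * u * x = u * f) (hyu : y * u = u * y) (hyy : y * y = u)
    (hx₂ : x₂ = y * x * y⁻¹)
    (hf₂ : f₂ = y * f * y⁻¹) (hfx₂ : f * x₂ = x₂ * f) (hff₂ : f * f₂ = f₂ * f)
    (hxf₂ : x * f₂ = f₂ * x) (hxx₂ : x * x₂ = x₂ * x) (hf : f * f = z) (hzx : z * x = x * z)
    (hzz : z * z = 1) (hfu : u * f * u⁻¹ = f * z) (hzu : z * u = u * z) :
    ((x * x₂) * u * (x * x₂)⁻¹)⁻¹ * y * ((x * x₂) * u * (x * x₂)⁻¹) * y⁻¹ = z := by
  have hzi : z⁻¹ = z := inv_eq_of_mul_eq_one_left hzz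
  obtain ⟨f', hf'⟩ : ∃ f', f' = x * f * x⁻¹ := ⟨_, rfl⟩
  obtain ⟨f₂', hf₂'⟩ : ∃ f₂', f₂' = y * f' * y⁻¹ := ⟨_, rfl⟩
  have h2 : x * u * x⁻¹ = u * f'⁻¹ := by
    have h3 : u = (x * u * x⁻¹) * f' := by
      calc u = x * (x⁻¹ * u * x) * x⁻¹ := by group
        _ = (x * u * x⁻¹) * f' := by rw [h1, hf']; group
    have h4 : x * u * x⁻¹ = u * f'⁻¹ := by
      rw [eq_mul_inv_iff_mul_eq]; exact h3.symm
    exact h4
  have hf₂'x : f₂' = x₂ * f₂ * x₂⁻¹ := by rw [hf₂', hf', hx₂, hf₂]; group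
  have hxf₂' : x * f₂' = f₂' * x := by
    have c1 : Commute x x₂ := hxx₂
    have c2 : Commute x f₂ := hxf₂
    rw [hf₂'x]
    exact ((c1.mul_right c2).mul_right c1.inv_right).eq
  have hff₂' : f * f₂' = f₂' * f := by
    have c1 : Commute f x₂ := hfx₂
    have c2 : Commute f f₂ := hff₂
    rw [hf₂'x]
    exact ((c1.mul_right c2).mul_right c1.inv_right).eq
  have hf'f₂' : Commute f' f₂' := by
    have c1 : Commute f₂' x := hxf₂'.symm
    have c2 : Commute f₂' f := hff₂'.symm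
    rw [hf']
    exact ((c1.mul_right c2).mul_right c1.inv_right).symm
  have hf'sq : f' * f' = z := by
    calc f' * f' = x * (f * f) * x⁻¹ := by rw [hf']; group
      _ = z := by rw [hf, ← hzx]; group
  have hcu : y * u * y⁻¹ = u := by rw [hyu]; group
  have h5 : x₂ * u * x₂⁻¹ = u * f₂'⁻¹ := by
    have h4 : y⁻¹ * u * y = u := by rw [mul_assoc, ← hyu]; group
    calc x₂ * u * x₂⁻¹ = y * (x * (y⁻¹ * u * y) * x⁻¹) * y⁻¹ := by rw [hx₂]; group
      _ = (y * u * y⁻¹) * (y * f'⁻¹ * y⁻¹) := by rw [h4, h2]; group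
      _ = u * f₂'⁻¹ := by rw [hcu, hf₂']; group
  have h6 : (x * x₂) * u * (x * x₂)⁻¹ = u * f'⁻¹ * f₂'⁻¹ := by
    calc (x * x₂) * u * (x * x₂)⁻¹ = x * (x₂ * u * x₂⁻¹) * x⁻¹ := by group
      _ = x * u * (x * f₂')⁻¹ := by rw [h5]; group
      _ = x * u * (f₂' * x)⁻¹ := by rw [hxf₂']
      _ = (x * u * x⁻¹) * f₂'⁻¹ := by group
      _ = u * f'⁻¹ * f₂'⁻¹ := by rw [h2]
  have h7 : u * f' * u⁻¹ = f' * z := by
    have h8 : (x * u * x⁻¹) * f' * (x * u * x⁻¹)⁻¹ = f' * z := by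
      calc (x * u * x⁻¹) * f' * (x * u * x⁻¹)⁻¹ = x * (u * f * u⁻¹) * x⁻¹ := by
            rw [hf']; group
        _ = x * f * (z * x⁻¹) := by rw [hfu]; group
        _ = f' * z := by
          have : z * x⁻¹ = x⁻¹ * z := by
            rw [eq_inv_mul_iff_mul_eq, ← mul_assoc, ← hzx]; group
          rw [this, hf']; group
    rw [h2] at h8
    rw [← h8]
    group
  rw [h6]
  have h9 : y * (u * f'⁻¹ * f₂'⁻¹) * y⁻¹ = (u * f'⁻¹ * f₂'⁻¹) * z := by
    have h10 : y * f₂' * y⁻¹ = u * f' * u⁻¹ := by rw [hf₂', ← hyy]; group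
    have hzf' : Commute z f' := by
      rw [← hf'sq]; exact (Commute.refl f').mul_left (Commute.refl f')
    have hzf₂' : Commute z f₂' := by
      rw [← hf'sq]; exact hf'f₂'.mul_left hf'f₂'
    calc y * (u * f'⁻¹ * f₂'⁻¹) * y⁻¹
        = (y * u * y⁻¹) * (y * f' * y⁻¹)⁻¹ * (y * f₂' * y⁻¹)⁻¹ := by group
      _ = u * f₂'⁻¹ * (f' * z)⁻¹ := by rw [hcu, ← hf₂', h10, h7]
      _ = u * f₂'⁻¹ * (z * f'⁻¹) := by rw [mul_inv_rev, hzi]
      _ = u * (f₂'⁻¹ * f'⁻¹) * z := by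
        rw [(hzf'.inv_right).eq]; group
      _ = u * (f'⁻¹ * f₂'⁻¹) * z := by
        rw [(hf'f₂'.inv_left.inv_right).eq]
      _ = (u * f'⁻¹ * f₂'⁻¹) * z := by group
  calc (u * f'⁻¹ * f₂'⁻¹)⁻¹ * y * (u * f'⁻¹ * f₂'⁻¹) * y⁻¹
      = (u * f'⁻¹ * f₂'⁻¹)⁻¹ * (y * (u * f'⁻¹ * f₂'⁻¹) * y⁻¹) := by group
    _ = z := by rw [h9]; group

/-- two involutions congruent modulo an odd order group are conjugate under it -/
theorem exists_conj_of_odd {N : Subgroup Q} (hN : Odd (Nat.card N)) {a b : Q} (ha : a * a = 1)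
    (hb : b * b = 1) (h : a⁻¹ * b ∈ N) : ∃ o ∈ N, o⁻¹ * a * o = b := by
  have hai : a⁻¹ = a := inv_eq_of_mul_eq_one_left ha
  have hbi : b⁻¹ = b := inv_eq_of_mul_eq_one_left hb
  obtain ⟨d, hd⟩ : ∃ d, d = a⁻¹ * b := ⟨_, rfl⟩
  rw [← hd] at h
  obtain ⟨k, hk⟩ := hN
  have h1 : d ^ Nat.card N = 1 := by
    have := pow_card_eq_one' (x := (⟨d, h⟩ : N))
    exact congrArg Subtype.val this
  have hadi : a * d * a⁻¹ = d⁻¹ := by
    rw [hd, mul_inv_rev, inv_inv, hbi, hai]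
    calc a * (a * b) * a = (a * a) * b * a := by group
      _ = b * a := by rw [ha, one_mul]
  refine ⟨d ^ (k + 1), pow_mem h _, ?_⟩
  have h2 : a * d ^ (k + 1) * a⁻¹ = (d ^ (k + 1))⁻¹ := by
    rw [← conj_pow, hadi, inv_pow]
  have h3 : d ^ (k + 1) * d ^ (k + 1) = d := by
    rw [← pow_add, show k + 1 + (k + 1) = Nat.card N + 1 by omega, pow_succ, h1, one_mul]
  calc (d ^ (k + 1))⁻¹ * a * d ^ (k + 1) = (d ^ (k + 1))⁻¹ * (a * d ^ (k + 1) * a⁻¹) * a := by group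
    _ = (d ^ (k + 1) * d ^ (k + 1))⁻¹ * a := by rw [h2]; group
    _ = b := by rw [h3, hd, mul_inv_rev, inv_inv, hbi, mul_assoc, ha, mul_one]

end calc1

variable {G : Type*} [Group G] [Finite G]

/-- The end of the proof of (i). -/
theorem main {z u : G} {J K : Subgroup G} (hJ : Intr z J) (hK : Intr u K) (hJK : J ≠ K)
    {y : G} (hy : y ∈ K)
    (hyz : y * z = z * y) {n : ℕ} (hn : 2 ≤ n) (hord : orderOf y = 2 ^ n) (hne : cj y J ≠ J)
    {T : Subgroup G} (hT : IsPGroup 2 T) (hyT : y ∈ T) {f : G}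
    (hfT : f ∈ T) (hfJ : f ∈ J) (hf2 : f * f = z) (hfu : u * f * u⁻¹ = f * z)
    {x₁ : G} (hx₁ : x₁ ∈ J)
    (hx₁u : (x₁⁻¹ * u * x₁)⁻¹ * (u * f) ∈ relCore 2 (centralizer ({z} : Set G))) : False := by
  obtain ⟨hyy, hJ3, hw2, hwu, hwK, hyw⟩ :=
    IntrinsicLemmaC.main hJ hK hy hyz hn hord hne hT hyT hfT hfJ hf2 hfu
  set X := centralizer ({z} : Set G) with hX
  obtain ⟨f₂, hf₂⟩ : ∃ f₂, f₂ = y * f * y⁻¹ := ⟨_, rfl⟩
  obtain ⟨x₂, hx₂⟩ : ∃ x₂, x₂ = y * x₁ * y⁻¹ := ⟨_, rfl⟩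
  obtain ⟨w, hw⟩ : ∃ w, w = f * f₂ := ⟨_, rfl⟩
  rw [← hf₂, ← hw] at hw2 hwu hwK hyw
  have hyX : y ∈ X := mem_centralizer_singleton_iff.mpr hyz
  have huX : u ∈ X := hyy ▸ X.mul_mem hyX hyX
  have hfX : f ∈ X := hJ.tc.le hfJ
  have hx₁X : x₁ ∈ X := hJ.tc.le hx₁
  have hf₂X : f₂ ∈ X := hf₂ ▸ X.mul_mem (X.mul_mem hyX hfX) (X.inv_mem hyX)
  have hx₂X : x₂ ∈ X := hx₂ ▸ X.mul_mem (X.mul_mem hyX hx₁X) (X.inv_mem hyX)
  have hwX : w ∈ X := hw ▸ X.mul_mem hfX hf₂X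
  have hzX : z ∈ X := hJ.tc.le hJ.mem
  have huu : u * u = 1 := hK.sq
  have hyu : y * u = u * y := hK.comm hy
  have hzc : ∀ g ∈ X, g * z = z * g := fun g hg => mem_centralizer_singleton_iff.mp hg
  -- the quotient
  set π := QuotientGroup.mk' (oddCore ↥X) with hπ
  have hTC2 : TC X (cj y J) := hJ.tc.cj_of_mem (le_normalizer hyX)
  -- commutation in the quotient
  have hcomm : ∀ (p q : G) (hp : p ∈ J) (hq : q ∈ J) (hpX : p ∈ X) (hqX : y * q * y⁻¹ ∈ X),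
      π ⟨p, hpX⟩ * π ⟨y * q * y⁻¹, hqX⟩ = π ⟨y * q * y⁻¹, hqX⟩ * π ⟨p, hpX⟩ := by
    intro p q hp hq hpX hqX
    have h1 := ((mem_cenMod hJ.tc.le).mp (hJ.tc.le_cenMod hTC2 hne.symm (conj_mem_cj hq))).2 p hp
    have h2 : π ⟨p, hpX⟩ = π (⟨y * q * y⁻¹, hqX⟩ * ⟨p, hpX⟩ * ⟨y * q * y⁻¹, hqX⟩⁻¹) :=
      mk_eq_mk_iff.mpr h1
    rw [map_mul, map_mul, map_inv] at h2
    calc π ⟨p, hpX⟩ * π ⟨y * q * y⁻¹, hqX⟩ = (π ⟨y * q * y⁻¹, hqX⟩ * π ⟨p, hpX⟩ *
          (π ⟨y * q * y⁻¹, hqX⟩)⁻¹) * π ⟨y * q * y⁻¹, hqX⟩ := by rw [← h2]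
      _ = _ := by group
  -- elements of the quotient
  have e1 : (π ⟨x₁, hx₁X⟩)⁻¹ * π ⟨u, huX⟩ * π ⟨x₁, hx₁X⟩ = π ⟨u, huX⟩ * π ⟨f, hfX⟩ := by
    rw [← map_inv, ← map_mul, ← map_mul, ← map_mul]
    exact mk_eq_mk_iff.mpr hx₁u
  have e2 : π ⟨y, hyX⟩ * π ⟨u, huX⟩ = π ⟨u, huX⟩ * π ⟨y, hyX⟩ := by
    rw [← map_mul, ← map_mul]; congr 1; exact Subtype.ext hyu
  have e3 : π ⟨y, hyX⟩ * π ⟨y, hyX⟩ = π ⟨u, huX⟩ := by
    rw [← map_mul]; congr 1; exact Subtype.ext hyy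
  have e4 : π ⟨x₂, hx₂X⟩ = π ⟨y, hyX⟩ * π ⟨x₁, hx₁X⟩ * (π ⟨y, hyX⟩)⁻¹ := by
    rw [← map_inv, ← map_mul, ← map_mul]; congr 1; exact Subtype.ext hx₂
  have e5 : π ⟨f₂, hf₂X⟩ = π ⟨y, hyX⟩ * π ⟨f, hfX⟩ * (π ⟨y, hyX⟩)⁻¹ := by
    rw [← map_inv, ← map_mul, ← map_mul]; congr 1; exact Subtype.ext hf₂
  have e6 : π ⟨f, hfX⟩ * π ⟨x₂, hx₂X⟩ = π ⟨x₂, hx₂X⟩ * π ⟨f, hfX⟩ := by
    have := hcomm f x₁ hfJ hx₁ hfX (hx₂ ▸ hx₂X)
    simpa only [← hx₂] using this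
  have e7 : π ⟨f, hfX⟩ * π ⟨f₂, hf₂X⟩ = π ⟨f₂, hf₂X⟩ * π ⟨f, hfX⟩ := by
    have := hcomm f f hfJ hfJ hfX (hf₂ ▸ hf₂X)
    simpa only [← hf₂] using this
  have e8 : π ⟨x₁, hx₁X⟩ * π ⟨f₂, hf₂X⟩ = π ⟨f₂, hf₂X⟩ * π ⟨x₁, hx₁X⟩ := by
    have := hcomm x₁ f hx₁ hfJ hx₁X (hf₂ ▸ hf₂X)
    simpa only [← hf₂] using this
  have e9 : π ⟨x₁, hx₁X⟩ * π ⟨x₂, hx₂X⟩ = π ⟨x₂, hx₂X⟩ * π ⟨x₁, hx₁X⟩ := by
    have := hcomm x₁ x₁ hx₁ hx₁ hx₁X (hx₂ ▸ hx₂X)
    simpa only [← hx₂] using this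
  have e10 : π ⟨f, hfX⟩ * π ⟨f, hfX⟩ = π ⟨z, hzX⟩ := by
    rw [← map_mul]; congr 1; exact Subtype.ext hf2
  have e11 : π ⟨z, hzX⟩ * π ⟨x₁, hx₁X⟩ = π ⟨x₁, hx₁X⟩ * π ⟨z, hzX⟩ := by
    rw [← map_mul, ← map_mul]; congr 1; exact Subtype.ext (hzc x₁ hx₁X).symm
  have e12 : π ⟨z, hzX⟩ * π ⟨z, hzX⟩ = 1 := by
    rw [← map_mul, ← map_one π]; congr 1; exact Subtype.ext hJ.sq
  have e13 : π ⟨u, huX⟩ * π ⟨f, hfX⟩ * (π ⟨u, huX⟩)⁻¹ = π ⟨f, hfX⟩ * π ⟨z, hzX⟩ := by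
    rw [← map_inv, ← map_mul, ← map_mul, ← map_mul]; congr 1; exact Subtype.ext hfu
  have e14 : π ⟨z, hzX⟩ * π ⟨u, huX⟩ = π ⟨u, huX⟩ * π ⟨z, hzX⟩ := by
    rw [← map_mul, ← map_mul]; congr 1; exact Subtype.ext (hzc u huX).symm
  have ha := calc_a e1 e2 e4 e5 e6 e7
  have hb := calc_b e1 e2 e3 e4 e5 e6 e7 e8 e9 e10 e11 e12 e13 e14
  -- `x` with `x⁻¹ u x = u w`
  have hxxX : x₁ * x₂ ∈ X := X.mul_mem hx₁X hx₂X
  have ha' : ((x₁ * x₂)⁻¹ * u * (x₁ * x₂))⁻¹ * (u * w) ∈ relCore 2 X := by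
    have h1 : π (⟨x₁ * x₂, hxxX⟩⁻¹ * ⟨u, huX⟩ * ⟨x₁ * x₂, hxxX⟩) = π (⟨u, huX⟩ * ⟨w, hwX⟩) := by
      have h2 : π ⟨x₁ * x₂, hxxX⟩ = π ⟨x₁, hx₁X⟩ * π ⟨x₂, hx₂X⟩ := by rw [← map_mul]; rfl
      have h3 : π ⟨w, hwX⟩ = π ⟨f, hfX⟩ * π ⟨f₂, hf₂X⟩ := by
        rw [← map_mul]; congr 1; exact Subtype.ext hw
      rw [map_mul, map_mul, map_inv, map_mul, h2, h3]
      exact ha
    exact mk_eq_mk_iff.mp h1
  have hv2 : (u * w) * (u * w) = 1 := by
    calc (u * w) * (u * w) = u * (w * u) * w := by group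
      _ = (u * u) * (w * w) := by rw [hwu]; group
      _ = 1 := by rw [huu, hw2, one_mul]
  have hxu2 : ((x₁ * x₂)⁻¹ * u * (x₁ * x₂)) * ((x₁ * x₂)⁻¹ * u * (x₁ * x₂)) = 1 := by
    calc ((x₁ * x₂)⁻¹ * u * (x₁ * x₂)) * ((x₁ * x₂)⁻¹ * u * (x₁ * x₂))
        = (x₁ * x₂)⁻¹ * (u * u) * (x₁ * x₂) := by group
      _ = 1 := by rw [huu]; group
  obtain ⟨o, ho, hou⟩ := exists_conj_of_odd (odd_card_relCore X) hxu2 hv2 ha'
  obtain ⟨x, hx⟩ : ∃ x, x = x₁ * x₂ * o := ⟨_, rfl⟩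
  have hoX : o ∈ X := relCore_le 2 X ho
  have hxX : x ∈ X := hx ▸ X.mul_mem hxxX hoX
  have hxu : x⁻¹ * u * x = u * w := by
    rw [← hou, hx]; group
  have hπx : π ⟨x, hxX⟩ = π ⟨x₁, hx₁X⟩ * π ⟨x₂, hx₂X⟩ := by
    rw [← map_mul]
    symm
    apply mk_eq_mk_iff.mpr
    change (x₁ * x₂)⁻¹ * x ∈ relCore 2 X
    rw [hx, inv_mul_cancel_left]
    exact ho
  -- `z ≠ u`
  have hzu : z ≠ u := by
    intro h
    subst h
    apply hne
    exact mem_normalizer_iff_cj.mp (hJ.tc.cenMod_le_normalizer (hJ.tc.le_cenMod hK.tc hJK hy))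
  -- D1
  have hD1 : cj u (cj x⁻¹ K) ≠ cj x⁻¹ K := by
    intro h
    have h1 : cj (x * u * x⁻¹) K = K := by
      rw [cj_mul, cj_mul, h, cj_cj_inv]
    have h2 : (x * u * x⁻¹)⁻¹ * y * (x * u * x⁻¹) ∈ K := mem_cj.mp (h1.symm ▸ hy)
    have h3 := K.mul_mem h2 (K.inv_mem hy)
    have h4 : z⁻¹ * ((x * u * x⁻¹)⁻¹ * y * (x * u * x⁻¹) * y⁻¹) ∈ relCore 2 X := by
      have h5 : π ⟨z, hzX⟩ = π ((⟨x, hxX⟩ * ⟨u, huX⟩ * ⟨x, hxX⟩⁻¹)⁻¹ * ⟨y, hyX⟩ *
          (⟨x, hxX⟩ * ⟨u, huX⟩ * ⟨x, hxX⟩⁻¹) * ⟨y, hyX⟩⁻¹) := by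
        simp only [map_mul, map_inv]
        rw [hπx]
        exact hb.symm
      exact mk_eq_mk_iff.mp h5
    obtain ⟨e, he⟩ : ∃ e, e = (x * u * x⁻¹)⁻¹ * y * (x * u * x⁻¹) * y⁻¹ := ⟨_, rfl⟩
    rw [← he] at h3 h4
    have hzK : z ∈ K := by
      obtain ⟨m, hm⟩ := odd_card_relCore X
      have h6 : (z⁻¹ * e) ^ Nat.card (relCore 2 X) = 1 := by
        have := pow_card_eq_one' (x := (⟨z⁻¹ * e, h4⟩ : relCore 2 X))
        exact congrArg Subtype.val this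
      have heX : e ∈ X := by
        have := X.mul_mem hzX (relCore_le 2 X h4)
        rwa [mul_inv_cancel_left] at this
      have hcm : Commute z (z⁻¹ * e) := by
        have : Commute z e := (hzc e heX).symm
        exact (Commute.refl z).inv_right.mul_right this
      have h7 : e ^ Nat.card (relCore 2 X) = z := by
        calc e ^ Nat.card (relCore 2 X) = (z * (z⁻¹ * e)) ^ Nat.card (relCore 2 X) := by
              rw [mul_inv_cancel_left]
          _ = z ^ Nat.card (relCore 2 X) := by rw [hcm.mul_pow, h6, mul_one]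
          _ = z := by rw [hm, pow_succ, pow_mul, pow_two, hJ.sq, one_pow, one_mul]
      rw [← h7]
      exact pow_mem h3 _
    exact hzu (hK.uniq z hzK hJ.sq hJ.ne)
  -- the diagonal component
  have hvK : cj (u * w) K ≠ K := by
    intro h
    apply hwK
    have h1 := congrArg (cj u⁻¹) h
    rw [cj_mul, cj_inv_cj] at h1
    rw [h1]
    exact cj_eq_self_of_mem (K.inv_mem hK.mem)
  have hvu : (u * w) * u = u * (u * w) := by rw [mul_assoc, hwu]
  obtain ⟨L, hL, hLm, -, -⟩ := IntrinsicGP.exists_comp hK hvu hv2 hvK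
  have hzu' : z * u = u * z := (hzc u huX).symm
  have hwi : w⁻¹ = w := inv_eq_of_mul_eq_one_left hw2
  have hzuL : z * u ∈ L := by
    refine hLm (z * u) (by rw [mul_assoc, huu, mul_one, hzu', ← mul_assoc, huu, one_mul]) ?_ 1 ?_
      ⟨y, hy, ?_⟩
    · calc z * u * (u * w) = z * (u * u) * w := by group
        _ = z * w := by rw [huu, mul_one]
        _ = w * z := (hzc w hwX).symm
        _ = w * (u * u) * z := by rw [huu, mul_one]
        _ = (w * u) * (u * z) := by group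
        _ = (u * w) * (z * u) := by rw [hwu, hzu']
    · rw [pow_one, pow_two]
      calc z * u * (z * u) = z * (u * z) * u := by group
        _ = (z * z) * (u * u) := by rw [← hzu']; group
        _ = 1 := by rw [hJ.sq, huu, one_mul]
    · have h1 : (u * w) * y * (u * w)⁻¹ = z * y := by
        calc (u * w) * y * (u * w)⁻¹ = u * (w * y * w⁻¹) * u⁻¹ := by group
          _ = u * (w⁻¹ * y * w) * u⁻¹ := by rw [hwi]
          _ = (u * z) * y * u⁻¹ := by rw [hyw]; group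
          _ = z * (u * y) * u⁻¹ := by rw [← hzu']; group
          _ = z * y := by rw [← hyu]; group
      rw [h1]
      have h2 : (z * u)⁻¹ * (y * (z * y)) = 1 := by
        calc (z * u)⁻¹ * (y * (z * y)) = (z * u)⁻¹ * ((y * z) * y) := by group
          _ = (z * u)⁻¹ * (z * (y * y)) := by rw [hyz]; group
          _ = 1 := by rw [hyy]; group
      rw [h2]
      exact one_mem _
  have hK' : Intr (u * w) (cj x⁻¹ K) := by
    have := hK.cj x⁻¹
    rwa [inv_inv, hxu] at this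
  have hL' : TC (centralizer ({u * w} : Set G) ⊓ centralizer ({u} : Set G)) L := by
    rw [inf_comm]; exact hL
  have h1 := IntrinsicBalance.balance (Y := centralizer ({u * w} : Set G)) (v := u)
    (mem_centralizer_singleton_iff.mpr hvu.symm) huu hL' hK'.tc
  have h2 : cj (z * u) (cj x⁻¹ K) = cj x⁻¹ K :=
    mem_normalizer_iff_cj.mp (IntrinsicBalance.sup_le_normalizer hK'.tc (h1 hzuL))
  -- `z` normalizes `K`
  have hwC : w ∈ centralizer ({u} : Set G) := mem_centralizer_singleton_iff.mpr hwu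
  have hwK' : K ≠ cj w⁻¹ K := by
    intro h
    apply hwK
    rw [hwi] at h
    exact h.symm
  have h3 : z * y ∈ cenMod (centralizer ({u} : Set G)) K := by
    have hTCw : TC (centralizer ({u} : Set G)) (cj w⁻¹ K) :=
      hK.tc.cj_of_mem (le_normalizer (inv_mem hwC))
    apply hK.tc.le_cenMod hTCw hwK'
    have := conj_mem_cj (g := w⁻¹) hy
    rwa [inv_inv, hyw] at this
  have h4 : cj z K = K := by
    have h5 := mem_normalizer_iff_cj.mp (hK.tc.cenMod_le_normalizer h3)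
    rwa [cj_mul, cj_eq_self_of_mem hy] at h5
  have h5 : cj z (cj x⁻¹ K) = cj x⁻¹ K := by
    have h6 : z * x⁻¹ = x⁻¹ * z := (hzc _ (X.inv_mem hxX)).symm
    rw [← cj_mul, h6, cj_mul, h4]
  apply hD1
  rw [cj_mul] at h2
  apply cj_injective z
  rw [h2, h5]

end Cfsg.Agent.SignalizersComponents.IntrinsicEnd
end

-- part: SignalizersComponents/IntrinsicZ
section
/-!
S1315: the use of the `Z*`-theorem.
-/

set_option autoImplicit false
set_option linter.unusedSectionVars false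

namespace Cfsg.Agent.SignalizersComponents.IntrinsicZ

open Subgroup Cfsg IntrinsicBasic IntrinsicIntr Cfsg.Agent.SignalizersComponents.PLayerAut
open RelSylow IntrinsicTools
open scoped commutatorElement

variable {G : Type*} [Group G] [Finite G]

/-- If the involution `u` acts nontrivially on `J` modulo the core, and `T` is a 2-subgroup with
`T ∩ J` Sylow in `J`, then there is `f ∈ T ∩ J` with `f² = z`, inverted by `u`, such that `uf` is
conjugate to `u` under `J`. -/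
theorem main {z u : G} {J T : Subgroup G} (hJ : Intr z J) (huu : u * u = 1)
    (huz : u * z = z * u) (hT : IsPGroup 2 T) (huT : u ∈ T) (hzT : z ∈ T)
    (hTJ : IsMaxP 2 J (T ⊓ J)) (huJ : cj u J = J)
    (hact : u ∉ cenMod (centralizer ({z} : Set G)) J) :
    ∃ f ∈ T, f ∈ J ∧ f * f = z ∧ u * f * u⁻¹ = f * z ∧ ∃ x₁ ∈ J, x₁⁻¹ * u * x₁ = u * f := by
  have hp2 : Fact (Nat.Prime 2) := ⟨Nat.prime_two⟩
  have hui : u⁻¹ = u := inv_eq_of_mul_eq_one_left huu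
  set X := centralizer ({z} : Set G) with hX
  have huX : u ∈ X := mem_centralizer_singleton_iff.mpr huz
  have hzi := hJ.inv_eq
  obtain ⟨H, hH⟩ : ∃ H, H = J ⊔ zpowers u := ⟨_, rfl⟩
  have hJH : J ≤ H := hH ▸ le_sup_left
  have huH : u ∈ H := hH ▸ (le_sup_right : zpowers u ≤ J ⊔ zpowers u) (mem_zpowers u)
  have hzH : z ∈ H := hJH hJ.mem
  have huN : zpowers u ≤ normalizer (J : Set G) :=
    (zpowers_le).mpr (mem_normalizer_iff_cj.mpr huJ)
  have hHX : H ≤ X := by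
    rw [hH]; exact sup_le hJ.tc.le ((zpowers_le).mpr huX)
  have hHform : ∀ h ∈ H, ∃ j ∈ J, ∃ n : ℤ, h = j * u ^ n := by
    intro h hh
    have h1 : h ∈ ((J ⊔ zpowers u : Subgroup G) : Set G) := hH ▸ hh
    rw [Subgroup.coe_mul_of_right_le_normalizer_left _ _ huN] at h1
    obtain ⟨j, hj, _, ⟨n, rfl⟩, rfl⟩ := h1
    exact ⟨j, hj, n, rfl⟩
  -- the Sylow subgroup of `H`
  have hmax : IsMaxP 2 H (T ⊓ H) := by
    refine ⟨hT.to_inf_left, inf_le_right, fun R' hR' hR'H hle => ?_⟩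
    have huR' : u ∈ R' := hle ⟨huT, huH⟩
    have h1 : R' ⊓ J ≤ T ⊓ J := by
      refine hTJ.2.2 _ hR'.to_inf_left inf_le_right ?_
      intro x hx
      exact ⟨hle ⟨hx.1, hJH hx.2⟩, hx.2⟩
    intro r hr
    obtain ⟨j, hj, n, rfl⟩ := hHform r (hR'H hr)
    have h2 : j ∈ R' := by
      have := R'.mul_mem hr (R'.inv_mem (R'.zpow_mem huR' n))
      rwa [mul_inv_cancel_right] at this
    exact ⟨T.mul_mem (h1 ⟨h2, hj⟩).1 (T.zpow_mem huT n), hR'H hr⟩
  -- the quotient by `⟨z⟩`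
  obtain ⟨Z, hZ⟩ : ∃ Z : Subgroup ↥H, Z = zpowers (⟨z, hzH⟩ : ↥H) := ⟨_, rfl⟩
  have hZmem : ∀ h : ↥H, h ∈ Z ↔ (h : G) = 1 ∨ (h : G) = z := by
    intro h
    rw [hZ]
    constructor
    · rintro ⟨n, rfl⟩
      rcases Int.even_or_odd n with ⟨k, hk⟩ | ⟨k, hk⟩
      · left
        have h1 : (z * z) ^ k = z ^ n := by
          rw [hk, zpow_add, (Commute.refl z).mul_zpow]
        simpa [hJ.sq] using h1.symm
      · right
        have h1 : (z * z) ^ k * z = z ^ n := by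
          rw [hk, zpow_add, zpow_one, two_mul, zpow_add, (Commute.refl z).mul_zpow]
        simpa [hJ.sq] using h1.symm
    · rintro (h1 | h1)
      · have : h = 1 := Subtype.ext h1
        rw [this]; exact one_mem _
      · have : h = ⟨z, hzH⟩ := Subtype.ext h1
        rw [this]; exact mem_zpowers _
  have hZn : Z.Normal := by
    constructor
    intro n hn g
    rw [hZmem] at hn ⊢
    have hgz : (g : G) * z = z * g := mem_centralizer_singleton_iff.mp (hHX g.2)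
    rcases hn with h1 | h1
    · left; change (g : G) * n * (g : G)⁻¹ = 1; rw [h1]; group
    · right; change (g : G) * n * (g : G)⁻¹ = z; rw [h1, hgz]; group
  set q := QuotientGroup.mk' Z with hq
  have hqeq : ∀ a b : ↥H, q a = q b ↔ (a : G)⁻¹ * b = 1 ∨ (a : G)⁻¹ * b = z := by
    intro a b
    rw [hq, QuotientGroup.mk'_apply, QuotientGroup.mk'_apply, QuotientGroup.eq, hZmem]
    rfl
  have hz1c : (1 : G) ∈ cenMod X J := one_mem _
  have hzc : z ∈ cenMod X J := by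
    rw [mem_cenMod hJ.tc.le]
    refine ⟨hJ.tc.le hJ.mem, fun k hk => ?_⟩
    have : k⁻¹ * (z * k * z⁻¹) = 1 := by rw [← hJ.comm hk]; group
    rw [this]; exact one_mem _
  have hqu1 : q ⟨u, huH⟩ ≠ 1 := by
    intro h
    rw [← map_one q, hqeq] at h
    change u⁻¹ * 1 = 1 ∨ u⁻¹ * 1 = z at h
    rw [mul_one, hui] at h
    rcases h with h | h
    · exact hact (h ▸ hz1c)
    · exact hact (h ▸ hzc)
  have hqu2 : orderOf (q ⟨u, huH⟩) = 2 := by
    apply orderOf_eq_prime _ hqu1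
    rw [pow_two, ← map_mul, ← map_one q]
    congr 1
    exact Subtype.ext huu
  have hqsurj : Function.Surjective q := QuotientGroup.mk'_surjective Z
  set P := hmax.toSylow.mapSurjective hqsurj with hP
  have hPmem : ∀ h : ↥H, q h ∈ P → (h : G) ∈ T := by
    intro h hh
    have hh' : q h ∈ ((P : Subgroup (↥H ⧸ Z))) := hh
    rw [hP, Sylow.coe_mapSurjective] at hh'
    obtain ⟨t, ht, hth⟩ := hh'
    have ht' : (t : G) ∈ T := by
      have : (t : G) ∈ T ⊓ H := ht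
      exact this.1
    rcases (hqeq t h).mp hth with h1 | h1
    · have : (h : G) = t := (inv_mul_eq_one.mp h1).symm
      rw [this]; exact ht'
    · have : (h : G) = t * z := by rw [← h1]; group
      rw [this]; exact T.mul_mem ht' hzT
  have huP : q ⟨u, huH⟩ ∈ P := by
    have : q ⟨u, huH⟩ ∈ (P : Subgroup (↥H ⧸ Z)) := by
      rw [hP, Sylow.coe_mapSurjective]
      exact ⟨⟨u, huH⟩, ⟨huT, huH⟩, rfl⟩
    exact this
  -- the `Z*`-theorem
  have hnot : ¬ ∀ g : ↥H ⧸ Z, g * q ⟨u, huH⟩ * g⁻¹ ∈ P → g * q ⟨u, huH⟩ * g⁻¹ = q ⟨u, huH⟩ := by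
    intro hiso
    obtain ⟨N, hNn, hNodd, hN⟩ := Cfsg.Agent.S0215.result P (q ⟨u, huH⟩) hqu2 huP hiso
    apply hact
    -- the subgroup `A = {j ∈ J | q j ∈ N}`
    let A : Subgroup G :=
      { carrier := {x | x ∈ J ∧ ∃ h : x ∈ H, q ⟨x, h⟩ ∈ N}
        one_mem' := ⟨one_mem _, one_mem _, by
          have : q ⟨1, one_mem _⟩ = 1 := map_one q
          rw [this]; exact one_mem _⟩
        mul_mem' := by
          rintro a b ⟨ha, ha', haN⟩ ⟨hb, hb', hbN⟩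
          exact ⟨mul_mem ha hb, mul_mem ha' hb', by
            have : q ⟨a * b, mul_mem ha' hb'⟩ = q ⟨a, ha'⟩ * q ⟨b, hb'⟩ := by
              rw [← map_mul]; rfl
            rw [this]; exact mul_mem haN hbN⟩
        inv_mem' := by
          rintro a ⟨ha, ha', haN⟩
          exact ⟨inv_mem ha, inv_mem ha', by
            have : q ⟨a⁻¹, inv_mem ha'⟩ = (q ⟨a, ha'⟩)⁻¹ := by
              rw [← map_inv]; rfl
            rw [this]; exact inv_mem haN⟩ }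
    have hAmem : ∀ x, x ∈ A ↔ x ∈ J ∧ ∃ h : x ∈ H, q ⟨x, h⟩ ∈ N := fun x => Iff.rfl
    have hA : A ≤ cenMod X J := by
      refine (normal_cases (N := A) hJ.tc (fun x (hx : x ∈ A) => hx.1) ?_).resolve_left ?_
      · rintro k hk n ⟨hn, hn', hnN⟩
        refine ⟨J.mul_mem (J.mul_mem hk hn) (J.inv_mem hk),
          H.mul_mem (H.mul_mem (hJH hk) hn') (H.inv_mem (hJH hk)), ?_⟩
        have h1 := hNn.conj_mem _ hnN (q ⟨k, hJH hk⟩)
        rw [← map_inv, ← map_mul, ← map_mul] at h1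
        exact h1
      · intro hAJ
        obtain ⟨k, hk, hkk, -⟩ := hJ.exists_four
        have hkA : k ∈ A := by rw [hAJ]; exact hk
        obtain ⟨-, hkH, hkN⟩ := hkA
        have h1 : q ⟨k, hkH⟩ = 1 := by
          refine eq_one_of_mem_odd hNodd hkN (n := 1) ?_
          rw [pow_one, pow_two, ← map_mul, ← map_one q]
          symm
          rw [hqeq]
          right
          change (1 : G)⁻¹ * (k * k) = z
          rw [hkk]; group
        rw [← map_one q, hqeq] at h1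
        have h2 : k = 1 ∨ k = z := by
          rcases h1 with h1 | h1
          · left
            change k⁻¹ * 1 = 1 at h1
            rwa [mul_one, inv_eq_one] at h1
          · right
            change k⁻¹ * 1 = z at h1
            rw [mul_one, inv_eq_iff_eq_inv, hzi] at h1
            exact h1
        rcases h2 with h2 | h2
        · rw [h2, mul_one] at hkk; exact hJ.ne hkk.symm
        · rw [h2, hJ.sq] at hkk; exact hJ.ne hkk.symm
    refine mem_cenMod_of_commutator hJ.tc huX huJ (fun k hk => hA ?_)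
    have hukJ : u * k * u⁻¹ ∈ J := by
      have := conj_mem_cj (g := u) hk
      rwa [huJ] at this
    refine ⟨J.mul_mem hukJ (J.inv_mem hk), H.mul_mem (hJH hukJ) (H.inv_mem (hJH hk)), ?_⟩
    have h1 := hN (q ⟨k, hJH hk⟩)
    rw [← map_inv, ← map_inv, ← map_mul, ← map_mul, ← map_mul] at h1
    exact h1
  push Not at hnot
  obtain ⟨g, hg, hgne⟩ := hnot
  obtain ⟨x, hxP, hxne, hxc⟩ := exists_commuting_conj P.2 huP hg hgne
  obtain ⟨x, rfl⟩ := hqsurj x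
  obtain ⟨j, hj, n, hjn⟩ := hHform x x.2
  obtain ⟨v, hv⟩ : ∃ v, v = j * u * j⁻¹ := ⟨_, rfl⟩
  have hvx : (x : G) * u * (x : G)⁻¹ = v := by
    rw [hjn, hv]
    have : u ^ n * u * (u ^ n)⁻¹ = u := by
      rw [((Commute.refl u).zpow_left n).eq]; group
    calc j * u ^ n * u * (j * u ^ n)⁻¹ = j * (u ^ n * u * (u ^ n)⁻¹) * j⁻¹ := by group
      _ = j * u * j⁻¹ := by rw [this]
  have hvH : v ∈ H := hvx ▸ H.mul_mem (H.mul_mem x.2 huH) (H.inv_mem x.2)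
  have hqv : q x * q ⟨u, huH⟩ * (q x)⁻¹ = q ⟨v, hvH⟩ := by
    rw [← map_inv, ← map_mul, ← map_mul]
    congr 1
    exact Subtype.ext hvx
  rw [hqv] at hxP hxne hxc
  have hvT : v ∈ T := hPmem _ hxP
  obtain ⟨f, hf⟩ : ∃ f, f = u⁻¹ * v := ⟨_, rfl⟩
  have hfT : f ∈ T := hf ▸ T.mul_mem (T.inv_mem huT) hvT
  have hfJ : f ∈ J := by
    have h1 : u⁻¹ * j * u⁻¹⁻¹ ∈ J := by
      have h2 : cj u⁻¹ J = J := by
        have := congrArg (cj u⁻¹) huJ
        rwa [cj_inv_cj, eq_comm] at this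
      have := conj_mem_cj (g := u⁻¹) hj
      rwa [h2] at this
    have h2 : f = (u⁻¹ * j * u⁻¹⁻¹) * j⁻¹ := by rw [hf, hv]; group
    rw [h2]
    exact J.mul_mem h1 (J.inv_mem hj)
  have hvv : v * v = 1 := by
    calc v * v = j * (u * u) * j⁻¹ := by rw [hv]; group
      _ = 1 := by rw [huu]; group
  have huf : u * f = v := by rw [hf]; group
  have hfinv : u * f * u⁻¹ = f⁻¹ := by
    have h1 : (u * f) * (u * f) = 1 := by rw [huf, hvv]
    have h2 : (u * f * u) * f = 1 := by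
      calc (u * f * u) * f = (u * f) * (u * f) := by group
        _ = 1 := h1
    rw [hui]
    exact eq_inv_of_mul_eq_one_left h2
  have hf1 : f ≠ 1 := by
    intro h
    apply hxne
    congr 1
    apply Subtype.ext
    change v = u
    rw [← huf, h, mul_one]
  have hfz : f ≠ z := by
    intro h
    apply hxne
    rw [hqeq]
    right
    change v⁻¹ * u = z
    have hvi : v⁻¹ = v := inv_eq_of_mul_eq_one_left hvv
    rw [hvi, ← huf, h]
    calc u * z * u = z * (u * u) := by rw [huz]; group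
      _ = z := by rw [huu, mul_one]
  have hff : f * f = 1 ∨ f * f = z := by
    have h1 : q (⟨v, hvH⟩ * ⟨u, huH⟩) = q (⟨u, huH⟩ * ⟨v, hvH⟩) := by
      rw [map_mul, map_mul]; exact hxc.symm
    rw [hqeq] at h1
    have h2 : (v * u)⁻¹ * (u * v) = f * f := by
      have hvi : v⁻¹ = v := inv_eq_of_mul_eq_one_left hvv
      rw [hf, mul_inv_rev, hvi, hui]
    rw [← h2]
    exact h1
  have hffz : f * f = z := by
    rcases hff with h | h
    · exact absurd (hJ.uniq f hfJ h hf1) hfz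
    · exact h
  refine ⟨f, hfT, hfJ, hffz, ?_, j⁻¹, J.inv_mem hj, ?_⟩
  · rw [hfinv, inv_eq_iff_mul_eq_one, ← hffz]
    calc f * (f * (f * f)) = (f * f) * (f * f) := by group
      _ = 1 := by rw [hffz, hJ.sq]
  · rw [inv_inv, ← hv, huf]

end Cfsg.Agent.SignalizersComponents.IntrinsicZ
end

-- part: SignalizersComponents/IntrinsicPartI
section
/-!
S1315 (i).
-/

set_option autoImplicit false
set_option linter.unusedSectionVars false

namespace Cfsg.Agent.SignalizersComponents.IntrinsicPartI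

open Subgroup Cfsg IntrinsicBasic IntrinsicIntr Cfsg.Agent.SignalizersComponents.PLayerAut
open RelSylow IntrinsicTools

variable {G : Type*} [Group G] [Finite G]

theorem isPGroup_zpowers {y : G} {n : ℕ} (h : orderOf y = 2 ^ n) : IsPGroup 2 (zpowers y) := by
  apply IsPGroup.of_card (n := n)
  rw [Nat.card_zpowers, h]

theorem mem_of_central {X T : Subgroup G} (hT : IsMaxP 2 X T) {z : G} (hzX : z ∈ X)
    (hzz : z * z = 1) (hc : ∀ x ∈ X, x * z = z * x) : z ∈ T := by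
  have hz : IsPGroup 2 (zpowers z) := by
    rintro ⟨_, n, rfl⟩
    refine ⟨1, ?_⟩
    apply Subtype.ext
    change (z ^ n) ^ (2 ^ 1) = 1
    rw [pow_one, ← zpow_natCast, ← zpow_mul, mul_comm, zpow_mul, zpow_natCast, pow_two, hzz,
      one_zpow]
  have hle : T ≤ normalizer (zpowers z : Set G) := by
    intro t ht
    rw [mem_normalizer_iff_cj]
    have h1 := hc t (hT.2.1 ht)
    have h2 : t * z * t⁻¹ = z := by rw [h1]; group
    rw [cj_def, MonoidHom.map_zpowers]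
    change zpowers (t * z * t⁻¹) = zpowers z
    rw [h2]
  have h1 : IsPGroup 2 (T ⊔ zpowers z : Subgroup G) := hT.1.to_sup_of_normal_right' hz hle
  exact hT.2.2 _ h1 (sup_le hT.2.1 ((zpowers_le).mpr hzX)) le_sup_left
    ((le_sup_right : zpowers z ≤ T ⊔ zpowers z) (mem_zpowers z))

/-- **S1315 (i)** for `Intr` pairs. -/
theorem part_i {z u : G} {J K : Subgroup G} (hJ : Intr z J) (hK : Intr u K) (hJK : J ≠ K)
    {y : G} (hy : y ∈ K) (hyz : y * z = z * y) {n : ℕ} (hn : 2 ≤ n) (hord : orderOf y = 2 ^ n) :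
    cj y J = J := by
  by_contra hne
  obtain ⟨huJ, hact⟩ := IntrinsicLemmaA.main hJ hK hy hyz hn hord hne
  have hyu := IntrinsicLemmaA.pow_eq hK hy (by omega) hord
  have hyX : y ∈ centralizer ({z} : Set G) := mem_centralizer_singleton_iff.mpr hyz
  have huX : u ∈ centralizer ({z} : Set G) := hyu ▸ pow_mem hyX _
  obtain ⟨T, hT, hyT⟩ := exists_isMaxP (isPGroup_zpowers hord) ((zpowers_le).mpr hyX)
  have hyT' : y ∈ T := hyT (mem_zpowers y)
  have huT : u ∈ T := hyu ▸ pow_mem hyT' _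
  have hzT : z ∈ T := mem_of_central hT (hJ.tc.le hJ.mem) hJ.sq
    (fun x hx => mem_centralizer_singleton_iff.mp hx)
  obtain ⟨f, hfT, hfJ, hf2, hfu, x₁, hx₁, hx₁u⟩ := IntrinsicZ.main hJ hK.sq
    (mem_centralizer_singleton_iff.mp huX) hT.1 huT hzT (isMaxP_inf hJ.tc hT) huJ hact
  refine IntrinsicEnd.main hJ hK hJK hy hyz hn hord hne hT.1 hyT' hfT hfJ hf2 hfu hx₁ ?_
  rw [hx₁u, inv_mul_cancel]
  exact one_mem _

end Cfsg.Agent.SignalizersComponents.IntrinsicPartI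
end
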