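import Mathlib
import Cfsg.Agent.SignalizersComponents.LocalGlobal
import Cfsg.Agent.SignalizersComponents.NoFixedGen
set_option linter.all false

set_option autoImplicit false
set_option linter.unusedSectionVars false

/-!
A general form of the local-to-global lemma: the fixed points of `a` on the `π'`-sections of `K` need only
commute with `X` modulo the kernel. With `c = True` only for subgroups `X` that are abelian modulo `O_π(K)`
(then no Fermat exception).
-/

namespace Cfsg.Agent.SignalizersComponents.FixedPointLemma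

open Subgroup
open scoped commutatorElement
open Cfsg (piCoreOf)
open Cfsg.Agent.OddOrderLocal.PiCoreOf
open Cfsg.Agent.SignalizersComponents.InvariantHall
open Cfsg.Agent.SignalizersComponents.GoldschmidtGen (le_normalizer_of_conj_mem
  conj_mem_of_le_normalizer le_normalizer_sup)
open Cfsg.Agent.SignalizersComponents.LocalGlobal (NoFixed isPGroup_zpowers_of_pow
  centralizer_zpowers_eq coprime_of_piNum piCoreOf_map_injective le_piCoreOf_of_forall
  inf_centralizer_piCoreOf_le)

universe u

/-- `NoFixed r π`, restricted to commutative groups `X` if `c` holds. -/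
def NoFixedC (r : ℕ) (π : Set ℕ) (c : Prop) : Prop :=
  ∀ (G : Type u) [Group G] [Finite G] (V X : Subgroup G) (a : G) (s : ℕ), s.Prime → s ∉ π → s ≠ r →
    IsPGroup s V → Group.IsSolvable X → PiNum π X → ¬ r ∣ Nat.card X → a ^ r = 1 →
    a ∈ normalizer (V : Set G) → a ∈ normalizer (X : Set G) → X ≤ normalizer (V : Set G) →
    (c → ∀ x ∈ X, ∀ y ∈ X, x * y = y * x) →
    V ⊓ centralizer {a} = ⊥ → ⁅X, zpowers a⁆ ≤ centralizer (V : Set G)

theorem noFixedC_of_noFixed {r : ℕ} {π : Set ℕ} (h : NoFixed.{u} r π) (c : Prop) :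
    NoFixedC.{u} r π c :=
  fun G _ _ V X a s hs hsπ hsr hV hXs hX hrX ha haV haX hXV _ hfree =>
    h G V X a s hs hsπ hsr hV hXs hX hrX ha haV haX hXV hfree

/-- Type-level core: `U = ⁅U, X⁆` normal, `X = ⁅X, a⁆`, `C_U(a) ≤ C(X)` forces `U = 1`. -/
theorem eq_bot_of_normal {r : ℕ} [hr : Fact r.Prime] {π : Set ℕ} {c : Prop}
    (hNF : NoFixedC.{u} r π c)
    {G : Type u} [Group G] [Finite G] {U X : Subgroup G} [hUn : U.Normal] {a : G} {s : ℕ}
    (hs : s.Prime) (hsπ : s ∉ π) (hsr : s ≠ r) (hU : IsPGroup s U) (hXs : Group.IsSolvable X)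
    (hX : PiNum π X) (hrX : ¬ r ∣ Nat.card X) (ha : a ^ r = 1) (haX : a ∈ normalizer (X : Set G))
    (hc : c → ∀ x ∈ X, ∀ y ∈ X, x * y = y * x)
    (hXa : ⁅X, zpowers a⁆ = X) (hUX : ⁅U, X⁆ = U)
    (hfix : U ⊓ centralizer {a} ≤ centralizer (X : Set G)) : U = ⊥ := by
  have : Fact s.Prime := ⟨hs⟩
  set N : Subgroup G := ⁅U, U⁆ with hN
  set f := QuotientGroup.mk' N with hf
  have hUr : ¬ r ∣ Nat.card U := by
    obtain ⟨n, hn⟩ := IsPGroup.iff_card.mp hU
    rw [hn]
    intro h
    exact hsr ((Nat.prime_dvd_prime_iff_eq hr.out hs).mp (hr.out.dvd_of_dvd_pow h)).symm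
  have hcopX : (Nat.card X).Coprime s := by
    rw [Nat.coprime_comm, hs.coprime_iff_not_dvd]
    intro h
    exact hsπ (hX s hs h)
  -- no fixed points on `U / ⁅U, U⁆`
  have hfree : U.map f ⊓ centralizer {f a} = ⊥ := by
    rw [eq_bot_iff]
    have h1 := CoprimeFix.map_inf_centralizer_le (zpowers a) (isPGroup_zpowers_of_pow ha) U hUr
      (fun b _ v hv => hUn.conj_mem v hv b) N
    rw [← hf] at h1
    rw [MonoidHom.map_zpowers, centralizer_zpowers_eq, centralizer_zpowers_eq] at h1
    refine h1.trans ?_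
    rintro _ ⟨u, ⟨huU, hua⟩, rfl⟩
    have h2 : u ∈ centralizer (X : Set G) := hfix ⟨huU, hua⟩
    have h3 : u ∈ N := Cfsg.Agent.OddOrderLocal.MetacyclicCoprime.mem_of_fixed_mod U X N le_rfl hU
      hcopX hUX huU fun x hx => by
        have h4 : ⁅u, x⁆ = 1 := by
          rw [commutatorElement_eq_one_iff_mul_comm]
          exact (mem_centralizer_iff.mp h2 x hx).symm
        rw [h4]
        exact one_mem _
    rw [mem_bot]
    exact (QuotientGroup.eq_one_iff u).mpr h3
  have hXf : X.map f = ⁅X.map f, zpowers (f a)⁆ := by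
    conv_lhs => rw [← hXa]
    rw [map_commutator, MonoidHom.map_zpowers]
  have hcent := hNF (G ⧸ N) (U.map f) (X.map f) (f a) s hs hsπ hsr (hU.map f)
    (Group.isSolvable_of_surjective (f.subgroupMap_surjective X)) (hX.map f)
    (fun h => hrX (h.trans (Subgroup.card_map_dvd X f))) (by rw [← map_pow, ha, map_one])
    (by
      have : (U.map f).Normal := hUn.map f (QuotientGroup.mk'_surjective N)
      exact le_normalizer_of_normal (K := ⊤) (mem_top _))
    (by
      have h1 := le_normalizer_map f (H := X) ⟨a, haX, rfl⟩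
      exact h1)
    (by
      have : (U.map f).Normal := hUn.map f (QuotientGroup.mk'_surjective N)
      exact le_normalizer_of_normal)
    (by
      rintro hc' _ ⟨x, hx, rfl⟩ _ ⟨y, hy, rfl⟩
      rw [← map_mul, hc hc' x hx y hy, map_mul])
    hfree
  rw [← hXf] at hcent
  have hle : U ≤ ⁅U, U⁆ := by
    conv_lhs => rw [← hUX]
    have h1 : ⁅U.map f, X.map f⁆ = ⊥ := by
      rw [commutator_comm, commutator_eq_bot_iff_le_centralizer]
      exact hcent
    rw [← map_commutator, eq_bot_iff, map_le_iff_le_comap] at h1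
    intro x hx
    exact (QuotientGroup.eq_one_iff x).mp (h1 hx)
  by_contra hne
  have hUs : Group.IsSolvable U := by
    have := hU.isNilpotent
    infer_instance
  have h1 := GoldschmidtGen.sup_commutator_ne hUs bot_le (fun h => hne h.symm)
    (le_normalizer_of_conj_mem fun a _ x hx => by
      rw [mem_bot] at hx ⊢; rw [hx]; group)
  apply h1
  rw [bot_sup_eq]
  exact le_antisymm (commutator_le_left U U) hle

/-- Ambient form: `X = ⁅X, a⁆` acting on the `s`-group `V` with `C_V(a) ≤ C(X)` centralises `V`. -/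
theorem le_centralizer_of_fixed {r : ℕ} [hr : Fact r.Prime] {π : Set ℕ} {c : Prop}
    (hNF : NoFixedC.{u} r π c)
    {G : Type u} [Group G] [Finite G] {V X : Subgroup G} {a : G} {s : ℕ}
    (hs : s.Prime) (hsπ : s ∉ π) (hsr : s ≠ r) (hV : IsPGroup s V) (hXs : Group.IsSolvable X)
    (hX : PiNum π X) (hrX : ¬ r ∣ Nat.card X) (ha : a ^ r = 1) (haX : a ∈ normalizer (X : Set G))
    (haV : a ∈ normalizer (V : Set G)) (hXV : X ≤ normalizer (V : Set G))
    (hc : c → ∀ x ∈ X, ∀ y ∈ X, x * y = y * x)
    (hXa : ⁅X, zpowers a⁆ = X) (hfix : V ⊓ centralizer {a} ≤ centralizer (X : Set G)) :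
    X ≤ centralizer (V : Set G) := by
  set U : Subgroup G := ⁅V, X⁆ with hUdef
  have hUV : U ≤ V := Cfsg.Agent.Lib.CoprimeCommutator.commutator_le_left hXV
  have hUX : ⁅U, X⁆ = U := Cfsg.Agent.Lib.CoprimeCommutator.commutator_commutator_eq X V hXV
    (coprime_of_piNum hs hsπ hX hV)
  have hXU : X ≤ normalizer (U : Set G) :=
    Cfsg.Agent.Lib.CoprimeCommutator.right_le_normalizer_commutator V X
  have haU : a ∈ normalizer (U : Set G) := by
    have h1 : zpowers a ≤ normalizer (U : Set G) := by
      apply le_normalizer_of_conj_mem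
      intro b hb
      have hbX : b ∈ normalizer (X : Set G) := by
        have : zpowers a ≤ normalizer (X : Set G) := by rwa [zpowers_le]
        exact this hb
      have hbV : b ∈ normalizer (V : Set G) := by
        have : zpowers a ≤ normalizer (V : Set G) := by rwa [zpowers_le]
        exact this hb
      have h2 : U.map (MulAut.conj b).toMonoidHom = U := by
        rw [hUdef, map_commutator, map_conj_eq hbX, map_conj_eq hbV]
      intro u hu
      rw [← h2]
      exact ⟨u, hu, rfl⟩
    exact h1 (mem_zpowers a)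
  -- pass to the normalizer of `U`
  set P : Subgroup G := normalizer (U : Set G) with hP
  have hUP : U ≤ P := le_normalizer
  have hUn : (U.subgroupOf P).Normal := normal_subgroupOf_of_le_normalizer le_rfl
  have hinj := P.subtype_injective
  have hmapU : (U.subgroupOf P).map P.subtype = U := map_subgroupOf_eq_of_le hUP
  have hmapX : (X.subgroupOf P).map P.subtype = X := map_subgroupOf_eq_of_le hXU
  have hcardX : Nat.card (X.subgroupOf P) = Nat.card X := by
    rw [← Subgroup.card_map_of_injective hinj, hmapX]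
  have hbot : U.subgroupOf P = ⊥ := by
    refine eq_bot_of_normal (X := X.subgroupOf P) (a := (⟨a, haU⟩ : P)) hNF hs hsπ hsr ?_ ?_ ?_ ?_
      ?_ ?_ ?_ ?_ ?_ ?_
    · exact (hV.to_le hUV).of_equiv (subgroupOfEquivOfLe hUP).symm
    · have := hXs
      exact Group.isSolvable_of_surjective (f := (subgroupOfEquivOfLe hXU).symm.toMonoidHom)
        (subgroupOfEquivOfLe hXU).symm.surjective
    · intro q hq hd
      rw [hcardX] at hd
      exact hX q hq hd
    · rwa [hcardX]
    · exact Subtype.ext ha
    · rw [mem_normalizer_iff]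
      rintro ⟨x, hx⟩
      exact mem_normalizer_iff.mp haX x
    · rintro hc' ⟨x, hxP⟩ hx ⟨y, hyP⟩ hy
      exact Subtype.ext (hc hc' x hx y hy)
    · apply map_injective hinj
      rw [map_commutator, MonoidHom.map_zpowers, hmapX]
      exact hXa
    · apply map_injective hinj
      rw [map_commutator, hmapU, hmapX]
      exact hUX
    · rintro ⟨u, huP⟩ ⟨huU, hua⟩
      rw [mem_centralizer_iff]
      rintro ⟨x, hxP⟩ hx
      have h1 : u ∈ centralizer (X : Set G) := by
        refine hfix ⟨hUV huU, ?_⟩
        change u ∈ centralizer {a}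
        rw [mem_centralizer_iff]
        intro y hy
        rw [Set.mem_singleton_iff.mp hy]
        exact congrArg Subtype.val (mem_centralizer_iff.mp hua ⟨a, haU⟩ rfl)
      exact Subtype.ext (mem_centralizer_iff.mp h1 x hx)
  have hU1 : U = ⊥ := by rw [← hmapU, hbot, Subgroup.map_bot]
  rw [le_centralizer_iff]
  rw [hUdef] at hU1
  exact commutator_eq_bot_iff_le_centralizer.mp hU1

/-- General form of the local-to-global lemma, `K` normal and `X = ⁅X, a⁆`. -/
theorem general_normal {r : ℕ} [hr : Fact r.Prime] {π : Set ℕ} {c : Prop}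
    (hNF : NoFixedC.{u} r π c) {G : Type u} [Group G] [Finite G] {K X : Subgroup G}
    [hKn : K.Normal] {a : G} (hKs : Group.IsSolvable K) (hrK : ¬ r ∣ Nat.card K) (ha : a ^ r = 1)
    (hXK : X ≤ K) (haX : a ∈ normalizer (X : Set G)) (hXπ : PiNum π X)
    (hXa : ⁅X, zpowers a⁆ = X) (hc : c → ⁅X, X⁆ ≤ piCoreOf π K)
    (hyp : ∀ N V : Subgroup G, N ≤ V → V ≤ K → N.Normal → V.Normal →
      (∀ Y ≤ V, PiNum π Y → Y ≤ N) → ∀ v ∈ V, v ∈ centralizer {a} → ∀ x ∈ X, ⁅x, v⁆ ∈ N) :
    X ≤ piCoreOf π K := by
  have hrX : ¬ r ∣ Nat.card X := fun h => hrK (h.trans (card_dvd_of_le hXK))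
  have hXs : Group.IsSolvable X := by
    have := hKs
    exact Group.isSolvable_of_isSolvable_injective (Subgroup.inclusion_injective hXK)
  refine le_piCoreOf_of_forall hXK fun s hs hsπ hsK => ?_
  have hsr : s ≠ r := by rintro rfl; exact hrK hsK
  -- the quotient by `N = O_{s'}(K)`
  set N : Subgroup G := piCoreOf {s}ᶜ K with hN
  have hNK : N ≤ K := piCoreOf_le _ K
  have hNn : N.Normal := by
    rw [← normalizer_eq_top_iff, eq_top_iff]
    have h1 : normalizer (K : Set G) = ⊤ := normalizer_eq_top_iff.mpr hKn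
    rw [← h1]
    exact normalizer_le_normalizer_piCoreOf _ K
  set f := QuotientGroup.mk' N with hf
  have hfs : Function.Surjective f := QuotientGroup.mk'_surjective N
  have hKfn : (K.map f).Normal := hKn.map f hfs
  have hKfs : Group.IsSolvable (K.map f) := by
    have := hKs
    exact Group.isSolvable_of_surjective (f.subgroupMap_surjective K)
  have hKN : (K.map f).comap f = K := by
    rw [comap_map_eq, QuotientGroup.ker_mk', sup_eq_left.mpr hNK]
  have hcore : piCoreOf {s}ᶜ (K.map f) = ⊥ := by
    set Y : Subgroup G := (piCoreOf {s}ᶜ (K.map f)).comap f with hY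
    have hYK : Y ≤ K := by
      rw [← hKN]
      exact comap_mono (piCoreOf_le _ _)
    have hYN : Y ≤ N := by
      refine le_piCoreOf hYK ?_ ?_
      · apply le_normalizer_of_conj_mem
        intro k hk y hy
        show f (k * y * k⁻¹) ∈ piCoreOf {s}ᶜ (K.map f)
        rw [map_mul, map_mul, map_inv]
        exact conj_mem_of_le_normalizer (le_normalizer_piCoreOf _ (K.map f)) ⟨k, hk, rfl⟩ hy
      · intro q hq hd
        have h2 : Nat.card Y = Nat.card (piCoreOf {s}ᶜ (K.map f)) * Nat.card N :=
          Cfsg.Agent.Solvable.Hall.card_comap_mk N _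
        rw [h2] at hd
        rcases hq.dvd_mul.mp hd with h | h
        · exact piCoreOf_isPi _ _ q hq h
        · exact piCoreOf_isPi _ _ q hq h
    have h2 : Y.map f = piCoreOf {s}ᶜ (K.map f) := map_comap_eq_self_of_surjective hfs _
    rw [← h2, eq_bot_iff, map_le_iff_le_comap, MonoidHom.comap_bot,
      QuotientGroup.ker_mk']
    exact hYN
  set V : Subgroup (G ⧸ N) := piCoreOf {s} (K.map f) with hV
  have hVp : IsPGroup s V := (isPi_singleton_iff hs V).mp (piCoreOf_isPi _ _)
  have hVn : V.Normal := by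
    rw [← normalizer_eq_top_iff, eq_top_iff]
    have h1 : normalizer (K.map f : Set (G ⧸ N)) = ⊤ := normalizer_eq_top_iff.mpr hKfn
    rw [← h1]
    exact normalizer_le_normalizer_piCoreOf _ _
  have hVK : V ≤ K.map f := piCoreOf_le _ _
  have hVcN : N ≤ V.comap f := by
    intro x hx
    rw [mem_comap]
    have h1 : f x = 1 := (QuotientGroup.eq_one_iff x).mpr hx
    rw [h1]
    exact one_mem _
  have hVcK : V.comap f ≤ K := by rw [← hKN]; exact comap_mono hVK
  have hXfV : X.map f ≤ centralizer (V : Set (G ⧸ N)) := by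
    refine le_centralizer_of_fixed hNF (a := f a) hs hsπ hsr hVp ?_ (hXπ.map f)
      (fun h => hrX (h.trans (Subgroup.card_map_dvd X f))) (by rw [← map_pow, ha, map_one])
      (le_normalizer_map f (H := X) ⟨a, haX, rfl⟩) ?_ ?_ ?_ ?_ ?_
    · have := hXs
      exact Group.isSolvable_of_surjective (f.subgroupMap_surjective X)
    · exact le_normalizer_of_normal (K := ⊤) (mem_top _)
    · exact le_normalizer_of_normal
    · rintro hc' _ ⟨x, hx, rfl⟩ _ ⟨y, hy, rfl⟩
      have h1 : ⁅x, y⁆ ∈ N := by
        have h2 : piCoreOf π K ≤ N := by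
          refine le_piCoreOf (piCoreOf_le π K) (le_normalizer_piCoreOf π K) fun q hq hd => ?_
          intro hqs
          rw [Set.mem_singleton_iff] at hqs
          exact hsπ (hqs ▸ piCoreOf_isPi π K q hq hd)
        exact h2 (hc hc' (commutator_mem_commutator hx hy))
      have h3 : f ⁅x, y⁆ = 1 := (QuotientGroup.eq_one_iff _).mpr h1
      rw [map_commutatorElement, commutatorElement_eq_one_iff_mul_comm] at h3
      exact h3
    · rw [← MonoidHom.map_zpowers, ← map_commutator, hXa]
    · -- `C_V(a)` lies in the image of `C(a)`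
      have h1 := CoprimeFix.map_inf_centralizer_le (zpowers a) (isPGroup_zpowers_of_pow ha)
        (V.comap f) (fun h => hrK (h.trans (card_dvd_of_le hVcK)))
        (fun b _ v hv => (hVn.comap f).conj_mem v hv b) N
      rw [← hf, map_comap_eq_self_of_surjective hfs, MonoidHom.map_zpowers,
        centralizer_zpowers_eq, centralizer_zpowers_eq] at h1
      intro z hz
      obtain ⟨v, ⟨hvV, hva⟩, rfl⟩ := h1 hz
      rw [mem_centralizer_iff]
      rintro _ ⟨x, hx, rfl⟩
      have hVcn : (V.comap f).Normal := hVn.comap f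
      have h2 := hyp N (V.comap f) hVcN hVcK hNn hVcn (by
        intro Y hYV hYπ
        have h3 : V ⊓ Y.map f = ⊥ := by
          have : Fact s.Prime := ⟨hs⟩
          refine PiNum.inf_eq_bot (ρ := {s}) (σ := π)
            (piNum_of_isPGroup hVp (Set.mem_singleton s)) (PiNum.map hYπ f) ?_
          rintro q hq
          rw [Set.mem_singleton_iff.mp hq]
          exact hsπ
        rw [inf_eq_right.mpr (map_le_iff_le_comap.mpr hYV), eq_bot_iff, map_le_iff_le_comap,
          MonoidHom.comap_bot, QuotientGroup.ker_mk'] at h3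
        exact h3) v hvV hva x hx
      have h3 : f ⁅x, v⁆ = 1 := (QuotientGroup.eq_one_iff _).mpr h2
      rw [map_commutatorElement, commutatorElement_eq_one_iff_mul_comm] at h3
      exact h3
  have hXfbot : X.map f = ⊥ := by
    have h1 : X.map f ≤ V := (le_inf (map_mono hXK) hXfV).trans
      (inf_centralizer_piCoreOf_le hKfs hs hcore)
    have : Fact s.Prime := ⟨hs⟩
    have h2 := PiNum.inf_eq_bot (ρ := {s}) (σ := π) (X := V) (Y := X.map f)
      (piNum_of_isPGroup hVp (Set.mem_singleton s)) (hXπ.map f) (by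
        rintro q hq
        rw [Set.mem_singleton_iff.mp hq]
        exact hsπ)
    rwa [inf_eq_right.mpr h1] at h2
  rw [eq_bot_iff, map_le_iff_le_comap, MonoidHom.comap_bot, QuotientGroup.ker_mk'] at hXfbot
  exact hXfbot

/-- **General form of the local-to-global lemma.** `K` solvable of order prime to `r`, `a` of order `r`
normalising `K` and the `π`-subgroup `X` of `K`. If `⁅X, C_V(a)⁆ ≤ N` for all normal subgroups `N ≤ V` of
`K` (normalised by `N(K)`) such that `V / N` is a `π'`-group, then `⁅X, a⁆ ≤ O_π(K)`. -/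
theorem general {r : ℕ} [hr : Fact r.Prime] {π : Set ℕ} {c : Prop}
    (hNF : NoFixedC.{u} r π c) {G : Type u} [Group G] [Finite G] {K X : Subgroup G}
    {a : G} (hKs : Group.IsSolvable K) (hrK : ¬ r ∣ Nat.card K) (ha : a ^ r = 1)
    (haK : a ∈ normalizer (K : Set G))
    (hXK : X ≤ K) (haX : a ∈ normalizer (X : Set G)) (hXπ : PiNum π X)
    (hc : c → ⁅X, X⁆ ≤ piCoreOf π K)
    (hyp : ∀ N V : Subgroup G, N ≤ V → V ≤ K → normalizer (K : Set G) ≤ normalizer (N : Set G) →
      normalizer (K : Set G) ≤ normalizer (V : Set G) →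
      (∀ Y ≤ V, PiNum π Y → Y ≤ N) → ∀ v ∈ V, v ∈ centralizer {a} → ∀ x ∈ X, ⁅x, v⁆ ∈ N) :
    ⁅X, zpowers a⁆ ≤ piCoreOf π K := by
  have haX' : zpowers a ≤ normalizer (X : Set G) := by rwa [zpowers_le]
  set X' : Subgroup G := ⁅X, zpowers a⁆ with hX'def
  have hX'X : X' ≤ X := Cfsg.Agent.Lib.CoprimeCommutator.commutator_le_left haX'
  have hX'K : X' ≤ K := hX'X.trans hXK
  have hX'a : ⁅X', zpowers a⁆ = X' := by
    apply Cfsg.Agent.Lib.CoprimeCommutator.commutator_commutator_eq _ _ haX'
    have h1 : IsPGroup r (zpowers a) := isPGroup_zpowers_of_pow ha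
    obtain ⟨n, hn⟩ := IsPGroup.iff_card.mp h1
    rw [hn]
    apply Nat.Coprime.pow_left
    rw [hr.out.coprime_iff_not_dvd]
    exact fun h => hrK (h.trans (card_dvd_of_le hXK))
  have haX1 : a ∈ normalizer (X' : Set G) := by
    have h1 : zpowers a ≤ normalizer (X' : Set G) :=
      Cfsg.Agent.Lib.CoprimeCommutator.right_le_normalizer_commutator _ _
    exact h1 (mem_zpowers a)
  -- pass to the normalizer of `K`
  set P : Subgroup G := normalizer (K : Set G) with hP
  have hKP : K ≤ P := le_normalizer
  have hKn : (K.subgroupOf P).Normal := normal_subgroupOf_of_le_normalizer le_rfl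
  have hinj := P.subtype_injective
  have hmapK : (K.subgroupOf P).map P.subtype = K := map_subgroupOf_eq_of_le hKP
  have hmapX : (X'.subgroupOf P).map P.subtype = X' := map_subgroupOf_eq_of_le (hX'K.trans hKP)
  have hmapN : ∀ N : Subgroup P, N.Normal → P ≤ normalizer ((N.map P.subtype : Subgroup G) : Set G) := by
    intro N hN
    apply le_normalizer_of_conj_mem
    rintro g hg _ ⟨x, hx, rfl⟩
    exact ⟨⟨g, hg⟩ * x * ⟨g, hg⟩⁻¹, hN.conj_mem x hx _, rfl⟩
  have h1 : X'.subgroupOf P ≤ piCoreOf π (K.subgroupOf P) := by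
    refine general_normal (a := (⟨a, haK⟩ : P)) hNF ?_ ?_ ?_ ?_ ?_ ?_ ?_ ?_ ?_
    · have := hKs
      exact Group.isSolvable_of_surjective (f := (subgroupOfEquivOfLe hKP).symm.toMonoidHom)
        (subgroupOfEquivOfLe hKP).symm.surjective
    · rwa [← Subgroup.card_map_of_injective hinj, hmapK]
    · exact Subtype.ext ha
    · exact fun x hx => hX'K hx
    · rw [mem_normalizer_iff]
      rintro ⟨x, hx⟩
      exact mem_normalizer_iff.mp haX1 x
    · intro q hq hd
      rw [← Subgroup.card_map_of_injective hinj, hmapX] at hd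
      exact hXπ q hq (hd.trans (card_dvd_of_le hX'X))
    · apply map_injective hinj
      rw [map_commutator, MonoidHom.map_zpowers, hmapX]
      exact hX'a
    · intro hc'
      rw [← map_le_map_iff_of_injective hinj, map_commutator, ← piCoreOf_map_injective _ hinj,
        hmapX, hmapK]
      exact (commutator_mono hX'X hX'X).trans (hc hc')
    · intro N V hNV hVK hN hV hY v hv hva x hx
      have h2 := hyp (N.map P.subtype) (V.map P.subtype) (map_mono hNV)
        (by rw [← hmapK]; exact map_mono hVK) (hmapN N hN) (hmapN V hV) (by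
          intro Y hYV hYπ
          have hYP : Y ≤ P := hYV.trans (map_subtype_le V)
          have hmapY : (Y.subgroupOf P).map P.subtype = Y := map_subgroupOf_eq_of_le hYP
          rw [← hmapY]
          apply map_mono
          apply hY
          · rw [← map_le_map_iff_of_injective hinj, hmapY]
            exact hYV
          · intro q hq hd
            rw [← Subgroup.card_map_of_injective hinj, hmapY] at hd
            exact hYπ q hq hd) (v : G) ⟨v, hv, rfl⟩ (by
          rw [mem_centralizer_iff]
          intro y hy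
          rw [Set.mem_singleton_iff.mp hy]
          exact congrArg Subtype.val (mem_centralizer_iff.mp hva ⟨a, haK⟩ rfl)) (x : G) (hX'X hx)
      obtain ⟨n, hn, hnx⟩ := h2
      have h3 : n = ⁅x, v⁆ := Subtype.ext (by rw [← Subgroup.coe_subtype, hnx]; rfl)
      rw [← h3]
      exact hn
  have h2 := map_mono (f := P.subtype) h1
  rw [hmapX, ← piCoreOf_map_injective _ hinj, hmapK] at h2
  exact h2

end Cfsg.Agent.SignalizersComponents.FixedPointLemma
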