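import Mathlib
import Cfsg.Prelude.Def_Balance
import Cfsg.Agent.SignalizersComponents.MinCounterBasic
import Cfsg.Agent.SignalizersComponents.HallFunctor
import Cfsg.Agent.SignalizersComponents.LocalGlobal
import Cfsg.Agent.SignalizersComponents.PermTriple
import Cfsg.Agent.SignalizersComponents.RadicalEnd_mg
import Cfsg.Agent.SignalizersComponents.FixedPointLemma
import Cfsg.Agent.Blocks.SylowIn
set_option linter.all false

-- part: SignalizersComponents/RadicalBasic
section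
set_option autoImplicit false
set_option linter.unusedSectionVars false

/-!
The radicals `W_π` of a solvable signalizer functor (steps (1)-(3) of the radical proof).
-/

namespace Cfsg.Agent.SignalizersComponents.RadicalBasic

open Subgroup
open scoped commutatorElement
open Cfsg (piCoreOf)
open Cfsg.Agent.OddOrderLocal.PiCoreOf (piCoreOf_le piCoreOf_isPi le_piCoreOf le_normalizer_piCoreOf
  normalizer_le_normalizer_piCoreOf)
open Cfsg.Agent.SignalizersComponents.GoldschmidtGen (le_normalizer_of_conj_mem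
  conj_mem_of_le_normalizer)
open Cfsg.Agent.SignalizersComponents.CoprimeGen
open Cfsg.Agent.SignalizersComponents.FunctorTools
open Cfsg.Agent.SignalizersComponents.FunctorInduction
open Cfsg.Agent.SignalizersComponents.MinCounterBasic
open Cfsg.Agent.SignalizersComponents.InvariantHall (PiNum piNum_of_isPGroup)
open Cfsg.Agent.SignalizersComponents.HallFunctor
open Cfsg.Agent.SignalizersComponents.LocalGlobal (NoFixed)

universe u

variable {G : Type u} [Group G]

/-- `Φ_π(D) = ⋂_{1 ≠ d ∈ D} O_π(θ d)`. -/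
def phi (π : Set ℕ) (θ : G → Subgroup G) (D : Subgroup G) : Subgroup G :=
  Cfsg.signalizerInf D fun d => piCoreOf π (θ d)

/-- The radical `W_π`, the join of the `Φ_π(D)`, `D` a hyperplane of `A`. -/
def rad (r : ℕ) (π : Set ℕ) (A : Subgroup G) (θ : G → Subgroup G) : Subgroup G :=
  ⨆ D : {D : Subgroup G // D ≤ A ∧ D.relIndex A = r}, phi π θ (D : Subgroup G)

/-- `X_L`, the join of the `O_π(θ x)`, `1 ≠ x ∈ L`. -/
def hull (π : Set ℕ) (θ : G → Subgroup G) (L : Subgroup G) : Subgroup G :=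
  ⨆ x : {x : G // x ∈ L ∧ x ≠ 1}, piCoreOf π (θ (x : G))

theorem mem_phi {π : Set ℕ} {θ : G → Subgroup G} {D : Subgroup G} {x : G} :
    x ∈ phi π θ D ↔ ∀ d ∈ D, d ≠ 1 → x ∈ piCoreOf π (θ d) := by
  unfold phi Cfsg.signalizerInf
  rw [Subgroup.mem_iInf]
  exact ⟨fun h a ha ha1 => h ⟨a, ha, ha1⟩, fun h a => h a.1 a.2.1 a.2.2⟩

theorem phi_le {π : Set ℕ} {θ : G → Subgroup G} {D : Subgroup G} {d : G} (hd : d ∈ D)
    (hd1 : d ≠ 1) : phi π θ D ≤ piCoreOf π (θ d) := fun _ hx => mem_phi.mp hx d hd hd1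

theorem phi_le_rad {r : ℕ} {π : Set ℕ} {A : Subgroup G} {θ : G → Subgroup G} {D : Subgroup G}
    (hD : D ≤ A) (hDr : D.relIndex A = r) : phi π θ D ≤ rad r π A θ :=
  le_iSup (fun D : {D : Subgroup G // D ≤ A ∧ D.relIndex A = r} => phi π θ (D : Subgroup G))
    ⟨D, hD, hDr⟩

theorem le_hull {π : Set ℕ} {θ : G → Subgroup G} {L : Subgroup G} {x : G} (hx : x ∈ L)
    (hx1 : x ≠ 1) : piCoreOf π (θ x) ≤ hull π θ L :=
  le_iSup (fun x : {x : G // x ∈ L ∧ x ≠ 1} => piCoreOf π (θ (x : G))) ⟨x, hx, hx1⟩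

variable [Finite G] {r : ℕ} [hr : Fact r.Prime] {A : Subgroup G} {θ : G → Subgroup G}

/-- Two hyperplanes of a group of order `r ^ 3` meet nontrivially. -/
theorem exists_mem_inf (hA : Cfsg.IsElementaryAbelian r A) (hA3 : r ^ 3 ≤ Nat.card A)
    {D L : Subgroup G} (hD : D ≤ A) (hDr : D.relIndex A = r) (hL : L ≤ A)
    (hLr : L.relIndex A = r) : ∃ x, x ∈ D ∧ x ∈ L ∧ x ≠ 1 := by
  have h1 : (D ⊓ L).relIndex L ≤ r := by
    rw [inf_relIndex_right]
    have h2 : D.relIndex L ∣ D.relIndex A := by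
      have hn : (D.subgroupOf A).Normal := by
        refine ⟨fun x hx g => ?_⟩
        have hc := comm_of_isElementaryAbelian hA g g.2 x x.2
        have h3 : g * x * g⁻¹ = x := by
          apply Subtype.ext
          show (g : G) * x * (g : G)⁻¹ = x
          rw [hc]; group
        rwa [h3]
      have h4 := relIndex_dvd_index_of_normal (D.subgroupOf A) (L.subgroupOf A)
      rwa [relIndex_subgroupOf hL] at h4
    rw [hDr] at h2
    exact Nat.le_of_dvd hr.out.pos h2
  have h2 : r ^ 2 ≤ Nat.card L := hyperplane_pow_le hA3 hL hLr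
  have h3 := Cfsg.Agent.OddOrderLocal.HallPi.card_mul_relIndex (inf_le_right : D ⊓ L ≤ L)
  have hne : D ⊓ L ≠ ⊥ := by
    intro hbot
    rw [hbot, Subgroup.card_bot, one_mul, ← hbot] at h3
    rw [← h3] at h2
    have h4 : r ^ 2 ≤ r := h2.trans h1
    have h5 := hr.out.one_lt
    nlinarith
  obtain ⟨x, hx, hx1⟩ := (D ⊓ L).bot_or_exists_ne_one.resolve_left hne
  exact ⟨x, hx.1, hx.2, hx1⟩

section mem

/-- `O_π` of a member is a member. -/
theorem piCoreOf_mem {K : Subgroup G} (hK : K ∈ Cfsg.signalizerFamily r A θ) (π : Set ℕ) :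
    piCoreOf π K ∈ Cfsg.signalizerFamily r A θ :=
  mem_of_le hK (piCoreOf_le π K)
    ((le_normalizer_of_mem hK).trans (normalizer_le_normalizer_piCoreOf π K))

/-- `O_π(θ x)` lies in the closure of the Hall functor. -/
theorem piCoreOf_le_piClosure (hA : Cfsg.IsElementaryAbelian r A) (hA2 : r ^ 2 ≤ Nat.card A)
    (hθ : Cfsg.IsSolvableSignalizerFunctor r A θ) (π : Set ℕ) {x : G} (hx : x ∈ A) (hx1 : x ≠ 1) :
    piCoreOf π (θ x) ≤ piClosure π A θ :=
  le_piClosure hA hA2 hθ (piCoreOf_mem (SignalizerMax.theta_mem_family hθ hx hx1) π)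
    ((signalizerInf_le hx hx1).trans (le_normalizer_piCoreOf π _)) (piCoreOf_isPi π _)

theorem hull_le_piClosure (hA : Cfsg.IsElementaryAbelian r A) (hA2 : r ^ 2 ≤ Nat.card A)
    (hθ : Cfsg.IsSolvableSignalizerFunctor r A θ) (π : Set ℕ) {L : Subgroup G} (hL : L ≤ A) :
    hull π θ L ≤ piClosure π A θ :=
  iSup_le fun x => piCoreOf_le_piClosure hA hA2 hθ π (hL x.2.1) x.2.2

theorem le_normalizer_hull (hθ : Cfsg.IsSolvableSignalizerFunctor r A θ) (π : Set ℕ)
    {L : Subgroup G} (hL : L ≤ A) : A ≤ normalizer (hull π θ L : Set G) :=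
  iSup_le_normalizer _ fun x =>
    (theta_le_normalizer hθ (hL x.2.1) x.2.2).trans (normalizer_le_normalizer_piCoreOf π _)

/-- `θ(L)` normalises `X_L`. -/
theorem signalizerInf_le_normalizer_hull (π : Set ℕ) {L : Subgroup G} :
    Cfsg.signalizerInf L θ ≤ normalizer (hull π θ L : Set G) :=
  iSup_le_normalizer _ fun x => (signalizerInf_le x.2.1 x.2.2).trans (le_normalizer_piCoreOf π _)

/-- `W_π ≤ X_L`. -/
theorem rad_le_hull (hA : Cfsg.IsElementaryAbelian r A) (hA3 : r ^ 3 ≤ Nat.card A) (π : Set ℕ)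
    {L : Subgroup G} (hL : L ≤ A) (hLr : L.relIndex A = r) : rad r π A θ ≤ hull π θ L := by
  refine iSup_le fun D => ?_
  obtain ⟨x, hxD, hxL, hx1⟩ := exists_mem_inf hA hA3 D.2.1 D.2.2 hL hLr
  exact (phi_le hxD hx1).trans (le_hull hxL hx1)

theorem exists_hyperplane (hA : Cfsg.IsElementaryAbelian r A) (hA1 : A ≠ ⊥) :
    ∃ L ≤ A, L.relIndex A = r := by
  obtain ⟨n, hn⟩ := IsPGroup.iff_card.mp (isPGroup_of_isElementaryAbelian hA)
  have hn0 : n ≠ 0 := by
    rintro rfl
    rw [pow_zero] at hn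
    exact hA1 (Subgroup.card_eq_one.mp hn)
  obtain ⟨m, rfl⟩ := Nat.exists_eq_succ_of_ne_zero hn0
  obtain ⟨L, hL⟩ := Sylow.exists_subgroup_card_pow_prime (G := A) r
    (n := m) (by rw [hn]; exact pow_dvd_pow _ (Nat.le_succ m))
  refine ⟨L.map A.subtype, map_subtype_le L, ?_⟩
  have h1 := Cfsg.Agent.OddOrderLocal.HallPi.card_mul_relIndex (map_subtype_le L)
  rw [Subgroup.card_map_of_injective A.subtype_injective, hL, hn, Nat.succ_eq_add_one, pow_succ] at h1
  exact Nat.eq_of_mul_eq_mul_left (pow_pos hr.out.pos m) h1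

theorem le_normalizer_phi (hθ : Cfsg.IsSolvableSignalizerFunctor r A θ) (π : Set ℕ)
    {D : Subgroup G} (hD : D ≤ A) : A ≤ normalizer (phi π θ D : Set G) := by
  apply le_normalizer_of_conj_mem
  intro b hb x hx
  rw [mem_phi] at hx ⊢
  intro d hd hd1
  exact conj_mem_of_le_normalizer ((theta_le_normalizer hθ (hD hd) hd1).trans
    (normalizer_le_normalizer_piCoreOf π _)) hb (hx d hd hd1)

theorem signalizerInf_le_normalizer_phi (π : Set ℕ) {D : Subgroup G} :
    Cfsg.signalizerInf D θ ≤ normalizer (phi π θ D : Set G) := by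
  apply le_normalizer_of_conj_mem
  intro b hb x hx
  rw [mem_phi] at hx ⊢
  intro d hd hd1
  exact conj_mem_of_le_normalizer (le_normalizer_piCoreOf π _) (signalizerInf_le hd hd1 hb)
    (hx d hd hd1)

theorem le_normalizer_rad (hθ : Cfsg.IsSolvableSignalizerFunctor r A θ) (π : Set ℕ) :
    A ≤ normalizer (rad r π A θ : Set G) :=
  iSup_le_normalizer _ fun D => le_normalizer_phi hθ π D.2.1

/-- `⋂ θ a` normalises `W_π`. -/
theorem signalizerInf_le_normalizer_rad (π : Set ℕ) :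
    Cfsg.signalizerInf A θ ≤ normalizer (rad r π A θ : Set G) := by
  refine iSup_le_normalizer _ fun D => le_trans ?_ (signalizerInf_le_normalizer_phi π)
  exact le_iInf fun x => signalizerInf_le (D.2.1 x.2.1) x.2.2

variable (hA : Cfsg.IsElementaryAbelian r A) (hA3 : r ^ 3 ≤ Nat.card A)
  (hθ : Cfsg.IsSolvableSignalizerFunctor r A θ) {π : Set ℕ}
  (hc : SolComplete r A (hallFunctor π A θ))

include hA hA3 hθ hc

theorem hull_mem {L : Subgroup G} (hL : L ≤ A) : hull π θ L ∈ Cfsg.signalizerFamily r A θ :=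
  mem_of_le (piClosure_mem hA hθ hc) (hull_le_piClosure hA
    ((Nat.pow_le_pow_right hr.out.pos (by norm_num)).trans hA3) hθ π hL) (le_normalizer_hull hθ π hL)

theorem hull_piNum {L : Subgroup G} (hL : L ≤ A) : PiNum π (hull π θ L) :=
  (piClosure_piNum hA ((Nat.pow_le_pow_right hr.out.pos (by norm_num)).trans hA3) hθ hc).mono
    (hull_le_piClosure hA ((Nat.pow_le_pow_right hr.out.pos (by norm_num)).trans hA3) hθ π hL)

theorem rad_mem : rad r π A θ ∈ Cfsg.signalizerFamily r A θ := by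
  obtain ⟨L, hL, hLr⟩ := exists_hyperplane hA (ne_bot_of_pow_le three_ne_zero hA3)
  exact mem_of_le (hull_mem hA hA3 hθ hc hL) (rad_le_hull hA hA3 π hL hLr) (le_normalizer_rad hθ π)

theorem rad_piNum : PiNum π (rad r π A θ) := by
  obtain ⟨L, hL, hLr⟩ := exists_hyperplane hA (ne_bot_of_pow_le three_ne_zero hA3)
  exact (hull_piNum hA hA3 hθ hc hL).mono (rad_le_hull hA hA3 π hL hLr)

/-- **The radical property**: `W_π ∩ K ≤ O_π(K)` for all members `K`. -/
theorem rad_inf_le {K : Subgroup G} (hK : K ∈ Cfsg.signalizerFamily r A θ) :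
    rad r π A θ ⊓ K ≤ piCoreOf π K := by
  have hA2 : r ^ 2 ≤ Nat.card A := (Nat.pow_le_pow_right hr.out.pos (by norm_num)).trans hA3
  refine LocalGlobal.le_piCoreOf_of_forall inf_le_right fun q hq hqπ hqK => ?_
  have : Fact q.Prime := ⟨hq⟩
  have hUq : ¬ q ∣ Nat.card ↥(rad r π A θ ⊓ K) := fun hd =>
    hqπ (rad_piNum hA hA3 hθ hc q hq (hd.trans (card_dvd_of_le inf_le_left)))
  have h1 := Cfsg.Agent.S1288.result r A K hA hA2 hK.2.1 hK.1 (le_normalizer_of_mem hK) q hqK
    (rad r π A θ ⊓ K) inf_le_right hUq (by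
      intro B hB hBr hd
      apply hqπ
      refine hull_piNum hA hA3 hθ hc hB q hq (hd.trans (card_dvd_of_le ?_))
      have hKB : K ⊓ centralizer (B : Set G) ≤ Cfsg.signalizerInf B θ := by
        refine le_iInf fun b => le_trans (inf_le_inf_left _ (centralizer_le ?_))
          (hK.2.2.2 b.1 (hB b.2.1) b.2.2)
        intro x hx
        rw [Set.mem_singleton_iff.mp hx]
        exact b.2.1
      exact (commutator_mono (inf_le_left.trans (rad_le_hull hA hA3 π hB hBr)) le_rfl).trans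
        (Cfsg.Agent.Lib.CoprimeCommutator.commutator_le_left
          (hKB.trans (signalizerInf_le_normalizer_hull π))))
  rw [Cfsg.Agent.OddOrderLocal.UniqZL.map_pPrimeCore_eq, ← CharNormal.piCoreOf_compl_eq hq] at h1
  exact h1

/-- `C_{W_π}(D) = Φ_π(D)` for a hyperplane `D`. -/
theorem rad_inf_centralizer {D : Subgroup G} (hD : D ≤ A) (hDr : D.relIndex A = r) :
    rad r π A θ ⊓ centralizer (D : Set G) = phi π θ D := by
  apply le_antisymm
  · intro x hx
    rw [mem_phi]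
    intro d hd hd1
    have hdA := hD hd
    have h1 : x ∈ θ d := by
      refine (rad_mem hA hA3 hθ hc).2.2.2 d hdA hd1 ⟨hx.1, ?_⟩
      exact centralizer_le (by simpa using hd) hx.2
    exact rad_inf_le hA hA3 hθ hc (SignalizerMax.theta_mem_family hθ hdA hd1) ⟨hx.1, h1⟩
  · refine le_inf (phi_le_rad hD hDr) ?_
    intro x hx
    rw [mem_centralizer_iff]
    intro d hd
    by_cases hd1 : d = 1
    · rw [hd1]; simp
    · have h1 : x ∈ θ d := piCoreOf_le π _ (mem_phi.mp hx d hd hd1)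
      exact mem_centralizer_singleton.mp (hθ.1.1 d (hD hd) hd1 h1)

/-- Step (2): `⁅O_π(K), a⁆ ≤ W_π` for all members `K ≥ θ a`. -/
theorem commutator_le_rad (hNF : NoFixed.{u} r π) {a : G} (ha : a ∈ A) (ha1 : a ≠ 1)
    {K : Subgroup G} (hK : K ∈ Cfsg.signalizerFamily r A θ) (hθK : θ a ≤ K) :
    ⁅piCoreOf π K, zpowers a⁆ ≤ rad r π A θ := by
  have hcomm := comm_of_isElementaryAbelian hA
  have hKm := piCoreOf_mem hK π
  have haA : zpowers a ≤ A := by rwa [zpowers_le]
  refine (commutator_le_iSup_hyperplane hA (ne_bot_of_pow_le three_ne_zero hA3) haA hKm.1 hKm.2.1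
    (le_normalizer_of_mem hKm)).trans (iSup_le fun B => ?_)
  refine le_trans ?_ (phi_le_rad B.2.1 B.2.2)
  refine le_iInf fun d => ?_
  have hdA : d.1 ∈ A := B.2.1 d.2.1
  have hAK := le_normalizer_of_mem hK
  have hθd := SignalizerMax.theta_mem_family hθ hdA d.2.2
  set H : Subgroup G := K ⊓ centralizer {d.1} with hH
  have hAC : A ≤ normalizer ((centralizer {d.1} : Subgroup G) : Set G) :=
    le_normalizer_centralizer_singleton fun x hx => le_centralizer_singleton hA hx hdA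
  have hLG := LocalGlobal.main hNF (K := θ d.1) (H := H) (a := a) hθd.1 hθd.2.1 (hA.2 a ha)
    (le_normalizer_of_mem hθd ha) (hK.2.2.2 d.1 hdA d.2.2)
    (HallFunctor.le_normalizer_inf hAK hAC ha) (by
      rintro x ⟨hx, hxa⟩
      exact ⟨hθK (hθ.1.2.2.2 d.1 hdA d.2.2 a ha ha1 ⟨hx, hxa⟩), hθ.1.1 d.1 hdA d.2.2 hx⟩)
  refine le_trans (commutator_mono ?_ le_rfl) hLG
  have h1 : piCoreOf π K ⊓ centralizer (B.1 : Set G) ≤ piCoreOf π K ⊓ centralizer {d.1} :=
    inf_le_inf_left _ (centralizer_le (by simpa using d.2.1))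
  refine h1.trans (le_piCoreOf (inf_le_inf_right _ (piCoreOf_le π K)) ?_ ?_)
  · exact HallFunctor.le_normalizer_inf (inf_le_left.trans (le_normalizer_piCoreOf π K))
      (inf_le_right.trans le_normalizer)
  · exact PiNum.mono (Y := piCoreOf π K) (piCoreOf_isPi π K) inf_le_left

end mem

end Cfsg.Agent.SignalizersComponents.RadicalBasic
end

-- part: SignalizersComponents/ThetaRadical
section
set_option autoImplicit false
set_option linter.unusedSectionVars false

/-!
The short proof of the solvable signalizer functor theorem: for `T ≤ G` containing `C = ⋂ θ a` let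
`pj T` be the join of the `p`-members normalised by `T`; again such a member. Steps (1), (2), (3).
-/

namespace Cfsg.Agent.SignalizersComponents.ThetaRadical

open Subgroup
open scoped commutatorElement
open Cfsg (piCoreOf)
open Cfsg.Agent.OddOrderLocal.PiCoreOf (piCoreOf_le piCoreOf_isPi le_piCoreOf le_normalizer_piCoreOf
  normalizer_le_normalizer_piCoreOf isPi_singleton_iff)
open Cfsg.Agent.SignalizersComponents.GoldschmidtGen (le_normalizer_of_conj_mem
  conj_mem_of_le_normalizer)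
open Cfsg.Agent.SignalizersComponents.CoprimeGen
open Cfsg.Agent.SignalizersComponents.FunctorTools
open Cfsg.Agent.SignalizersComponents.FunctorInduction
open Cfsg.Agent.SignalizersComponents.MinCounterBasic
open Cfsg.Agent.SignalizersComponents.InvariantHall (PiNum piNum_of_isPGroup)
open Cfsg.Agent.SignalizersComponents.SignalizerMax (IsMaxQ)
open Cfsg.Agent.SignalizersComponents.FixedPointLemma

universe u

section gen

variable {G : Type u} [Group G]

/-- The elements commuting with all of `X` modulo `N`. -/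
def fixMod (N X : Subgroup G) : Subgroup G where
  carrier := {v | v ∈ normalizer (N : Set G) ∧ ∀ x ∈ X, ⁅x, v⁆ ∈ N}
  one_mem' := ⟨one_mem _, fun x _ => by rw [commutatorElement_one_right]; exact one_mem _⟩
  mul_mem' := by
    rintro v w ⟨hv, hv'⟩ ⟨hw, hw'⟩
    refine ⟨mul_mem hv hw, fun x hx => ?_⟩
    have h1 : ⁅x, v * w⁆ = ⁅x, v⁆ * (v * ⁅x, w⁆ * v⁻¹) := by
      simp only [commutatorElement_def]; group
    rw [h1]
    exact N.mul_mem (hv' x hx) ((mem_normalizer_iff.mp hv _).mp (hw' x hx))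
  inv_mem' := by
    rintro v ⟨hv, hv'⟩
    refine ⟨inv_mem hv, fun x hx => ?_⟩
    have h1 : ⁅x, v⁻¹⁆ = v⁻¹ * ⁅x, v⁆⁻¹ * v⁻¹⁻¹ := by
      simp only [commutatorElement_def]; group
    rw [h1]
    exact (mem_normalizer_iff.mp (inv_mem hv) _).mp (N.inv_mem (hv' x hx))

theorem mem_fixMod {N X : Subgroup G} {v : G} :
    v ∈ fixMod N X ↔ v ∈ normalizer (N : Set G) ∧ ∀ x ∈ X, ⁅x, v⁆ ∈ N := Iff.rfl

theorem le_normalizer_iInf {ι : Sort*} {X : Subgroup G} (S : ι → Subgroup G)
    (h : ∀ i, X ≤ normalizer (S i : Set G)) : X ≤ normalizer ((⨅ i, S i : Subgroup G) : Set G) := by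
  apply le_normalizer_of_conj_mem
  intro a ha x hx
  rw [Subgroup.mem_iInf] at hx ⊢
  exact fun i => conj_mem_of_le_normalizer (h i) ha (hx i)

/-- In a `p`-group `X`, a proper normal subgroup `Y` is proper in `{x ∈ X | ⁅x, X⁆ ≤ Y}`. -/
theorem exists_mem_centre_mod [Finite G] {p : ℕ} [hp : Fact p.Prime] {X Y : Subgroup G}
    (hX : IsPGroup p X) (hYX : Y ≤ X) (hXY : X ≤ normalizer (Y : Set G)) (hne : Y ≠ X) :
    ∃ z ∈ X, z ∉ Y ∧ ∀ x ∈ X, ⁅z, x⁆ ∈ Y := by
  have hn : (Y.subgroupOf X).Normal := normal_subgroupOf_of_le_normalizer hXY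
  have hq : IsPGroup p (X ⧸ Y.subgroupOf X) := hX.to_quotient _
  have hnt : Nontrivial (X ⧸ Y.subgroupOf X) := by
    rw [← not_subsingleton_iff_nontrivial]
    intro h
    have h1 := QuotientGroup.subgroup_eq_top_of_subsingleton _ h
    rw [subgroupOf_eq_top] at h1
    exact hne (le_antisymm hYX h1)
  have hnt2 := hq.center_nontrivial
  obtain ⟨⟨z, hz⟩, hz1⟩ := exists_ne (1 : Subgroup.center (X ⧸ Y.subgroupOf X))
  obtain ⟨z, rfl⟩ := QuotientGroup.mk_surjective z
  refine ⟨z, z.2, ?_, ?_⟩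
  · intro h
    apply hz1
    apply Subtype.ext
    exact (QuotientGroup.eq_one_iff z).mpr h
  · intro x hx
    have h1 := (Subgroup.mem_center_iff.mp hz) (QuotientGroup.mk ⟨x, hx⟩)
    have h2 : ((⁅z, ⟨x, hx⟩⁆ : X) : X ⧸ Y.subgroupOf X) = 1 := by
      show QuotientGroup.mk' (Y.subgroupOf X) ⁅z, ⟨x, hx⟩⁆ = 1
      rw [map_commutatorElement, commutatorElement_eq_one_iff_mul_comm]
      exact h1.symm
    have h3 : ⁅z, (⟨x, hx⟩ : X)⁆ ∈ Y.subgroupOf X := (QuotientGroup.eq_one_iff _).mp h2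
    exact h3

/-- the join of the `p`-members normalised by `T` -/
def pj (r p : ℕ) (A : Subgroup G) (θ : G → Subgroup G) (T : Subgroup G) : Subgroup G :=
  ⨆ X : {X : Subgroup G // X ∈ Cfsg.signalizerFamily r A θ ∧ IsPGroup p X ∧
    T ≤ normalizer (X : Set G)}, (X : Subgroup G)

variable {r p : ℕ} {A : Subgroup G} {θ : G → Subgroup G}

theorem le_pj {T X : Subgroup G} (hX : X ∈ Cfsg.signalizerFamily r A θ) (hXp : IsPGroup p X)
    (hT : T ≤ normalizer (X : Set G)) : X ≤ pj r p A θ T :=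
  le_iSup (fun X : {X : Subgroup G // X ∈ Cfsg.signalizerFamily r A θ ∧ IsPGroup p X ∧
    T ≤ normalizer (X : Set G)} => (X : Subgroup G)) ⟨X, hX, hXp, hT⟩

theorem le_normalizer_pj (T : Subgroup G) : T ≤ normalizer (pj r p A θ T : Set G) :=
  iSup_le_normalizer _ fun X => X.2.2.2

theorem A_le_normalizer_pj (T : Subgroup G) : A ≤ normalizer (pj r p A θ T : Set G) :=
  iSup_le_normalizer _ fun X => le_normalizer_of_mem X.2.1

theorem pj_mono {T T' : Subgroup G} (h : T ≤ T') : pj r p A θ T' ≤ pj r p A θ T :=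
  iSup_le fun X => le_pj X.2.1 X.2.2.1 (h.trans X.2.2.2)

end gen

section step

variable {G : Type u} [Group G] [Finite G] {r : ℕ} [hr : Fact r.Prime] {A : Subgroup G}
  {θ : G → Subgroup G} {p : ℕ} [hp : Fact p.Prime]

section base

variable (hA : Cfsg.IsElementaryAbelian r A) (hA3 : r ^ 3 ≤ Nat.card A)
  (hθ : Cfsg.IsSolvableSignalizerFunctor r A θ)

include hA hA3 hθ

theorem bot_mem : (⊥ : Subgroup G) ∈ Cfsg.signalizerFamily r A θ := by
  obtain ⟨a, ha, ha1⟩ := A.bot_or_exists_ne_one.resolve_left (ne_bot_of_pow_le three_ne_zero hA3)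
  refine mem_of_le (SignalizerMax.theta_mem_family hθ ha ha1) bot_le ?_
  apply le_normalizer_of_conj_mem
  intro b _ x hx
  rw [mem_bot] at hx ⊢
  rw [hx]
  group

theorem exists_isMaxQ (p : ℕ) [Fact p.Prime] : ∃ P, IsMaxQ r A θ p P := by
  obtain ⟨P, hP, -⟩ := SignalizerMax.exists_isMaxQ_ge (bot_mem hA hA3 hθ) (q := p)
    (IsPGroup.of_bot)
  exact ⟨P, hP⟩

theorem pj_le_isMaxQ {T : Subgroup G} (hT : Cfsg.signalizerInf A θ ≤ T) {P : Subgroup G}
    (hP : IsMaxQ r A θ p P) : pj r p A θ T ≤ P :=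
  iSup_le fun X => RadicalEnd.le_of_isMaxQ hA hA3 hθ X.2.1 X.2.2.1 (hT.trans X.2.2.2) hP

theorem pj_mem {T : Subgroup G} (hT : Cfsg.signalizerInf A θ ≤ T) :
    pj r p A θ T ∈ Cfsg.signalizerFamily r A θ := by
  obtain ⟨P, hP⟩ := exists_isMaxQ hA hA3 hθ p
  exact mem_of_le hP.1 (pj_le_isMaxQ hA hA3 hθ hT hP) (A_le_normalizer_pj T)

theorem isPGroup_pj {T : Subgroup G} (hT : Cfsg.signalizerInf A θ ≤ T) :
    IsPGroup p (pj r p A θ T) := by
  obtain ⟨P, hP⟩ := exists_isMaxQ hA hA3 hθ p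
  exact hP.2.1.to_le (pj_le_isMaxQ hA hA3 hθ hT hP)

theorem inf_le_inf {B : Subgroup G} (hB : B ≤ A) :
    Cfsg.signalizerInf A θ ≤ Cfsg.signalizerInf B θ :=
  le_iInf fun b => signalizerInf_le (hB b.2.1) b.2.2

/-- A `p`-subgroup `U` of the member `K` such that each `C_K(B)` normalises a `p`-group containing `U`
lies in `O_p(K)`. -/
theorem le_piCoreOf_of_hyperplane {K U : Subgroup G} (hK : K ∈ Cfsg.signalizerFamily r A θ)
    (hUK : U ≤ K) (hU : IsPGroup p U)
    (h : ∀ B ≤ A, B.relIndex A = r → ∃ Y : Subgroup G, IsPGroup p Y ∧ U ≤ Y ∧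
      K ⊓ centralizer (B : Set G) ≤ normalizer (Y : Set G)) : U ≤ piCoreOf {p} K := by
  have hA2 : r ^ 2 ≤ Nat.card A := (Nat.pow_le_pow_right hr.out.pos (by norm_num)).trans hA3
  have hnd : ∀ {Y : Subgroup G} {q : ℕ}, q.Prime → q ∉ ({p} : Set ℕ) → IsPGroup p Y →
      ¬ q ∣ Nat.card Y := by
    intro Y q hq hqp hY hd
    obtain ⟨n, hn⟩ := IsPGroup.iff_card.mp hY
    rw [hn] at hd
    exact hqp ((Nat.prime_dvd_prime_iff_eq hq hp.out).mp (hq.dvd_of_dvd_pow hd))
  refine LocalGlobal.le_piCoreOf_of_forall hUK fun q hq hqp hqK => ?_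
  have : Fact q.Prime := ⟨hq⟩
  have h1 := Cfsg.Agent.S1288.result r A K hA hA2 hK.2.1 hK.1 (le_normalizer_of_mem hK) q hqK
    U hUK (hnd hq hqp hU) (by
      intro B hB hBr
      obtain ⟨Y, hY, hUY, hn⟩ := h B hB hBr
      exact hnd hq hqp (hY.to_le ((commutator_mono hUY le_rfl).trans
        (Cfsg.Agent.Lib.CoprimeCommutator.commutator_le_left hn))))
  rw [Cfsg.Agent.OddOrderLocal.UniqZL.map_pPrimeCore_eq, ← CharNormal.piCoreOf_compl_eq hq] at h1
  exact h1

theorem inf_centralizer_le_signalizerInf {K : Subgroup G} (hK : K ∈ Cfsg.signalizerFamily r A θ)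
    {B : Subgroup G} (hB : B ≤ A) : K ⊓ centralizer (B : Set G) ≤ Cfsg.signalizerInf B θ := by
  refine le_iInf fun b => le_trans (inf_le_inf_left _ (centralizer_le ?_))
    (hK.2.2.2 b.1 (hB b.2.1) b.2.2)
  intro x hx
  rw [Set.mem_singleton_iff.mp hx]
  exact b.2.1

/-- For every hyperplane `B` there is a hyperplane `B' ∋ a` with `C(B) ∩ C(a) ≤ C(B')`. -/
theorem exists_hyperplane_mem {a : G} (ha : a ∈ A) {B : Subgroup G} (hB : B ≤ A)
    (hBr : B.relIndex A = r) : ∃ B' ≤ A, B'.relIndex A = r ∧ a ∈ B' ∧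
      centralizer (B : Set G) ⊓ centralizer {a} ≤ centralizer (B' : Set G) := by
  by_cases haB : a ∈ B
  · exact ⟨B, hB, hBr, haB, inf_le_left⟩
  · -- `B ⊔ ⟨a⟩ = A`
    have hcomm := comm_of_isElementaryAbelian hA
    have hsup : B ⊔ zpowers a = A := by
      have h1 : B ⊔ zpowers a ≤ A := sup_le hB (by rwa [zpowers_le])
      have h2 := Subgroup.relIndex_mul_relIndex B (B ⊔ zpowers a) A le_sup_left h1
      rw [hBr] at h2
      rcases (Nat.dvd_prime hr.out).mp (Dvd.intro_left _ h2) with h3 | h3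
      · exact le_antisymm h1 (relIndex_eq_one.mp h3)
      · exfalso
        rw [h3] at h2
        have h4 : B.relIndex (B ⊔ zpowers a) = 1 := by
          have := hr.out.pos
          nlinarith
        exact haB (relIndex_eq_one.mp h4 (mem_sup_right (mem_zpowers a)))
    -- a hyperplane containing `a`
    obtain ⟨n, hn⟩ := IsPGroup.iff_card.mp (isPGroup_of_isElementaryAbelian hA)
    obtain ⟨m, rfl⟩ : ∃ m, n = m + 1 := by
      refine Nat.exists_eq_succ_of_ne_zero ?_
      rintro rfl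
      rw [hn] at hA3
      have := Nat.one_lt_pow (n := 3) (by norm_num) hr.out.one_lt
      rw [pow_zero] at hA3
      omega
    obtain ⟨B', hB', hB'r, haB'⟩ : ∃ B' ≤ A, B'.relIndex A = r ∧ a ∈ B' := by
      obtain ⟨k, hk, hk2⟩ : ∃ k ≤ 1, Nat.card (zpowers (⟨a, ha⟩ : A)) = r ^ k := by
        rw [Nat.card_zpowers]
        have h1 : orderOf (⟨a, ha⟩ : A) ∣ r ^ 1 := by
          rw [pow_one]
          exact orderOf_dvd_of_pow_eq_one (Subtype.ext (hA.2 a ha))
        exact (Nat.dvd_prime_pow hr.out).mp h1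
      have hm2 : k ≤ m := by
        have h1 : r ^ 3 ≤ r ^ (m + 1) := by rw [← hn]; exact hA3
        have h2 := (Nat.pow_le_pow_iff_right hr.out.one_lt).mp h1
        omega
      obtain ⟨L, hL, hLk⟩ := Sylow.exists_subgroup_card_pow_prime_le (G := A) r
        (by rw [hn]; exact pow_dvd_pow _ (Nat.le_succ m)) _ hk2 hm2
      refine ⟨L.map A.subtype, map_subtype_le L, ?_, ⟨⟨a, ha⟩, hLk (mem_zpowers _), rfl⟩⟩
      have h1 := Cfsg.Agent.OddOrderLocal.HallPi.card_mul_relIndex (map_subtype_le L)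
      rw [Subgroup.card_map_of_injective A.subtype_injective, hL, hn, pow_succ] at h1
      exact Nat.eq_of_mul_eq_mul_left (pow_pos hr.out.pos m) h1
    refine ⟨B', hB', hB'r, haB', ?_⟩
    intro x hx
    have h1 : x ∈ centralizer ((B ⊔ zpowers a : Subgroup G) : Set G) := by
      rw [← zpowers_le, Subgroup.le_centralizer_iff]
      refine sup_le ?_ ?_
      · rw [Subgroup.le_centralizer_iff, zpowers_le]
        exact hx.1
      · rw [Subgroup.le_centralizer_iff, zpowers_le, centralizer_zpowers]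
        exact hx.2
    exact centralizer_le (by rw [hsup]; exact hB') h1

/-- Generation by the centralizers of the hyperplanes containing `a`. -/
theorem le_iSup_hyperplane_mem {a : G} (ha : a ∈ A) {Z : Subgroup G} (hZr : ¬ r ∣ Nat.card Z)
    (hAZ : A ≤ normalizer (Z : Set G)) (hZa : Z ≤ centralizer {a}) :
    Z ≤ ⨆ B : {B : Subgroup G // B ≤ A ∧ B.relIndex A = r ∧ a ∈ B},
      Z ⊓ centralizer ((B : Subgroup G) : Set G) := by
  conv_lhs => rw [← Cfsg.Agent.Lib.CoprimeHyperplane.iSup_centralizer_hyperplane hA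
    (ne_bot_of_pow_le three_ne_zero hA3) hZr hAZ]
  refine iSup_le fun B => ?_
  obtain ⟨B', hB', hB'r, haB', hle⟩ := exists_hyperplane_mem hA hA3 hθ ha B.2.1 B.2.2
  refine le_trans ?_ (le_iSup (fun B : {B : Subgroup G // B ≤ A ∧ B.relIndex A = r ∧ a ∈ B} =>
    Z ⊓ centralizer ((B : Subgroup G) : Set G)) ⟨B', hB', hB'r, haB'⟩)
  exact le_inf inf_le_left ((le_inf inf_le_right (inf_le_left.trans hZa)).trans hle)

end base

/-- `P_B`, `B` a subgroup of `A`. -/
def PB (r p : ℕ) (A : Subgroup G) (θ : G → Subgroup G) (B : Subgroup G) : Subgroup G :=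
  pj r p A θ (Cfsg.signalizerInf B θ)

/-- the intersection of the `P_B`, `B` a hyperplane containing `a` -/
def capP (r p : ℕ) (A : Subgroup G) (θ : G → Subgroup G) (a : G) : Subgroup G :=
  ⨅ B : {B : Subgroup G // B ≤ A ∧ B.relIndex A = r ∧ a ∈ B}, PB r p A θ (B : Subgroup G)

section base2

variable (hA : Cfsg.IsElementaryAbelian r A) (hA3 : r ^ 3 ≤ Nat.card A)
  (hθ : Cfsg.IsSolvableSignalizerFunctor r A θ)

include hA hA3 hθ

theorem PB_mem {B : Subgroup G} (hB : B ≤ A) : PB r p A θ B ∈ Cfsg.signalizerFamily r A θ :=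
  pj_mem hA hA3 hθ (inf_le_inf hA hA3 hθ hB)

theorem isPGroup_PB {B : Subgroup G} (hB : B ≤ A) : IsPGroup p (PB r p A θ B) :=
  isPGroup_pj hA hA3 hθ (inf_le_inf hA hA3 hθ hB)

theorem pj_theta_mem {a : G} (ha : a ∈ A) (ha1 : a ≠ 1) :
    pj r p A θ (θ a) ∈ Cfsg.signalizerFamily r A θ :=
  pj_mem hA hA3 hθ (signalizerInf_le ha ha1)

theorem isPGroup_pj_theta {a : G} (ha : a ∈ A) (ha1 : a ≠ 1) : IsPGroup p (pj r p A θ (θ a)) :=
  isPGroup_pj hA hA3 hθ (signalizerInf_le ha ha1)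

theorem pj_theta_le_PB {a : G} (ha1 : a ≠ 1) {B : Subgroup G} (haB : a ∈ B) :
    pj r p A θ (θ a) ≤ PB r p A θ B := pj_mono (signalizerInf_le haB ha1)

theorem exists_hyperplane_mem' {a : G} (ha : a ∈ A) : ∃ B ≤ A, B.relIndex A = r ∧ a ∈ B := by
  obtain ⟨L, hL, hLr⟩ := RadicalBasic.exists_hyperplane hA (ne_bot_of_pow_le three_ne_zero hA3)
  obtain ⟨B, hB, hBr, haB, -⟩ := exists_hyperplane_mem hA hA3 hθ ha hL hLr
  exact ⟨B, hB, hBr, haB⟩

theorem capP_le {a : G} {B : Subgroup G} (hB : B ≤ A) (hBr : B.relIndex A = r) (haB : a ∈ B) :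
    capP r p A θ a ≤ PB r p A θ B :=
  iInf_le (fun B : {B : Subgroup G // B ≤ A ∧ B.relIndex A = r ∧ a ∈ B} =>
    PB r p A θ (B : Subgroup G)) ⟨B, hB, hBr, haB⟩

theorem A_le_normalizer_capP (a : G) : A ≤ normalizer (capP r p A θ a : Set G) :=
  le_normalizer_iInf _ fun _ => A_le_normalizer_pj _

theorem capP_mem {a : G} (ha : a ∈ A) : capP r p A θ a ∈ Cfsg.signalizerFamily r A θ := by
  obtain ⟨B, hB, hBr, haB⟩ := exists_hyperplane_mem' hA hA3 hθ ha
  exact mem_of_le (PB_mem hA hA3 hθ hB) (capP_le hA hA3 hθ hB hBr haB)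
    (A_le_normalizer_capP hA hA3 hθ a)

theorem isPGroup_capP {a : G} (ha : a ∈ A) : IsPGroup p (capP r p A θ a) := by
  obtain ⟨B, hB, hBr, haB⟩ := exists_hyperplane_mem' hA hA3 hθ ha
  exact (isPGroup_PB hA hA3 hθ hB).to_le (capP_le hA hA3 hθ hB hBr haB)

theorem pj_theta_le_capP {a : G} (ha1 : a ≠ 1) : pj r p A θ (θ a) ≤ capP r p A θ a :=
  le_iInf fun B => pj_theta_le_PB hA hA3 hθ ha1 B.2.2.2

/-- `C_V(a) ≤ O_p(θ a)` for `V = ⋂ P_B`. -/
theorem capP_inf_centralizer_le {a : G} (ha : a ∈ A) (ha1 : a ≠ 1) :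
    capP r p A θ a ⊓ centralizer {a} ≤ piCoreOf {p} (θ a) := by
  have hθa := SignalizerMax.theta_mem_family hθ ha ha1
  have h1 : capP r p A θ a ⊓ centralizer {a} ≤ θ a := (capP_mem hA hA3 hθ ha).2.2.2 a ha ha1
  refine le_piCoreOf_of_hyperplane hA hA3 hθ hθa h1
    ((isPGroup_capP hA hA3 hθ ha).to_le inf_le_left) fun B hB hBr => ?_
  obtain ⟨B', hB', hB'r, haB', hle⟩ := exists_hyperplane_mem hA hA3 hθ ha hB hBr
  refine ⟨PB r p A θ B', isPGroup_PB hA hA3 hθ hB',
    inf_le_left.trans (capP_le hA hA3 hθ hB' hB'r haB'), ?_⟩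
  have h2 : θ a ⊓ centralizer (B : Set G) ≤ θ a ⊓ centralizer (B' : Set G) :=
    le_inf inf_le_left ((le_inf inf_le_right (inf_le_left.trans (hθ.1.1 a ha ha1))).trans hle)
  exact (h2.trans (inf_centralizer_le_signalizerInf hA hA3 hθ hθa hB')).trans (le_normalizer_pj _)

end base2

/-- **Step (1)**: `P_a = ⋂_{B ∋ a} P_B` if `P_a ≠ 1`. -/
theorem capP_le_pj (h : MinCounter r A θ) (hab : NoFixedC.{u} r {p} True) {a : G} (ha : a ∈ A)
    (ha1 : a ≠ 1) (hne : pj r p A θ (θ a) ≠ ⊥) : capP r p A θ a ≤ pj r p A θ (θ a) := by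
  have hA := h.elem
  have hA3 := h.card.ge
  have hθ := h.func
  have hcomm := comm_of_isElementaryAbelian hA
  set P := pj r p A θ (θ a) with hPdef
  set V := capP r p A θ a with hVdef
  have hPm : P ∈ Cfsg.signalizerFamily r A θ := pj_theta_mem hA hA3 hθ ha ha1
  have hPp : IsPGroup p P := isPGroup_pj_theta hA hA3 hθ ha ha1
  have hVm : V ∈ Cfsg.signalizerFamily r A θ := capP_mem hA hA3 hθ ha
  have hVp : IsPGroup p V := isPGroup_capP hA hA3 hθ ha
  have hPV : P ≤ V := pj_theta_le_capP hA hA3 hθ ha1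
  have hAP := le_normalizer_of_mem hPm
  have hAV := le_normalizer_of_mem hVm
  -- the local `K` of `P_a`
  set K := loc A θ P with hK
  have hKm : K ∈ Cfsg.signalizerFamily r A θ := MinCounter.loc_mem h hPm hne
  have hKP : K ≤ normalizer (P : Set G) := loc_le_normalizer P
  have hθK : θ a ≤ K := MinCounter.le_loc h (SignalizerMax.theta_mem_family hθ ha ha1)
    (le_normalizer_pj _)
  have hPK : P ≤ K := MinCounter.le_loc h hPm le_normalizer
  have hAK := le_normalizer_of_mem hKm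
  have hOP : piCoreOf {p} K = P := by
    apply le_antisymm
    · refine le_pj (RadicalBasic.piCoreOf_mem hKm _) ((isPi_singleton_iff hp.out _).mp
        (piCoreOf_isPi _ _)) (hθK.trans (le_normalizer_piCoreOf _ K))
    · exact le_piCoreOf hPK hKP (piNum_of_isPGroup hPp (Set.mem_singleton p))
  have hCV : V ⊓ centralizer {a} ≤ P := by
    refine (capP_inf_centralizer_le hA hA3 hθ ha ha1).trans ?_
    exact le_pj (RadicalBasic.piCoreOf_mem (SignalizerMax.theta_mem_family hθ ha ha1) _)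
      ((isPi_singleton_iff hp.out _).mp (piCoreOf_isPi _ _)) (le_normalizer_piCoreOf _ _)
  by_contra hcon
  -- `X = N_V(P)` and the centre of `X / P`
  set X := normalizer (P : Set G) ⊓ V with hX
  have hXP : ¬ X ≤ P := fun h1 => hcon (Blocks.SylowIn.eq_of_normalizer_inf_le hVp hPV h1).le
  have hPX : P ≤ X := le_inf le_normalizer hPV
  have hXp : IsPGroup p X := hVp.to_le inf_le_right
  have hAX : A ≤ normalizer (X : Set G) := by
    refine RadicalEnd.le_normalizer_inf' ?_ hAV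
    exact hAP.trans le_normalizer
  obtain ⟨z, hzX, hzP, hz⟩ := exists_mem_centre_mod hXp hPX inf_le_left (fun h1 => hXP h1.ge)
  set Z := X ⊓ actTriv P X with hZ
  have hzZ : z ∈ Z := ⟨hzX, mem_actTriv.mpr ⟨hzX.1, le_normalizer hzX, hz⟩⟩
  have hAZ : A ≤ normalizer (Z : Set G) := by
    apply le_normalizer_of_conj_mem
    intro b hb x hx
    exact ⟨conj_mem_of_le_normalizer hAX hb hx.1, conj_mem_actTriv hx.2 (hAP hb) (hAX hb)⟩
  have hZV : Z ≤ V := inf_le_left.trans inf_le_right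
  have hZm : Z ∈ Cfsg.signalizerFamily r A θ := mem_of_le hVm hZV hAZ
  have hZK : Z ≤ K := MinCounter.le_loc h hZm (inf_le_left.trans inf_le_left)
  have hcomm1 : ⁅Z, zpowers a⁆ ≤ piCoreOf {p} K := by
    refine general hab hKm.1 hKm.2.1 (hA.2 a ha) (hAK ha) hZK (hAZ ha)
      (piNum_of_isPGroup (hVp.to_le hZV) (Set.mem_singleton p)) (fun _ => ?_) ?_
    · rw [hOP, commutator_le]
      exact fun x hx y hy => (mem_actTriv.mp hx.2).2.2 y hy.1
    · intro N V' hNV hVK hKN hKV hY v hv hva x hx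
      have hAN : A ≤ normalizer (N : Set G) := hAK.trans hKN
      have hAV' : A ≤ normalizer (V' : Set G) := hAK.trans hKV
      have hV'N : V' ≤ normalizer (N : Set G) := hVK.trans (le_normalizer.trans hKN)
      have hACa : A ≤ normalizer ((centralizer {a} : Subgroup G) : Set G) := by
        refine HallFunctor.le_normalizer_centralizer_singleton fun b hb => ?_
        exact HallFunctor.le_centralizer_singleton hA hb ha
      have hgen : V' ⊓ centralizer {a} ≤ fixMod N Z := by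
        refine (le_iSup_hyperplane_mem hA hA3 hθ ha
          (fun hd => hKm.2.1 (hd.trans (card_dvd_of_le (inf_le_left.trans hVK))))
          (RadicalEnd.le_normalizer_inf' hAV' hACa) inf_le_right).trans (iSup_le fun B => ?_)
        intro w hw
        refine mem_fixMod.mpr ⟨hV'N hw.1.1, fun y hy => ?_⟩
        refine hY (V' ⊓ PB r p A θ B.1) inf_le_left ?_ ⟨?_, ?_⟩
        · exact PiNum.mono (Y := PB r p A θ B.1) (piNum_of_isPGroup (isPGroup_PB hA hA3 hθ B.2.1)
            (Set.mem_singleton p)) inf_le_right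
        · have h2 : y ∈ normalizer (V' : Set G) := hKV (le_normalizer (hZK hy))
          rw [commutatorElement_def]
          exact V'.mul_mem ((mem_normalizer_iff.mp h2 _).mp hw.1.1) (V'.inv_mem hw.1.1)
        · have h2 : w ∈ normalizer (PB r p A θ B.1 : Set G) :=
            le_normalizer_pj _ (inf_centralizer_le_signalizerInf hA hA3 hθ hKm B.2.1
              ⟨hVK hw.1.1, hw.2⟩)
          have h3 : y ∈ PB r p A θ B.1 := capP_le hA hA3 hθ B.2.1 B.2.2.1 B.2.2.2 (hZV hy)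
          have h4 : ⁅y, w⁆ = y * (w * y⁻¹ * w⁻¹) := by rw [commutatorElement_def]; group
          rw [h4]
          exact (PB r p A θ B.1).mul_mem h3 ((mem_normalizer_iff.mp h2 _).mp (inv_mem h3))
      exact (mem_fixMod.mp (hgen ⟨hv, hva⟩)).2 x hx
  rw [hOP] at hcomm1
  obtain ⟨m, hm, c, hc, rfl⟩ := Cfsg.Agent.Lib.CoprimeCommutator.exists_commutator_mul_fixed_of_isPGroup
    r (zpowers a) Z (LocalGlobal.isPGroup_zpowers_of_pow (hA.2 a ha)) (by
      rw [zpowers_le]; exact hAZ ha) hZm.2.1 z hzZ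
  apply hzP
  rw [LocalGlobal.centralizer_zpowers_eq] at hc
  exact P.mul_mem (hcomm1 hm) (hCV ⟨hZV hc.1, hc.2⟩)


/-- The radical `W_p = ⋂ P_B`, `B` a hyperplane of `A`. -/
def W (r p : ℕ) (A : Subgroup G) (θ : G → Subgroup G) : Subgroup G :=
  ⨅ B : {B : Subgroup G // B ≤ A ∧ B.relIndex A = r}, PB r p A θ (B : Subgroup G)

theorem W_le {B : Subgroup G} (hB : B ≤ A) (hBr : B.relIndex A = r) : W r p A θ ≤ PB r p A θ B :=
  iInf_le (fun B : {B : Subgroup G // B ≤ A ∧ B.relIndex A = r} => PB r p A θ (B : Subgroup G))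
    ⟨B, hB, hBr⟩

theorem A_le_normalizer_W : A ≤ normalizer (W r p A θ : Set G) :=
  le_normalizer_iInf _ fun _ => A_le_normalizer_pj _

section base3

variable (hA : Cfsg.IsElementaryAbelian r A) (hA3 : r ^ 3 ≤ Nat.card A)
  (hθ : Cfsg.IsSolvableSignalizerFunctor r A θ)

include hA hA3 hθ

theorem W_mem : W r p A θ ∈ Cfsg.signalizerFamily r A θ := by
  obtain ⟨L, hL, hLr⟩ := RadicalBasic.exists_hyperplane hA (ne_bot_of_pow_le three_ne_zero hA3)
  exact mem_of_le (PB_mem hA hA3 hθ hL) (W_le hL hLr) A_le_normalizer_W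

theorem isPGroup_W : IsPGroup p (W r p A θ) := by
  obtain ⟨L, hL, hLr⟩ := RadicalBasic.exists_hyperplane hA (ne_bot_of_pow_le three_ne_zero hA3)
  exact (isPGroup_PB hA hA3 hθ hL).to_le (W_le hL hLr)

/-- `W ∩ K ≤ O_p(K)` for all members `K`. -/
theorem W_inf_le {K : Subgroup G} (hK : K ∈ Cfsg.signalizerFamily r A θ) :
    W r p A θ ⊓ K ≤ piCoreOf {p} K := by
  refine le_piCoreOf_of_hyperplane hA hA3 hθ hK inf_le_right
    ((isPGroup_W hA hA3 hθ).to_le inf_le_left) fun B hB hBr => ?_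
  exact ⟨PB r p A θ B, isPGroup_PB hA hA3 hθ hB, inf_le_left.trans (W_le hB hBr),
    (inf_centralizer_le_signalizerInf hA hA3 hθ hK hB).trans (le_normalizer_pj _)⟩

theorem W_le_capP {a : G} : W r p A θ ≤ capP r p A θ a :=
  le_iInf fun B => W_le B.2.1 B.2.2.1

/-- `W_p` and `W_q` commute. -/
theorem W_le_centralizer {q : ℕ} [hq : Fact q.Prime] (hpq : p ≠ q) :
    W r p A θ ≤ centralizer (W r q A θ : Set G) := by
  have hA1 := ne_bot_of_pow_le three_ne_zero hA3
  have hgen : ∀ {t : ℕ} [Fact t.Prime], W r t A θ ≤ ⨆ B : {B : Subgroup G // B ≤ A ∧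
      B.relIndex A = r}, W r t A θ ⊓ centralizer ((B : Subgroup G) : Set G) := by
    intro t _
    exact (Cfsg.Agent.Lib.CoprimeHyperplane.iSup_centralizer_hyperplane hA hA1
      (W_mem hA hA3 hθ).2.1 A_le_normalizer_W).ge
  refine hgen.trans (iSup_le fun B => ?_)
  rw [le_centralizer_iff]
  refine hgen.trans (iSup_le fun D => ?_)
  rw [le_centralizer_iff]
  obtain ⟨x, hxB, hxD, hx1⟩ := RadicalBasic.exists_mem_inf hA hA3 B.2.1 B.2.2 D.2.1 D.2.2
  have hxA := B.2.1 hxB
  have hθx := SignalizerMax.theta_mem_family hθ hxA hx1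
  have h1 : W r p A θ ⊓ centralizer ((B : Subgroup G) : Set G) ≤ Op p (θ x) := by
    rw [Op_eq_piCoreOf hp.out]
    refine le_trans (le_inf inf_le_left ?_) (W_inf_le hA hA3 hθ hθx)
    exact (inf_le_inf_left _ (centralizer_le (by simpa using hxB))).trans
      ((W_mem hA hA3 hθ).2.2.2 x hxA hx1)
  have h2 : W r q A θ ⊓ centralizer ((D : Subgroup G) : Set G) ≤ Op q (θ x) := by
    rw [Op_eq_piCoreOf hq.out]
    refine le_trans (le_inf inf_le_left ?_) (W_inf_le hA hA3 hθ hθx)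
    exact (inf_le_inf_left _ (centralizer_le (by simpa using hxD))).trans
      ((W_mem hA hA3 hθ).2.2.2 x hxA hx1)
  have h3 : Op p (θ x) ≤ centralizer (Op q (θ x) : Set G) := by
    refine (Op_le_Opp hpq).trans ?_
    exact Opp_le_centralizer_Op
  exact (h1.trans h3).trans (centralizer_le h2)

/-- Step (4): `⁅P_a, a⁆ ≤ W_p`. -/
theorem commutator_le_W (hNF : NoFixedC.{u} r {p} False) {a : G} (ha : a ∈ A) (ha1 : a ≠ 1) :
    ⁅pj r p A θ (θ a), zpowers a⁆ ≤ W r p A θ := by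
  have haA : zpowers a ≤ A := by rwa [zpowers_le]
  have hPm : pj r p A θ (θ a) ∈ Cfsg.signalizerFamily r A θ := pj_theta_mem hA hA3 hθ ha ha1
  have hPp : IsPGroup p (pj r p A θ (θ a)) := isPGroup_pj_theta hA hA3 hθ ha ha1
  refine (commutator_le_iSup_hyperplane hA (ne_bot_of_pow_le three_ne_zero hA3) haA hPm.1 hPm.2.1
    (le_normalizer_of_mem hPm)).trans (iSup_le fun D => ?_)
  refine le_iInf fun B => ?_
  obtain ⟨d, hdD, hdB, hd1⟩ := RadicalBasic.exists_mem_inf hA hA3 D.2.1 D.2.2 B.2.1 B.2.2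
  have hdA := D.2.1 hdD
  have hθd := SignalizerMax.theta_mem_family hθ hdA hd1
  set X := pj r p A θ (θ a) ⊓ centralizer {d} with hX
  have hXθ : X ≤ θ d := hPm.2.2.2 d hdA hd1
  have hXp : IsPGroup p X := hPp.to_le inf_le_left
  have h1 : ⁅X, zpowers a⁆ ≤ piCoreOf {p} (θ d) := by
    refine general hNF hθd.1 hθd.2.1 (hA.2 a ha) (le_normalizer_of_mem hθd ha) hXθ ?_
      (piNum_of_isPGroup hXp (Set.mem_singleton p)) (fun hf => hf.elim) ?_
    · refine HallFunctor.le_normalizer_inf (le_normalizer_of_mem hPm)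
        (HallFunctor.le_normalizer_centralizer_singleton fun b hb =>
          HallFunctor.le_centralizer_singleton hA hb hdA) ha
    · intro N V hNV hVK hKN hKV hY v hv hva x hx
      have hvθd := hVK hv
      have hvθa : v ∈ θ a := hθ.1.2.2.2 d hdA hd1 a ha ha1 ⟨hvθd, hva⟩
      refine hY (V ⊓ pj r p A θ (θ a)) inf_le_left ?_ ⟨?_, ?_⟩
      · exact PiNum.mono (Y := pj r p A θ (θ a)) (piNum_of_isPGroup hPp (Set.mem_singleton p))
          inf_le_right
      · have h2 : x ∈ normalizer (V : Set G) := hKV (le_normalizer (hXθ hx))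
        rw [commutatorElement_def]
        exact V.mul_mem ((mem_normalizer_iff.mp h2 _).mp hv) (V.inv_mem hv)
      · have h2 : v ∈ normalizer (pj r p A θ (θ a) : Set G) := le_normalizer_pj _ hvθa
        have h4 : ⁅x, v⁆ = x * (v * x⁻¹ * v⁻¹) := by rw [commutatorElement_def]; group
        rw [h4]
        exact (pj r p A θ (θ a)).mul_mem hx.1 ((mem_normalizer_iff.mp h2 _).mp (inv_mem hx.1))
  have h2 : piCoreOf {p} (θ d) ≤ pj r p A θ (θ d) :=
    le_pj (RadicalBasic.piCoreOf_mem hθd _) ((isPi_singleton_iff hp.out _).mp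
      (piCoreOf_isPi _ _)) (le_normalizer_piCoreOf _ _)
  refine le_trans (commutator_mono ?_ le_rfl) ((h1.trans h2).trans
    (pj_theta_le_PB hA hA3 hθ hd1 hdB))
  exact inf_le_inf_left _ (centralizer_le (by simpa using hdD))

end base3

/-- Step (2): if `P_x ≠ 1` for all `1 ≠ x ∈ L`, `θ(L)` normalises `W_p`. -/
theorem signalizerInf_le_normalizer_W (h : MinCounter r A θ) (hab : NoFixedC.{u} r {p} True)
    {L : Subgroup G} (hL : L ≤ A) (hLr : L.relIndex A = r)
    (hne : ∀ x ∈ L, x ≠ 1 → pj r p A θ (θ x) ≠ ⊥) :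
    Cfsg.signalizerInf L θ ≤ normalizer (W r p A θ : Set G) := by
  have hA := h.elem
  have hA3 := h.card.ge
  have hθ := h.func
  have heq : W r p A θ = ⨅ x : {x : G // x ∈ L ∧ x ≠ 1}, pj r p A θ (θ (x : G)) := by
    apply le_antisymm
    · exact le_iInf fun x => (W_le_capP hA hA3 hθ).trans
        (capP_le_pj h hab (hL x.2.1) x.2.2 (hne x x.2.1 x.2.2))
    · refine le_iInf fun B => ?_
      obtain ⟨x, hxL, hxB, hx1⟩ := RadicalBasic.exists_mem_inf hA hA3 hL hLr B.2.1 B.2.2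
      exact (iInf_le (fun x : {x : G // x ∈ L ∧ x ≠ 1} => pj r p A θ (θ (x : G)))
        ⟨x, hxL, hx1⟩).trans (pj_theta_le_PB hA hA3 hθ hx1 hxB)
  rw [heq]
  exact le_normalizer_iInf _ fun x => (signalizerInf_le x.2.1 x.2.2).trans (le_normalizer_pj _)

/-- If `W_p ≠ 1` some `P_x` is trivial. -/
theorem exists_pj_eq_bot (h : MinCounter r A θ) (hab : NoFixedC.{u} r {p} True)
    (hW : W r p A θ ≠ ⊥) : ∃ x ∈ A, x ≠ 1 ∧ pj r p A θ (θ x) = ⊥ := by
  by_contra hcon
  push Not at hcon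
  exact PermTriple.MinCounter.false_of_le_normalizer h (W_mem h.elem h.card.ge h.func) hW
    fun B hB hBr => signalizerInf_le_normalizer_W h hab hB hBr fun x hx hx1 => hcon x (hB hx) hx1

end step


end Cfsg.Agent.SignalizersComponents.ThetaRadical
end
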