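import Mathlib
import Cfsg.Prelude.Def_Local
import Cfsg.Prelude.Def_Balance
import Cfsg.Agent.Lib.Cores
import Cfsg.Agent.Lib.ThompsonPQ
import Cfsg.Agent.Lib.CoprimeCommutator
import Cfsg.Agent.S1270
import Cfsg.Agent.SignalizersComponents.CoreOfCentralizer
import Cfsg.Agent.SignalizersComponents.Components
import Cfsg.Agent.SignalizersComponents.ComponentExists
import Cfsg.Agent.SignalizersComponents.CompBasic
set_option linter.all false

/-!
Auxiliary lemmas for local balance: the action of `O_{p'}(C_X(a))` on `O_p(X)` and on the components of `X`.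
-/

set_option autoImplicit false

namespace Cfsg.Agent.SignalizersComponents.BalanceAux

open Cfsg Subgroup

/-! ### Elementary facts -/

theorem mem_of_pow_mem_of_coprime {G : Type*} [Group G] {H : Subgroup G} {t : G} {m n : ℕ}
    (hc : Nat.Coprime m n) (h1 : t ^ m ∈ H) (h2 : t ^ n ∈ H) : t ∈ H := by
  have h : t = (t ^ m) ^ (Nat.gcdA m n) * (t ^ n) ^ (Nat.gcdB m n) := by
    have hb : (1 : ℤ) = m * Nat.gcdA m n + n * Nat.gcdB m n := by
      have := Nat.gcd_eq_gcd_ab m n
      rw [hc.gcd_eq_one] at this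
      exact_mod_cast this
    calc t = t ^ (1 : ℤ) := (zpow_one t).symm
      _ = t ^ ((m : ℤ) * Nat.gcdA m n + n * Nat.gcdB m n) := by rw [← hb]
      _ = _ := by rw [zpow_add, zpow_mul, zpow_mul, zpow_natCast, zpow_natCast]
  rw [h]
  exact H.mul_mem (H.zpow_mem h1 _) (H.zpow_mem h2 _)

theorem le_centralizerPPrimeCore {G : Type*} [Group G] {p : ℕ} {x : G} {M : Subgroup G}
    (h1 : M ≤ centralizer ({x} : Set G)) (h2 : (Nat.card M).Coprime p)
    (h3 : centralizer ({x} : Set G) ≤ normalizer (M : Set G)) :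
    M ≤ centralizerPPrimeCore p x := by
  have hn : (M.subgroupOf (centralizer ({x} : Set G))).Normal := by
    constructor
    intro m hm g
    rw [mem_subgroupOf] at hm ⊢
    exact (mem_normalizer_iff.mp (h3 g.2) m).mp hm
  have hc : (Nat.card (M.subgroupOf (centralizer ({x} : Set G)))).Coprime p := by
    rw [Nat.card_congr (subgroupOfEquivOfLe h1).toEquiv]
    exact h2
  have h4 := Lib.Cores.le_pPrimeCore hn hc
  intro m hm
  exact ⟨⟨m, h1 hm⟩, h4 (mem_subgroupOf.mpr hm), rfl⟩

theorem isPGroup_zpowers_of_orderOf {G : Type*} [Group G] {p : ℕ} [Fact p.Prime] {a : G}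
    (ha : orderOf a = p) : IsPGroup p (zpowers a) := by
  apply IsPGroup.of_card (n := 1)
  rw [Nat.card_zpowers, ha, pow_one]

/-- `O_{p'}(C_X(a))` centralizes `O_p(X)`, for an element `a` of order `p`. -/
theorem core_le_centralizer_pCore {X : Type*} [Group X] [Finite X] (p : ℕ) [Fact p.Prime] (a : X)
    (ha : orderOf a = p) :
    centralizerPPrimeCore p a ≤ centralizer (pCore p X : Set X) := by
  have hW := CoreOfCentralizer.card_centralizerPPrimeCore_coprime p a
  have hWa := CoreOfCentralizer.centralizerPPrimeCore_le p a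
  have hWn := CoreOfCentralizer.centralizer_le_normalizer_centralizerPPrimeCore p a
  have hcore : IsPGroup p (pCore p X) := Lib.Cores.pCore_isPGroup p
  apply Lib.ThompsonPQ.thompson_p_times_q p (zpowers a) _ (pCore p X)
    (isPGroup_zpowers_of_orderOf ha) hW hcore
  · rw [zpowers_le, mem_centralizer_iff]
    intro w hw
    exact (mem_centralizer_singleton_iff.mp (hWa hw))
  · exact le_normalizer_of_normal
  · exact le_normalizer_of_normal
  · rintro u ⟨hu1, hu2⟩
    have hua : u ∈ centralizer ({a} : Set X) := by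
      rw [mem_centralizer_singleton_iff]
      exact (mem_centralizer_iff.mp hu2 a (mem_zpowers a)).symm
    rw [mem_centralizer_iff]
    intro w hw
    have h1 : u * w * u⁻¹ ∈ centralizerPPrimeCore p a :=
      (mem_normalizer_iff.mp (hWn hua) w).mp hw
    have h2 : w⁻¹ * (u * w * u⁻¹) ∈ centralizerPPrimeCore p a := mul_mem (inv_mem hw) h1
    have h3 : w⁻¹ * (u * w * u⁻¹) ∈ pCore p X := by
      have h4 : w⁻¹ * u * w ∈ pCore p X := by
        have := (Lib.Cores.pCore_normal p (G := X)).conj_mem u hu1 w⁻¹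
        simpa using this
      have h5 := (pCore p X).mul_mem h4 ((pCore p X).inv_mem hu1)
      have e : w⁻¹ * u * w * u⁻¹ = w⁻¹ * (u * w * u⁻¹) := by group
      rwa [e] at h5
    have hinf : centralizerPPrimeCore p a ⊓ pCore p X = ⊥ := by
      obtain ⟨n, hn'⟩ := IsPGroup.iff_card.mp hcore
      apply Disjoint.eq_bot
      apply Subgroup.disjoint_of_coprime_natCard
      rw [hn']
      exact Nat.Coprime.pow_right n hW
    have h6 : w⁻¹ * (u * w * u⁻¹) ∈ centralizerPPrimeCore p a ⊓ pCore p X := ⟨h2, h3⟩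
    rw [hinf, mem_bot] at h6
    have h7 : u * w * u⁻¹ = w := (inv_mul_eq_one.mp h6).symm
    calc w * u = (u * w * u⁻¹) * u := by rw [h7]
      _ = u * w := by group

/-- If `O_{p'}(X) = 1` then `F(X) = O_p(X)`. -/
theorem fitting_eq_pCore {X : Type*} [Group X] [Finite X] (p : ℕ) [Fact p.Prime]
    (hO : pPrimeCore p X = ⊥) : fittingSubgroup X = pCore p X := by
  apply le_antisymm
  · rw [Lib.Cores.fittingSubgroup_eq_iSup_pCore]
    refine iSup_le fun q => ?_
    have : Fact (q : ℕ).Prime := ⟨q.2⟩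
    by_cases hq : (q : ℕ) = p
    · rw [hq]
    · have h1 : pCore (q : ℕ) X ≤ pPrimeCore p X := by
        apply Lib.Cores.le_pPrimeCore (Lib.Cores.pCore_normal _)
        obtain ⟨n, hn⟩ := IsPGroup.iff_card.mp (Lib.Cores.pCore_isPGroup (G := X) (q : ℕ))
        rw [hn]
        exact Nat.Coprime.pow_left n ((Nat.coprime_primes q.2 Fact.out).mpr hq)
      rw [hO] at h1
      exact h1.trans bot_le
  · exact Lib.Cores.pCore_le_fittingSubgroup p

/-- The centre of a component lies in `O_p(X)` when `O_{p'}(X) = 1`. -/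
theorem center_component_le_pCore {X : Type*} [Group X] [Finite X] (p : ℕ) [Fact p.Prime]
    (hO : pPrimeCore p X = ⊥) {K : Subgroup X} (hK : IsComponent K) :
    K ⊓ centralizer (K : Set X) ≤ pCore p X := by
  rw [← fitting_eq_pCore p hO]
  have h1 : K ⊓ centralizer (K : Set X) = (center K).map K.subtype := by
    ext x
    constructor
    · rintro ⟨hx, hx'⟩
      exact ⟨⟨x, hx⟩, mem_center_iff.mpr fun y => Subtype.ext (mem_centralizer_iff.mp hx' y y.2),
        rfl⟩
    · rintro ⟨y, hy, rfl⟩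
      refine ⟨y.2, mem_centralizer_iff.mpr fun z hz => ?_⟩
      exact congrArg Subtype.val (mem_center_iff.mp hy ⟨z, hz⟩)
  have hsub : (K ⊓ centralizer (K : Set X)).IsSubnormal := by
    rw [h1]
    exact IsSubnormal.trans' (Normal.isSubnormal inferInstance) hK.1
  have hsolv : Group.IsSolvable ↥(K ⊓ centralizer (K : Set X)) := by
    have hcomm : ∀ x y : ↥(K ⊓ centralizer (K : Set X)), x * y = y * x := by
      rintro ⟨x, hx⟩ ⟨y, hy⟩
      exact Subtype.ext (mem_centralizer_iff.mp hy.2 x hx.1)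
    exact Group.isSolvable_of_comm hcomm
  apply ComponentExists.le_fitting_of_isSubnormal_of_isSolvable hsub hsolv
  exact inf_le_left.trans ((Components.component_le_layer hK).trans
    Components.layer_le_centralizer_fitting)

/-- A component of a finite group with `O_{p'}(X) = 1` has order divisible by `p`. -/
theorem dvd_card_component {X : Type*} [Group X] [Finite X] (p : ℕ) [hp : Fact p.Prime]
    (hO : pPrimeCore p X = ⊥) {K : Subgroup X} (hK : IsComponent K) : p ∣ Nat.card K := by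
  by_contra h
  have h1 : (Nat.card K).Coprime p := ((hp.out.coprime_iff_not_dvd).mpr h).symm
  have h2 := CompBasic.subnormal_coprime_le_pPrimeCore hK.1 h1
  rw [hO, le_bot_iff] at h2
  exact Components.component_ne_bot hK h2

theorem mem_normalizer_of_map_conj_eq {G : Type*} [Group G] {K : Subgroup G} {d : G}
    (h : K.map (MulAut.conj d).toMonoidHom = K) : d ∈ normalizer (K : Set G) := by
  rw [mem_normalizer_iff]
  intro x
  constructor
  · intro hx
    rw [← h]
    exact ⟨x, hx, rfl⟩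
  · intro hx
    rw [← h] at hx
    obtain ⟨y, hy, hxy⟩ := hx
    have h1 : y = x := (MulAut.conj d).injective hxy
    rw [← h1]
    exact hy

/-- If `[K, ⟨a⟩] = K` then `a` normalizes `K`. -/
theorem mem_normalizer_of_commutator_eq {G : Type*} [Group G] {K : Subgroup G} {a : G}
    (h : ⁅K, zpowers a⁆ = K) : a ∈ normalizer (K : Set G) := by
  have h1 : zpowers a ≤ normalizer ((⁅K, zpowers a⁆ : Subgroup G) : Set G) :=
    Lib.CoprimeCommutator.right_le_normalizer_commutator K (zpowers a)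
  rw [h] at h1
  exact h1 (mem_zpowers a)

/-- A `p'`-subgroup centralizing `O_p(X)` and all components is trivial, when `O_{p'}(X) = 1`. -/
theorem eq_bot_of_le_centralizer_components {X : Type*} [Group X] [Finite X] (p : ℕ)
    [Fact p.Prime] (hO : pPrimeCore p X = ⊥) (D : Subgroup X) (hD : (Nat.card D).Coprime p)
    (h1 : D ≤ centralizer (pCore p X : Set X))
    (h2 : ∀ K : Subgroup X, IsComponent K → D ≤ centralizer (K : Set X)) : D = ⊥ := by
  have hF := fitting_eq_pCore p hO
  let C : Subgroup X := centralizer ((layer X ⊔ fittingSubgroup X : Subgroup X) : Set X)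
  have hLn : (layer X).Normal := Components.layer_normal X
  have : (layer X ⊔ fittingSubgroup X).Normal := inferInstance
  have hCn : C.Normal := inferInstanceAs
    ((centralizer ((layer X ⊔ fittingSubgroup X : Subgroup X) : Set X)).Normal)
  have hCF : C ≤ centralizer (fittingSubgroup X : Set X) :=
    centralizer_le (SetLike.coe_subset_coe.mpr le_sup_right)
  have hCL : C ≤ centralizer (layer X : Set X) :=
    centralizer_le (SetLike.coe_subset_coe.mpr le_sup_left)
  have hCs : Group.IsSolvable C := by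
    by_contra hns
    obtain ⟨K, hK, hKC⟩ := ComponentExists.exists_isComponent_le hCn.isSubnormal hns hCF
    have hKL := Components.component_le_layer hK
    apply Components.quasisimple_not_isMulCommutative hK.2
    refine ⟨⟨fun x y => Subtype.ext ?_⟩⟩
    exact (mem_centralizer_iff.mp (hCL (hKC y.2)) x (hKL x.2))
  have hCle : C ≤ fittingSubgroup X :=
    ComponentExists.le_fitting_of_isSubnormal_of_isSolvable hCn.isSubnormal hCs hCF
  have hDC : D ≤ C := by
    have hL : D ≤ centralizer (layer X : Set X) := by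
      rw [le_centralizer_iff]
      rw [Components.layer_le_iff]
      intro K hK
      rw [le_centralizer_iff]
      exact h2 K hK
    have hF' : D ≤ centralizer (fittingSubgroup X : Set X) := by rw [hF]; exact h1
    rw [le_centralizer_iff] at hL hF'
    show D ≤ centralizer ((layer X ⊔ fittingSubgroup X : Subgroup X) : Set X)
    rw [le_centralizer_iff]
    exact sup_le hL hF'
  have hDp : D ≤ pCore p X := by rw [← hF]; exact hDC.trans hCle
  have hcore : IsPGroup p (pCore p X) := Lib.Cores.pCore_isPGroup p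
  have hinf : D ⊓ pCore p X = ⊥ := by
    obtain ⟨n, hn'⟩ := IsPGroup.iff_card.mp hcore
    apply Disjoint.eq_bot
    apply Subgroup.disjoint_of_coprime_natCard
    rw [hn']
    exact Nat.Coprime.pow_right n hD
  rw [← hinf]
  exact (inf_eq_left.mpr hDp).symm

/-- `O_{p'}(C_X(a))` normalizes every component of `X` if `O_{p'}(X) = 1` and `a` has order `p`. -/
theorem core_le_normalizer_component {X : Type*} [Group X] [Finite X] (p : ℕ) [hp : Fact p.Prime]
    (hO : pPrimeCore p X = ⊥) (a : X) (ha : orderOf a = p) (K : Subgroup X)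
    (hK : IsComponent K) : centralizerPPrimeCore p a ≤ normalizer (K : Set X) := by
  by_cases hKa : ⁅K, zpowers a⁆ = K
  swap
  · have h1 := Cfsg.Agent.S1270.result p hO a ha K hK hKa
    rw [commutator_comm, commutator_eq_bot_iff_le_centralizer] at h1
    exact h1.trans (centralizer_le_normalizer _)
  have haK := mem_normalizer_of_commutator_eq hKa
  have hW := CoreOfCentralizer.card_centralizerPPrimeCore_coprime p a
  have hWa := CoreOfCentralizer.centralizerPPrimeCore_le p a
  have hWn := CoreOfCentralizer.centralizer_le_normalizer_centralizerPPrimeCore p a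
  have hWF := core_le_centralizer_pCore p a ha
  let τ : MulAut K := K.normalizerMonoidHom ⟨a, haK⟩
  have hτ : τ ^ p ^ 1 = 1 := by
    have h1 : (⟨a, haK⟩ : normalizer (K : Set X)) ^ p = 1 :=
      Subtype.ext (by rw [← ha]; exact pow_orderOf_eq_one a)
    rw [pow_one, ← map_pow, h1, map_one]
  obtain ⟨t, htc, ⟨n, htn⟩, hz, -⟩ :=
    CompBasic.exists_almost_fixed hK.2.1 p (dvd_card_component p hO hK) τ hτ
  have hτt : ((τ t : K) : X) = a * t * a⁻¹ := rfl
  obtain ⟨z, hzdef⟩ : ∃ z : X, z = (t : X)⁻¹ * (a * t * a⁻¹) := ⟨_, rfl⟩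
  have hat : a * (t : X) * a⁻¹ = t * z := by rw [hzdef]; group
  have hzZ : z ∈ K ⊓ centralizer (K : Set X) := by
    have h1 : z = ((t⁻¹ * τ t : K) : X) := by rw [hzdef, ← hτt]; rfl
    rw [h1]
    refine ⟨(t⁻¹ * τ t).2, mem_centralizer_iff.mpr fun k hk => ?_⟩
    exact congrArg Subtype.val (mem_center_iff.mp hz ⟨k, hk⟩)
  have hzF : z ∈ pCore p X := center_component_le_pCore p hO hK hzZ
  have htK : (t : X) ∉ centralizer (K : Set X) := by
    intro h
    apply htc
    rw [mem_center_iff]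
    intro k
    exact Subtype.ext (mem_centralizer_iff.mp h k k.2)
  have htn' : (t : X) ^ p ^ n = 1 := by
    have := congrArg Subtype.val htn
    simpa using this
  intro d hd
  by_contra hdn
  -- the conjugates of `K`
  have hdz : d * z = z * d := (mem_centralizer_iff.mp (hWF hd) z hzF).symm
  have hda : d * a = a * d := (mem_centralizer_singleton_iff.mp (hWa hd))
  obtain ⟨K1, hK1⟩ : ∃ K1 : Subgroup X, K1 = K.map (MulAut.conj d).toMonoidHom := ⟨_, rfl⟩
  obtain ⟨K2, hK2⟩ : ∃ K2 : Subgroup X, K2 = K1.map (MulAut.conj d).toMonoidHom := ⟨_, rfl⟩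
  have hcK1 : IsComponent K1 := hK1 ▸ Components.isComponent_conj d hK
  have hcK2 : IsComponent K2 := hK2 ▸ Components.isComponent_conj d hcK1
  have hne1 : K1 ≠ K := by
    intro h
    apply hdn
    exact mem_normalizer_of_map_conj_eq (hK1 ▸ h)
  have hne2 : K2 ≠ K1 := by
    intro h
    apply hne1
    have h1 : K1.map (MulAut.conj d).toMonoidHom = K.map (MulAut.conj d).toMonoidHom := by
      rw [← hK2, ← hK1, h]
    exact map_injective (MulAut.conj d).injective h1
  obtain ⟨t1, ht1⟩ : ∃ t1 : X, t1 = d * t * d⁻¹ := ⟨_, rfl⟩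
  obtain ⟨t2, ht2⟩ : ∃ t2 : X, t2 = d * t1 * d⁻¹ := ⟨_, rfl⟩
  have ht1K : t1 ∈ K1 := by rw [hK1, ht1]; exact ⟨t, t.2, rfl⟩
  have ht2K : t2 ∈ K2 := by rw [hK2, ht2]; exact ⟨t1, ht1K, rfl⟩
  have hzt : z * (t : X) = t * z := (mem_centralizer_iff.mp hzZ.2 t t.2).symm
  have hzt1 : z * t1 = t1 * z := by
    have h1 : d * z * d⁻¹ = z := by rw [hdz]; group
    calc z * t1 = (d * z * d⁻¹) * (d * t * d⁻¹) := by rw [h1, ht1]
      _ = d * (z * t) * d⁻¹ := by group
      _ = d * (t * z) * d⁻¹ := by rw [hzt]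
      _ = (d * t * d⁻¹) * (d * z * d⁻¹) := by group
      _ = t1 * z := by rw [h1, ht1]
  have hat1 : a * t1 * a⁻¹ = t1 * z := by
    have hda' : a * d * a⁻¹ = d := by rw [← hda]; group
    calc a * t1 * a⁻¹ = (a * d * a⁻¹) * (a * t * a⁻¹) * (a * d * a⁻¹)⁻¹ := by rw [ht1]; group
      _ = d * (t * z) * d⁻¹ := by rw [hda', hat]
      _ = (d * t * d⁻¹) * (d * z * d⁻¹) := by group
      _ = t1 * z := by rw [hdz, ht1]; group
  -- `u = t⁻¹ t1` is centralized by `a`
  have hu : (t : X)⁻¹ * t1 ∈ centralizer ({a} : Set X) := by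
    rw [mem_centralizer_singleton_iff]
    have h1 : a * ((t : X)⁻¹ * t1) * a⁻¹ = (t : X)⁻¹ * t1 := by
      calc a * ((t : X)⁻¹ * t1) * a⁻¹ = (a * t * a⁻¹)⁻¹ * (a * t1 * a⁻¹) := by group
        _ = (t * z)⁻¹ * (t1 * z) := by rw [hat, hat1]
        _ = (t * z)⁻¹ * (z * t1) := by rw [hzt1]
        _ = (z * t)⁻¹ * (z * t1) := by rw [hzt]
        _ = (t : X)⁻¹ * t1 := by group
    calc (t : X)⁻¹ * t1 * a = (a * ((t : X)⁻¹ * t1) * a⁻¹) * a := by rw [h1]
      _ = a * ((t : X)⁻¹ * t1) := by group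
  -- the commutator `v`
  obtain ⟨v, hvdef⟩ : ∃ v : X, v = t1⁻¹ * t * (t1⁻¹ * t2) := ⟨_, rfl⟩
  have hv : v ∈ centralizerPPrimeCore p a := by
    have h1 : ((t : X)⁻¹ * t1)⁻¹ * d * ((t : X)⁻¹ * t1)⁻¹⁻¹ ∈ centralizerPPrimeCore p a :=
      (mem_normalizer_iff.mp (hWn (inv_mem hu)) d).mp hd
    have h2 := mul_mem h1 (inv_mem hd)
    have h3 : ((t : X)⁻¹ * t1)⁻¹ * d * ((t : X)⁻¹ * t1)⁻¹⁻¹ * d⁻¹ = v := by
      calc ((t : X)⁻¹ * t1)⁻¹ * d * ((t : X)⁻¹ * t1)⁻¹⁻¹ * d⁻¹
          = t1⁻¹ * t * ((d * t * d⁻¹)⁻¹ * (d * t1 * d⁻¹)) := by group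
        _ = v := by rw [← ht1, ← ht2, hvdef]
    rwa [h3] at h2
  have hvm : v ^ Nat.card (centralizerPPrimeCore p a) = 1 := by
    have h1 := pow_card_eq_one' (x := (⟨v, hv⟩ : centralizerPPrimeCore p a))
    exact congrArg Subtype.val h1
  have hdm : d ^ Nat.card (centralizerPPrimeCore p a) = 1 := by
    have h1 := pow_card_eq_one' (x := (⟨d, hd⟩ : centralizerPPrimeCore p a))
    exact congrArg Subtype.val h1
  have hmp := hW
  generalize Nat.card (centralizerPPrimeCore p a) = m at hvm hmp hdm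
  have hcomm1 : ∀ x ∈ K1, ∀ y ∈ K, x * y = y * x := fun x hx y hy =>
    (mem_centralizer_iff.mp (Components.component_le_centralizer_of_ne hcK1 hK hne1 hx) y hy).symm
  have hcomm2 : ∀ x ∈ K2, ∀ y ∈ K1, x * y = y * x := fun x hx y hy =>
    (mem_centralizer_iff.mp (Components.component_le_centralizer_of_ne hcK2 hcK1 hne2 hx) y hy).symm
  by_cases hne3 : K2 = K
  · -- `d²` normalizes `K`, so `p` is odd
    have hd2 : d ^ 2 ∈ normalizer (K : Set X) := by
      apply mem_normalizer_of_map_conj_eq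
      have h1 : (MulAut.conj (d ^ 2)).toMonoidHom =
          (MulAut.conj d).toMonoidHom.comp (MulAut.conj d).toMonoidHom := by
        ext x
        simp [pow_two, mul_assoc]
      rw [h1, ← map_map, ← hK1, ← hK2, hne3]
    have hp2 : p ≠ 2 := by
      intro hp2
      apply hdn
      rw [hp2] at hmp
      exact mem_of_pow_mem_of_coprime hmp.symm hd2 (hdm ▸ one_mem _)
    have ht2K' : t2 ∈ K := hne3 ▸ ht2K
    have ht1t : t1 * t = t * t1 := hcomm1 t1 ht1K t t.2
    have ht1t2 : t1 * t2 = t2 * t1 := hcomm1 t1 ht1K t2 ht2K'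
    have hveq : v = (t1⁻¹ * t1⁻¹) * (t * t2) := by
      have h1 : (t : X) * t1⁻¹ = t1⁻¹ * t := by
        rw [mul_inv_eq_iff_eq_mul, mul_assoc, ← ht1t]; group
      rw [hvdef]
      calc t1⁻¹ * t * (t1⁻¹ * t2) = t1⁻¹ * (t * t1⁻¹) * t2 := by group
        _ = t1⁻¹ * (t1⁻¹ * t) * t2 := by rw [h1]
        _ = _ := by group
    have hcm : Commute t1 (t * t2) := Commute.mul_right ht1t ht1t2
    have hcm2 : Commute (t1⁻¹ * t1⁻¹) (t * t2) :=
      Commute.mul_left hcm.inv_left hcm.inv_left
    have h3 : t1 ^ (2 * m) = (t * t2) ^ m := by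
      have h4 := hvm
      rw [hveq, hcm2.mul_pow] at h4
      have h5 : (t1⁻¹ * t1⁻¹) ^ m = (t1 ^ (2 * m))⁻¹ := by
        rw [pow_mul, pow_two, ← mul_inv_rev, inv_pow]
      rw [h5, inv_mul_eq_one] at h4
      exact h4
    have h6 : (t : X) ^ (2 * m) ∈ centralizer (K : Set X) := by
      rw [mem_centralizer_iff]
      intro k hk
      have hk1 : d * k * d⁻¹ ∈ K1 := by rw [hK1]; exact ⟨k, hk, rfl⟩
      have h7 : (d * k * d⁻¹) * t1 ^ (2 * m) = t1 ^ (2 * m) * (d * k * d⁻¹) := by
        rw [h3]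
        exact hcomm1 _ hk1 _ (K.pow_mem (K.mul_mem t.2 ht2K') m)
      have h8 : t1 ^ (2 * m) = d * (t : X) ^ (2 * m) * d⁻¹ := by
        rw [ht1, conj_pow]
      rw [h8] at h7
      have h9 : d * (k * (t : X) ^ (2 * m)) * d⁻¹ = d * ((t : X) ^ (2 * m) * k) * d⁻¹ := by
        calc d * (k * (t : X) ^ (2 * m)) * d⁻¹
            = (d * k * d⁻¹) * (d * (t : X) ^ (2 * m) * d⁻¹) := by group
          _ = (d * (t : X) ^ (2 * m) * d⁻¹) * (d * k * d⁻¹) := h7
          _ = d * ((t : X) ^ (2 * m) * k) * d⁻¹ := by group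
      exact mul_left_cancel (mul_right_cancel h9)
    apply htK
    refine mem_of_pow_mem_of_coprime (m := 2 * m) (n := p ^ n) ?_ h6 (htn' ▸ one_mem _)
    apply Nat.Coprime.pow_right
    apply Nat.Coprime.mul_left
    · exact (Nat.coprime_primes Nat.prime_two hp.out).mpr hp2.symm
    · exact hmp
  · have hcomm3 : ∀ x ∈ K2, ∀ y ∈ K, x * y = y * x := fun x hx y hy =>
      (mem_centralizer_iff.mp (Components.component_le_centralizer_of_ne hcK2 hK hne3 hx) y hy).symm
    have ht1t : t1 * t = t * t1 := hcomm1 t1 ht1K t t.2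
    have hveq : v = t * (t1⁻¹ * (t1⁻¹ * t2)) := by
      have h1 : (t : X) * t1⁻¹ = t1⁻¹ * t := by
        rw [mul_inv_eq_iff_eq_mul, mul_assoc, ← ht1t]; group
      rw [hvdef, ← h1]
      group
    have hc : t1⁻¹ * (t1⁻¹ * t2) ∈ centralizer (K : Set X) := by
      have h1 : t1⁻¹ ∈ centralizer (K : Set X) := inv_mem (mem_centralizer_iff.mpr fun k hk =>
        (hcomm1 t1 ht1K k hk).symm)
      have h2 : t2 ∈ centralizer (K : Set X) := mem_centralizer_iff.mpr fun k hk =>
        (hcomm3 t2 ht2K k hk).symm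
      exact mul_mem h1 (mul_mem h1 h2)
    have hcm : Commute (t : X) (t1⁻¹ * (t1⁻¹ * t2)) := mem_centralizer_iff.mp hc t t.2
    have h3 : (t : X) ^ m ∈ centralizer (K : Set X) := by
      have h4 := hvm
      rw [hveq, hcm.mul_pow, mul_eq_one_iff_eq_inv] at h4
      rw [h4]
      exact inv_mem (pow_mem hc m)
    apply htK
    exact mem_of_pow_mem_of_coprime (m := m) (n := p ^ n) (Nat.Coprime.pow_right n hmp) h3
      (htn' ▸ one_mem _)

end Cfsg.Agent.SignalizersComponents.BalanceAux
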