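import Cfsg.Prelude.Def_Balance
import Cfsg.Agent.SignalizersComponents.BalanceAux
import Cfsg.Agent.Lib.PComponents
import Cfsg.Agent.FastGrp
import Cfsg.Agent.Prune
set_option linter.all false
prune_inst 0x7ffdfff9bfbcffffffff7e7ffffddffffdfffffffffffffbfffdffffffff6beffff5fbefffefdafffff7f2beb2f87bfbfdffeabfeffbde7fffff5ffcffffff9fffffffaf7dffbcbf1ffe7fffffffffffffffffffffffffffffffffffffffffffffffffffffff
open scoped Cfsg.Agent.FastGrp

set_option autoImplicit false

/-!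
The local analysis behind Goldschmidt's signalizer functor for core-separated four-subgroups.
-/

namespace Cfsg.Agent.SignalizersComponents.GoldschmidtFunctor

open Cfsg Subgroup
open scoped commutatorElement

section Abstract

variable {Z : Type*} [Group Z]

/-- `v` centralizes `E` and `d` normalizes `E`: the commutator of `d` and `v` centralizes `E`. -/
theorem commutator_mem_centralizer {E : Subgroup Z} {d v : Z}
    (hd : d ∈ normalizer (E : Set Z)) (hv : v ∈ centralizer (E : Set Z)) :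
    ⁅d, v⁆ ∈ centralizer (E : Set Z) := by
  have h1 : d * v * d⁻¹ ∈ centralizer (E : Set Z) := by
    rw [mem_centralizer_iff] at hv ⊢
    intro e he
    have h2 : d⁻¹ * e * d ∈ E := by
      have := (mem_normalizer_iff.mp (inv_mem hd) e).mp he
      simpa using this
    have h3 := hv _ h2
    calc e * (d * v * d⁻¹) = d * ((d⁻¹ * e * d) * v) * d⁻¹ := by group
      _ = d * (v * (d⁻¹ * e * d)) * d⁻¹ := by rw [h3]
      _ = d * v * d⁻¹ * e := by group
  rw [commutatorElement_def]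
  exact mul_mem h1 (inv_mem hv)

/-- conjugates of elements of the centralizer of `E` by elements of the normalizer. -/
theorem conj_mem_centralizer {E : Subgroup Z} {d v : Z}
    (hd : d ∈ normalizer (E : Set Z)) (hv : v ∈ centralizer (E : Set Z)) :
    d * v * d⁻¹ ∈ centralizer (E : Set Z) := by
  have h1 := commutator_mem_centralizer hd hv
  rw [commutatorElement_def] at h1
  have h2 := mul_mem h1 hv
  simpa only [_root_.inv_mul_cancel_right] using h2

theorem even_card_component [Finite Z] (hO : pPrimeCore 2 Z = ⊥) {E : Subgroup Z}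
    (hE : IsComponent E) : 2 ∣ Nat.card E := by
  have : Fact (Nat.Prime 2) := ⟨Nat.prime_two⟩
  exact BalanceAux.dvd_card_component 2 hO hE

/-- A subgroup of odd order normalized by a component commutes with the component. -/
theorem component_commute_of_coprime [Finite Z] (hO : pPrimeCore 2 Z = ⊥) {E T : Subgroup Z}
    (hE : IsComponent E) (hT : (Nat.card T).Coprime 2) (hn : E ≤ normalizer (T : Set Z)) :
    T ≤ centralizer (E : Set Z) := by
  rcases Components.component_le_or_commutator_eq_bot_of_le_normalizer hE hn with h | h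
  · exfalso
    have h1 := even_card_component hO hE
    have h2 := h1.trans (Subgroup.card_dvd_of_le h)
    exact Nat.not_coprime_of_dvd_of_dvd one_lt_two h2 dvd_rfl hT
  · rw [commutator_comm] at h
    exact commutator_eq_bot_iff_le_centralizer.mp h

theorem closure_le_of_pair {A : Subgroup Z} {x y z : Z} (hx : x ∈ A) (hy : y ∈ A)
    (hz : z ∈ Subgroup.closure {x, y}) : z ∈ A := by
  refine (Subgroup.closure_le A).mpr ?_ hz
  rintro w (rfl | hw)
  · exact hx
  · rw [Set.mem_singleton_iff] at hw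
    subst hw
    exact hy

/-- First key lemma. -/
theorem commutator_eq_bot [Finite Z] (hO : pPrimeCore 2 Z = ⊥) (A₁ A₂ D : Subgroup Z)
    (a a₁ a₂ b₁ b₂ : Z) (ha : orderOf a = 2) (haa : a = a₁ * a₂) (ha₁ : a₁ ∈ A₁) (ha₂ : a₂ ∈ A₂)
    (hb₁ : b₁ ∈ A₁) (hb₂ : b₂ ∈ A₂) (hb : b₁ * b₂ ∈ center Z)
    (hA₁ : a₁ ≠ 1 → a₁ ≠ b₁ → A₁ ≤ Subgroup.closure {a₁, b₁})
    (hD : D ≤ centralizerPPrimeCore 2 a) (hDn : A₁ ≤ normalizer (D : Set Z))
    (hsep : ∀ E : Subgroup Z, IsComponent E →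
      A₁ ≤ centralizer (E : Set Z) ∨ A₂ ≤ centralizer (E : Set Z)) :
    ⁅D, A₁⁆ = ⊥ := by
  have : Fact (Nat.Prime 2) := ⟨Nat.prime_two⟩
  have hDc : D ≤ centralizer ({a} : Set Z) := hD.trans (CoreOfCentralizer.centralizerPPrimeCore_le 2 a)
  have hDo : (Nat.card D).Coprime 2 := Nat.Coprime.coprime_dvd_left (Subgroup.card_dvd_of_le hD)
    (CoreOfCentralizer.card_centralizerPPrimeCore_coprime 2 a)
  have hle : ⁅D, A₁⁆ ≤ D := Lib.CoprimeCommutator.commutator_le_left hDn
  refine BalanceAux.eq_bot_of_le_centralizer_components 2 hO ⁅D, A₁⁆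
    (Nat.Coprime.coprime_dvd_left (Subgroup.card_dvd_of_le hle) hDo)
    ((hle.trans hD).trans (BalanceAux.core_le_centralizer_pCore 2 a ha)) ?_
  intro E hE
  have hDE : D ≤ normalizer (E : Set Z) := hD.trans (BalanceAux.core_le_normalizer_component 2 hO a ha E hE)
  rcases hsep E hE with h1 | h2
  · rw [Subgroup.commutator_le]
    intro d hd v hv
    exact commutator_mem_centralizer (hDE hd) (h1 hv)
  · by_cases hEa : ⁅E, zpowers a⁆ = E
    · have haE : a ∈ normalizer (E : Set Z) := BalanceAux.mem_normalizer_of_commutator_eq hEa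
      have hb₁E : b₁ ∈ centralizer (E : Set Z) := by
        have h3 : b₁ = (b₁ * b₂) * b₂⁻¹ := by group
        rw [h3]
        refine mul_mem ?_ (inv_mem (h2 hb₂))
        rw [mem_centralizer_iff]
        intro e _
        exact mem_center_iff.mp hb e
      have ha₁E : a₁ ∉ centralizer (E : Set Z) := by
        intro h3
        have h4 : a ∈ centralizer (E : Set Z) := by rw [haa]; exact mul_mem h3 (h2 ha₂)
        have h5 : ⁅E, zpowers a⁆ = ⊥ := by
          rw [commutator_comm, commutator_eq_bot_iff_le_centralizer, zpowers_le]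
          exact h4
        rw [h5] at hEa
        exact Components.component_ne_bot hE hEa.symm
      have ha₁1 : a₁ ≠ 1 := fun h => ha₁E (h ▸ one_mem _)
      have ha₁b : a₁ ≠ b₁ := fun h => ha₁E (h ▸ hb₁E)
      have hcl := hA₁ ha₁1 ha₁b
      have ha₁n : a₁ ∈ normalizer (E : Set Z) := by
        have h3 : a₁ = a * a₂⁻¹ := by rw [haa]; group
        rw [h3]
        exact mul_mem haE (inv_mem (centralizer_le_normalizer _ (h2 ha₂)))
      rw [Subgroup.commutator_le]
      intro d hd v hv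
      have key : v ∈ normalizer (E : Set Z) ∧ ⁅d, v⁆ ∈ centralizer (E : Set Z) := by
        have hv' := hcl hv
        induction hv' using Subgroup.closure_induction with
        | mem x hx =>
          rcases hx with rfl | hx
          · refine ⟨ha₁n, ?_⟩
            have h3 : x = a * a₂⁻¹ := by rw [haa]; group
            have h4 : d * a = a * d := (mem_centralizer_singleton_iff.mp (hDc hd))
            have h5 : ⁅d, x⁆ = a * ⁅d, a₂⁻¹⁆ * a⁻¹ := by
              rw [h3, commutatorElement_def, commutatorElement_def]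
              calc d * (a * a₂⁻¹) * d⁻¹ * (a * a₂⁻¹)⁻¹
                  = (d * a) * a₂⁻¹ * d⁻¹ * (a * a₂⁻¹)⁻¹ := by group
                _ = (a * d) * a₂⁻¹ * d⁻¹ * (a * a₂⁻¹)⁻¹ := by rw [h4]
                _ = a * (d * a₂⁻¹ * d⁻¹ * a₂⁻¹⁻¹) * a⁻¹ := by group
            rw [h5]
            exact conj_mem_centralizer haE
              (commutator_mem_centralizer (hDE hd) (inv_mem (h2 ha₂)))
          · rw [Set.mem_singleton_iff] at hx
            subst hx
            exact ⟨centralizer_le_normalizer _ hb₁E, commutator_mem_centralizer (hDE hd) hb₁E⟩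
        | one => exact ⟨one_mem _, by simp⟩
        | mul x y hx' hy' hx hy =>
          have hx1 := hx (closure_le_of_pair ha₁ hb₁ hx')
          have hy1 := hy (closure_le_of_pair ha₁ hb₁ hy')
          refine ⟨mul_mem hx1.1 hy1.1, ?_⟩
          have h5 : ⁅d, x * y⁆ = ⁅d, x⁆ * (x * ⁅d, y⁆ * x⁻¹) := by
            simp only [commutatorElement_def]; group
          rw [h5]
          exact mul_mem hx1.2 (conj_mem_centralizer hx1.1 hy1.2)
        | inv x hx' hx =>
          have hx1 := hx (closure_le_of_pair ha₁ hb₁ hx')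
          refine ⟨inv_mem hx1.1, ?_⟩
          have h5 : ⁅d, x⁻¹⁆ = x⁻¹ * ⁅d, x⁆⁻¹ * x⁻¹⁻¹ := by
            simp only [commutatorElement_def]; group
          rw [h5]
          exact conj_mem_centralizer (inv_mem hx1.1) (inv_mem hx1.2)
      exact key.2
    · have h3 := Cfsg.Agent.S1270.result 2 hO a ha E hE hEa
      rw [commutator_comm, commutator_eq_bot_iff_le_centralizer] at h3
      exact (hle.trans hD).trans h3

/-- Second key lemma. -/
theorem eq_bot_of_le_sup [Finite Z] (hO : pPrimeCore 2 Z = ⊥) (A₁ A₂ R T₁ T₂ : Subgroup Z)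
    (a : Z) (ha : orderOf a = 2) (hR : R ≤ centralizerPPrimeCore 2 a)
    (hT₁ : (Nat.card T₁).Coprime 2) (hT₂ : (Nat.card T₂).Coprime 2)
    (hn₁ : centralizer (A₁ : Set Z) ≤ normalizer (T₁ : Set Z))
    (hn₂ : centralizer (A₂ : Set Z) ≤ normalizer (T₂ : Set Z))
    (hR₁ : R ≤ ⁅R, A₁⁆ ⊔ T₁) (hR₂ : R ≤ ⁅R, A₂⁆ ⊔ T₂)
    (hsep : ∀ E : Subgroup Z, IsComponent E →
      A₁ ≤ centralizer (E : Set Z) ∨ A₂ ≤ centralizer (E : Set Z)) :
    R = ⊥ := by
  have : Fact (Nat.Prime 2) := ⟨Nat.prime_two⟩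
  have hRo : (Nat.card R).Coprime 2 := Nat.Coprime.coprime_dvd_left (Subgroup.card_dvd_of_le hR)
    (CoreOfCentralizer.card_centralizerPPrimeCore_coprime 2 a)
  refine BalanceAux.eq_bot_of_le_centralizer_components 2 hO R hRo
    (hR.trans (BalanceAux.core_le_centralizer_pCore 2 a ha)) ?_
  intro E hE
  have hRE : R ≤ normalizer (E : Set Z) := hR.trans (BalanceAux.core_le_normalizer_component 2 hO a ha E hE)
  have aux : ∀ (A T : Subgroup Z), A ≤ centralizer (E : Set Z) → (Nat.card T).Coprime 2 →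
      centralizer (A : Set Z) ≤ normalizer (T : Set Z) → R ≤ ⁅R, A⁆ ⊔ T →
      R ≤ centralizer (E : Set Z) := by
    intro A T hA hT hn hRAT
    refine hRAT.trans (sup_le ?_ ?_)
    · rw [Subgroup.commutator_le]
      intro d hd v hv
      exact commutator_mem_centralizer (hRE hd) (hA hv)
    · exact component_commute_of_coprime hO hE hT ((le_centralizer_iff.mp hA).trans hn)
  rcases hsep E hE with h1 | h1
  · exact aux A₁ T₁ h1 hT₁ hn₁ hR₁
  · exact aux A₂ T₂ h1 hT₂ hn₂ hR₂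

end Abstract

/-! ### Passing to `C_G(b) / O(C_G(b))` -/

section Bar

variable {G : Type*} [Group G]

/-- The image in `C_G(b) / O(C_G(b))` of a subgroup of `G` (meant for subgroups of `C_G(b)`). -/
def bar (b : G) (H : Subgroup G) :
    Subgroup (↥(centralizer ({b} : Set G)) ⧸ pPrimeCore 2 ↥(centralizer ({b} : Set G))) :=
  (H.subgroupOf (centralizer ({b} : Set G))).map
    (QuotientGroup.mk' (pPrimeCore 2 ↥(centralizer ({b} : Set G))))

theorem mem_bar {b : G} {H : Subgroup G} {x : G} (hx : x ∈ centralizer ({b} : Set G))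
    (hxH : x ∈ H) :
    QuotientGroup.mk' (pPrimeCore 2 ↥(centralizer ({b} : Set G))) ⟨x, hx⟩ ∈ bar b H :=
  ⟨⟨x, hx⟩, hxH, rfl⟩

theorem bar_mono {b : G} {H K : Subgroup G} (h : H ≤ K) : bar b H ≤ bar b K :=
  map_mono (comap_mono h)

theorem card_bar_dvd {b : G} (H : Subgroup G) (hH : H ≤ centralizer ({b} : Set G)) :
    Nat.card (bar b H) ∣ Nat.card H := by
  have h := Subgroup.card_map_dvd (H := H.subgroupOf (centralizer ({b} : Set G)))
    (QuotientGroup.mk' (pPrimeCore 2 ↥(centralizer ({b} : Set G))))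
  rwa [Nat.card_congr (subgroupOfEquivOfLe hH).toEquiv] at h

theorem bar_commutator {b : G} {H K : Subgroup G} (hH : H ≤ centralizer ({b} : Set G))
    (hK : K ≤ centralizer ({b} : Set G)) : bar b ⁅H, K⁆ = ⁅bar b H, bar b K⁆ := by
  unfold bar
  rw [← Subgroup.map_commutator]
  congr 1
  apply Subgroup.map_injective (subtype_injective (centralizer ({b} : Set G)))
  rw [Subgroup.map_commutator, map_subgroupOf_eq_of_le hH, map_subgroupOf_eq_of_le hK,
    map_subgroupOf_eq_of_le]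
  exact (Subgroup.commutator_mono hH hK).trans (Subgroup.commutator_le_self _)

theorem le_of_bar_eq_bot {b : G} {H : Subgroup G} (hH : H ≤ centralizer ({b} : Set G))
    (h : bar b H = ⊥) : H ≤ centralizerPPrimeCore 2 b := by
  intro x hx
  have h1 := mem_bar (hH hx) hx
  rw [h, mem_bot, QuotientGroup.mk'_apply, QuotientGroup.eq_one_iff] at h1
  exact ⟨⟨x, hH hx⟩, h1, rfl⟩

theorem exists_centralizing [Finite G] {b : G} {P : Subgroup G}
    (hP : P ≤ centralizer ({b} : Set G)) (hP2 : IsPGroup 2 P)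
    {z : ↥(centralizer ({b} : Set G)) ⧸ pPrimeCore 2 ↥(centralizer ({b} : Set G))}
    (hz : z ∈ centralizer (bar b P : Set (↥(centralizer ({b} : Set G)) ⧸
      pPrimeCore 2 ↥(centralizer ({b} : Set G))))) :
    ∃ g : G, ∃ hg : g ∈ centralizer ({b} : Set G), g ∈ centralizer (P : Set G) ∧
      QuotientGroup.mk' (pPrimeCore 2 ↥(centralizer ({b} : Set G))) ⟨g, hg⟩ = z := by
  have : Fact (Nat.Prime 2) := ⟨Nat.prime_two⟩
  have hN2 : ¬ 2 ∣ Nat.card (pPrimeCore 2 ↥(centralizer ({b} : Set G))) :=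
    (Nat.prime_two.coprime_iff_not_dvd).mp (Lib.Cores.pPrimeCore_coprime 2).symm
  have hP' : IsPGroup 2 (P.subgroupOf (centralizer ({b} : Set G))) :=
    hP2.comap_of_injective _ (subtype_injective _)
  obtain ⟨g, hg, hgz⟩ := CoreOfCentralizer.exists_centralizing_of_quotient
    (P.subgroupOf (centralizer ({b} : Set G))) hP'
    (pPrimeCore 2 ↥(centralizer ({b} : Set G))) hN2 z (by
      intro a ha
      exact (mem_centralizer_iff.mp hz) _ ⟨a, ha, rfl⟩)
  refine ⟨g, g.2, ?_, hgz⟩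
  rw [mem_centralizer_iff]
  intro x hx
  exact congrArg Subtype.val (hg ⟨x, hP hx⟩ hx)

theorem centralizer_bar_le_normalizer [Finite G] {b : G} {P H : Subgroup G}
    (hP : P ≤ centralizer ({b} : Set G)) (hP2 : IsPGroup 2 P)
    (hn : centralizer (P : Set G) ⊓ centralizer ({b} : Set G) ≤ normalizer (H : Set G)) :
    centralizer (bar b P : Set (↥(centralizer ({b} : Set G)) ⧸
      pPrimeCore 2 ↥(centralizer ({b} : Set G)))) ≤ normalizer (bar b H : Set _) := by
  have key : ∀ z ∈ centralizer (bar b P : Set (↥(centralizer ({b} : Set G)) ⧸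
      pPrimeCore 2 ↥(centralizer ({b} : Set G)))), ∀ y ∈ bar b H, z * y * z⁻¹ ∈ bar b H := by
    rintro z hz _ ⟨x, hx, rfl⟩
    obtain ⟨g, hg, hgP, rfl⟩ := exists_centralizing hP hP2 hz
    refine ⟨⟨g, hg⟩ * x * ⟨g, hg⟩⁻¹, ?_, by rw [map_mul, map_mul, map_inv]⟩
    exact (mem_normalizer_iff.mp (hn ⟨hgP, hg⟩) _).mp hx
  intro z hz
  rw [mem_normalizer_iff]
  intro y
  refine ⟨key z hz y, fun h => ?_⟩
  have := key z⁻¹ (inv_mem hz) _ h
  simpa only [mul_assoc, _root_.inv_mul_cancel_left, _root_.inv_inv, _root_.inv_mul_cancel, _root_.mul_one] using this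

end Bar

/-! ### The functor -/

section Functor

variable {G : Type*} [Group G]

/-- `O(C_G(A))` as a subgroup of `G`. -/
def coreC (A : Subgroup G) : Subgroup G :=
  (oddCore ↥(centralizer (A : Set G))).map (centralizer (A : Set G)).subtype

theorem coreC_le (A : Subgroup G) : coreC A ≤ centralizer (A : Set G) := by
  rintro _ ⟨y, -, rfl⟩
  exact y.2

theorem card_coreC_coprime [Finite G] (A : Subgroup G) : (Nat.card (coreC A)).Coprime 2 := by
  have h := Lib.Cores.pPrimeCore_coprime (G := ↥(centralizer (A : Set G))) 2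
  have e : Nat.card (coreC A) = Nat.card (pPrimeCore 2 ↥(centralizer (A : Set G))) :=
    Nat.card_congr ((pPrimeCore 2 ↥(centralizer (A : Set G))).equivMapOfInjective
      (centralizer (A : Set G)).subtype (centralizer (A : Set G)).subtype_injective).symm.toEquiv
  rw [e]
  exact h

theorem centralizer_le_normalizer_coreC (A : Subgroup G) :
    centralizer (A : Set G) ≤ normalizer (coreC A : Set G) := by
  intro c hc
  have hN : (pPrimeCore 2 ↥(centralizer (A : Set G))).Normal := pPrimeCore_normal 2 _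
  have key : ∀ c ∈ centralizer (A : Set G), ∀ x ∈ coreC A, c * x * c⁻¹ ∈ coreC A := by
    rintro c hc _ ⟨y, hy, rfl⟩
    exact ⟨(⟨c, hc⟩ * y * ⟨c, hc⟩⁻¹ :), hN.conj_mem y hy _, rfl⟩
  rw [mem_normalizer_iff]
  intro g
  refine ⟨key c hc g, fun h => ?_⟩
  have := key c⁻¹ (inv_mem hc) _ h
  simpa [mul_assoc] using this

theorem le_coreC {A M : Subgroup G} (h1 : M ≤ centralizer (A : Set G))
    (h2 : (Nat.card M).Coprime 2) (h3 : centralizer (A : Set G) ≤ normalizer (M : Set G)) :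
    M ≤ coreC A := by
  have hn : (M.subgroupOf (centralizer (A : Set G))).Normal := by
    constructor
    intro m hm g
    rw [mem_subgroupOf] at hm ⊢
    exact (mem_normalizer_iff.mp (h3 g.2) m).mp hm
  have hc : (Nat.card (M.subgroupOf (centralizer (A : Set G)))).Coprime 2 := by
    rw [Nat.card_congr (subgroupOfEquivOfLe h1).toEquiv]
    exact h2
  have h4 := Lib.Cores.le_pPrimeCore hn hc
  intro m hm
  exact ⟨⟨m, h1 hm⟩, h4 (mem_subgroupOf.mpr hm), rfl⟩

/-- `O(C_G(b)) ∩ C_G(A) ≤ O(C_G(A))` for `b ∈ A`. -/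
theorem core_inf_le_coreC [Finite G] {A : Subgroup G} {b : G} (hb : b ∈ A) :
    centralizerPPrimeCore 2 b ⊓ centralizer (A : Set G) ≤ coreC A := by
  have hle : centralizer (A : Set G) ≤ centralizer ({b} : Set G) :=
    centralizer_le (by rintro _ rfl; exact hb)
  apply le_coreC inf_le_right
  · exact Nat.Coprime.coprime_dvd_left (Subgroup.card_dvd_of_le inf_le_left)
      (CoreOfCentralizer.card_centralizerPPrimeCore_coprime 2 b)
  · intro c hc
    have h1 := (hle.trans (CoreOfCentralizer.centralizer_le_normalizer_centralizerPPrimeCore 2 b)) hc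
    have h2 : c ∈ normalizer ((centralizer (A : Set G) : Subgroup G) : Set G) := le_normalizer hc
    rw [mem_normalizer_iff] at h1 h2 ⊢
    intro g
    exact ⟨fun h => ⟨(h1 g).mp h.1, (h2 g).mp h.2⟩, fun h => ⟨(h1 g).mpr h.1, (h2 g).mpr h.2⟩⟩

/-- The factor `[O_a, A_i] (O_a ∩ O(C_G(A_i)))`. -/
def thetaAux (A : Subgroup G) (a : G) : Subgroup G :=
  ⁅centralizerPPrimeCore 2 a, A⁆ ⊔ (centralizerPPrimeCore 2 a ⊓ coreC A)

theorem inf_normalizer {H K : Subgroup G} :
    normalizer (H : Set G) ⊓ normalizer (K : Set G) ≤ normalizer ((H ⊓ K : Subgroup G) : Set G) := by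
  intro g hg
  have h1 : g ∈ normalizer (H : Set G) := hg.1
  have h2 : g ∈ normalizer (K : Set G) := hg.2
  rw [mem_normalizer_iff] at h1 h2 ⊢
  intro x
  exact ⟨fun h => ⟨(h1 x).mp h.1, (h2 x).mp h.2⟩, fun h => ⟨(h1 x).mpr h.1, (h2 x).mpr h.2⟩⟩

/-- conjugation by `g` maps `⁅H, K⁆` into itself if it maps `H` and `K` into themselves. -/
theorem normalizer_commutator {H K : Subgroup G} :
    normalizer (H : Set G) ⊓ normalizer (K : Set G) ≤ normalizer ((⁅H, K⁆ : Subgroup G) : Set G) := by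
  have key : ∀ g ∈ normalizer (H : Set G) ⊓ normalizer (K : Set G), ∀ x ∈ ⁅H, K⁆,
      g * x * g⁻¹ ∈ ⁅H, K⁆ := by
    rintro g ⟨h1, h2⟩ x hx
    have hle : ⁅H, K⁆ ≤ (⁅H, K⁆ : Subgroup G).comap (MulAut.conj g).toMonoidHom := by
      rw [Subgroup.commutator_le]
      intro h hh k hk
      change g * ⁅h, k⁆ * g⁻¹ ∈ ⁅H, K⁆
      have : g * ⁅h, k⁆ * g⁻¹ = ⁅g * h * g⁻¹, g * k * g⁻¹⁆ := by
        simp only [commutatorElement_def]; group
      rw [this]
      exact Subgroup.commutator_mem_commutator ((mem_normalizer_iff.mp h1 h).mp hh)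
        ((mem_normalizer_iff.mp h2 k).mp hk)
    exact hle hx
  intro g hg
  rw [mem_normalizer_iff]
  intro x
  refine ⟨key g hg x, fun h => ?_⟩
  have := key g⁻¹ (inv_mem hg) _ h
  simpa only [mul_assoc, _root_.inv_mul_cancel_left, _root_.inv_inv, _root_.inv_mul_cancel, _root_.mul_one] using this

theorem isPGroup_of_elementary {A : Subgroup G} (hA : IsElementaryAbelian 2 A) : IsPGroup 2 A := by
  intro x
  exact ⟨1, by ext; simpa only [_root_.pow_one, _root_.SubmonoidClass.coe_pow, _root_.OneMemClass.coe_one] using hA.2 x x.2⟩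

theorem coreSeparated_symm {A₁ A₂ : Subgroup G} (h : IsCoreSeparated A₁ A₂) :
    IsCoreSeparated A₂ A₁ := by
  obtain ⟨h1, h2, h3, h4, h5, h6, h7, h8⟩ := h
  refine ⟨h2, h1, h4, h3, h5.symm, by rwa [inf_comm], fun x hx y hy => (h7 y hy x hx).symm, ?_⟩
  intro a ha ha1 E hE
  rw [sup_comm] at ha
  exact (h8 a ha ha1 E hE).symm

section Sep

variable [Finite G] {A₁ A₂ : Subgroup G} (hcs : IsCoreSeparated A₁ A₂)

include hcs

omit [Finite G] in
theorem commute_of_mem_sup {x y : G} (hx : x ∈ A₁ ⊔ A₂) (hy : y ∈ A₁ ⊔ A₂) : x * y = y * x := by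
  obtain ⟨h1, h2, h3, h4, h5, h6, h7, h8⟩ := hcs
  have hA₁ : A₁ ≤ centralizer ((A₁ ⊔ A₂ : Subgroup G) : Set G) := by
    rw [← le_centralizer_iff]
    refine sup_le ?_ ?_
    · intro u hu
      rw [mem_centralizer_iff]
      intro v hv
      have := h1.1.is_comm.comm ⟨v, hv⟩ ⟨u, hu⟩
      exact congrArg Subtype.val this
    · intro u hu
      rw [mem_centralizer_iff]
      intro v hv
      exact h7 v hv u hu
  have hA₂ : A₂ ≤ centralizer ((A₁ ⊔ A₂ : Subgroup G) : Set G) := by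
    rw [← le_centralizer_iff]
    refine sup_le ?_ ?_
    · intro u hu
      rw [mem_centralizer_iff]
      intro v hv
      exact (h7 u hu v hv).symm
    · intro u hu
      rw [mem_centralizer_iff]
      intro v hv
      have := h2.1.is_comm.comm ⟨v, hv⟩ ⟨u, hu⟩
      exact congrArg Subtype.val this
  have := (sup_le hA₁ hA₂) hx
  exact (mem_centralizer_iff.mp this y hy).symm

theorem sup_le_centralizer {a : G} (ha : a ∈ A₁ ⊔ A₂) : A₁ ⊔ A₂ ≤ centralizer ({a} : Set G) := by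
  intro x hx
  rw [mem_centralizer_singleton_iff]
  exact commute_of_mem_sup hcs hx ha

theorem mem_sup_iff' {x : G} : x ∈ A₁ ⊔ A₂ ↔ ∃ u ∈ A₁, ∃ v ∈ A₂, u * v = x := by
  apply CoprimeBasic.mem_sup_iff
  intro v hv
  rw [mem_normalizer_iff]
  intro u
  have hc : v ∈ centralizer (A₁ : Set G) := by
    rw [mem_centralizer_iff]
    intro w hw
    exact commute_of_mem_sup hcs (mem_sup_left hw) (mem_sup_right hv)
  exact (mem_normalizer_iff.mp (centralizer_le_normalizer _ hc)) u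

theorem sq_eq_one {x : G} (hx : x ∈ A₁ ⊔ A₂) : x ^ 2 = 1 := by
  obtain ⟨u, hu, v, hv, rfl⟩ := (mem_sup_iff' hcs).mp hx
  have huv : u * v = v * u := commute_of_mem_sup hcs (mem_sup_left hu) (mem_sup_right hv)
  have h1 := hcs.1.2 u hu
  have h2 := hcs.2.1.2 v hv
  rw [(show Commute u v from huv).mul_pow, h1, h2, one_mul]

/-- The image of `a` in `C_G(b)/O(C_G(b))` has order 2. -/
theorem orderOf_bar {a b : G} (ha : a ∈ A₁ ⊔ A₂) (ha1 : a ≠ 1) (hab : a ∈ centralizer ({b} : Set G)) :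
    orderOf (QuotientGroup.mk' (pPrimeCore 2 ↥(centralizer ({b} : Set G))) ⟨a, hab⟩) = 2 := by
  have h2 := sq_eq_one hcs ha
  apply orderOf_eq_prime
  · rw [← map_pow]
    have : (⟨a, hab⟩ : ↥(centralizer ({b} : Set G))) ^ 2 = 1 := by ext; simpa only [_root_.SubmonoidClass.mk_pow, _root_.OneMemClass.coe_one] using h2
    rw [this, map_one]
  · intro h
    rw [QuotientGroup.mk'_apply, QuotientGroup.eq_one_iff] at h
    have hc := Lib.Cores.pPrimeCore_coprime (G := ↥(centralizer ({b} : Set G))) 2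
    have h3 : (⟨⟨a, hab⟩, h⟩ : pPrimeCore 2 ↥(centralizer ({b} : Set G))) ^ 2 = 1 := by
      ext; simpa only [_root_.SubmonoidClass.mk_pow, _root_.OneMemClass.coe_one] using h2
    have h4 := orderOf_dvd_of_pow_eq_one h3
    have h5 := _root_.orderOf_dvd_natCard (⟨⟨a, hab⟩, h⟩ : pPrimeCore 2 ↥(centralizer ({b} : Set G)))
    have h6 := Nat.dvd_gcd h5 h4
    rw [hc, Nat.dvd_one, orderOf_eq_one_iff] at h6
    have h7 : (⟨a, hab⟩ : ↥(centralizer ({b} : Set G))) = 1 := congrArg Subtype.val h6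
    exact ha1 (congrArg Subtype.val h7)

theorem sep_bar {b : G} (hb : b ∈ A₁ ⊔ A₂) (hb1 : b ≠ 1)
    (E : Subgroup (↥(centralizer ({b} : Set G)) ⧸ pPrimeCore 2 ↥(centralizer ({b} : Set G))))
    (hE : IsComponent E) : bar b A₁ ≤ centralizer (E : Set _) ∨ bar b A₂ ≤ centralizer (E : Set _) := by
  have : Fact (Nat.Prime 2) := ⟨Nat.prime_two⟩
  obtain ⟨K, hK, rfl⟩ := Lib.PComponents.exists_pcomp hE
  have aux : ∀ A : Subgroup G,
      ⁅K.map (centralizer ({b} : Set G)).subtype, A⁆ ≤ centralizerPPrimeCore 2 b →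
      bar b A ≤ centralizer ((K.map (QuotientGroup.mk' (pPrimeCore 2 ↥(centralizer ({b} : Set G)))) :
        Subgroup _) : Set _) := by
    intro A h
    rintro _ ⟨v, hv, rfl⟩
    rw [mem_centralizer_iff]
    rintro _ ⟨k, hk, rfl⟩
    have h1 : ⁅(k : G), (v : G)⁆ ∈ centralizerPPrimeCore 2 b :=
      h (Subgroup.commutator_mem_commutator ⟨k, hk, rfl⟩ hv)
    obtain ⟨w, hw, hwe⟩ := h1
    have h2 : w = ⁅k, v⁆ := Subtype.ext hwe
    rw [h2] at hw
    have h3 : QuotientGroup.mk' (pPrimeCore 2 ↥(centralizer ({b} : Set G))) ⁅k, v⁆ = 1 := by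
      rw [QuotientGroup.mk'_apply, QuotientGroup.eq_one_iff]
      exact hw
    rw [map_commutatorElement, commutatorElement_eq_one_iff_mul_comm] at h3
    exact h3
  rcases hcs.2.2.2.2.2.2.2 b hb hb1 K hK with h | h
  · exact Or.inl (aux A₁ h)
  · exact Or.inr (aux A₂ h)

theorem sup_le_normalizer_core {a : G} (ha : a ∈ A₁ ⊔ A₂) :
    A₁ ⊔ A₂ ≤ normalizer (centralizerPPrimeCore 2 a : Set G) :=
  (sup_le_centralizer hcs ha).trans
    (CoreOfCentralizer.centralizer_le_normalizer_centralizerPPrimeCore 2 a)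

/-- `O_a ∩ C_G(b)` maps into `O(C(ā))`. -/
theorem bar_core_le {a b : G} (ha : a ∈ A₁ ⊔ A₂) (ha1 : a ≠ 1)
    (hab : a ∈ centralizer ({b} : Set G)) :
    bar b (centralizerPPrimeCore 2 a ⊓ centralizer ({b} : Set G)) ≤
      centralizerPPrimeCore 2
        (QuotientGroup.mk' (pPrimeCore 2 ↥(centralizer ({b} : Set G))) ⟨a, hab⟩) := by
  have : Fact (Nat.Prime 2) := ⟨Nat.prime_two⟩
  have hz : zpowers a ≤ centralizer ({b} : Set G) := by rwa [zpowers_le]
  have hz2 : IsPGroup 2 (zpowers a) := BalanceAux.isPGroup_zpowers_of_orderOf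
    (orderOf_eq_prime (sq_eq_one hcs ha) ha1)
  apply BalanceAux.le_centralizerPPrimeCore
  · rintro _ ⟨x, hx, rfl⟩
    rw [mem_centralizer_singleton_iff, ← map_mul, ← map_mul]
    congr 1
    ext
    exact mem_centralizer_singleton_iff.mp (CoreOfCentralizer.centralizerPPrimeCore_le 2 a hx.1)
  · refine Nat.Coprime.coprime_dvd_left (card_bar_dvd _ inf_le_right) ?_
    exact Nat.Coprime.coprime_dvd_left (Subgroup.card_dvd_of_le inf_le_left)
      (CoreOfCentralizer.card_centralizerPPrimeCore_coprime 2 a)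
  · have h1 := centralizer_bar_le_normalizer (b := b) (P := zpowers a)
      (H := centralizerPPrimeCore 2 a ⊓ centralizer ({b} : Set G)) hz hz2 (by
        refine le_trans ?_ inf_normalizer
        refine le_inf (inf_le_left.trans ?_) (inf_le_right.trans le_normalizer)
        refine le_trans ?_ (CoreOfCentralizer.centralizer_le_normalizer_centralizerPPrimeCore 2 a)
        exact centralizer_le (by
          intro x hx
          rw [Set.mem_singleton_iff] at hx
          rw [hx]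
          exact mem_zpowers a))
    refine le_trans ?_ h1
    rw [le_centralizer_iff]
    rintro _ ⟨x, hx, rfl⟩
    obtain ⟨n, hn⟩ := mem_zpowers_iff.mp (show (x : G) ∈ zpowers a from hx)
    have hx' : x = (⟨a, hab⟩ : ↥(centralizer ({b} : Set G))) ^ n := by
      ext; rw [← hn]; simp
    rw [hx', map_zpow]
    apply zpow_mem
    rw [mem_centralizer_iff]
    intro y hy
    exact (mem_centralizer_singleton_iff.mp hy)

omit [Finite G] in
/-- Two distinct non-identity elements generate `A₁`. -/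
theorem le_closure_pair {a₁ b₁ : G} (ha₁ : a₁ ∈ A₁) (hb₁ : b₁ ∈ A₁) (h1 : a₁ ≠ 1) (h2 : b₁ ≠ 1)
    (h3 : a₁ ≠ b₁) : A₁ ≤ Subgroup.closure {a₁, b₁} := by
  have hle : Subgroup.closure {a₁, b₁} ≤ A₁ := fun z hz => closure_le_of_pair ha₁ hb₁ hz
  have hc4 : Nat.card A₁ = 4 := hcs.2.2.1
  have hfin : Finite A₁ := Nat.finite_of_card_ne_zero (by rw [hc4]; norm_num)
  have hdvd := Subgroup.card_dvd_of_le hle
  rw [hc4] at hdvd
  have hfin' : Finite (Subgroup.closure ({a₁, b₁} : Set G)) :=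
    Finite.of_injective (Subgroup.inclusion hle) (Subgroup.inclusion_injective hle)
  have h3le : 3 ≤ Nat.card (Subgroup.closure ({a₁, b₁} : Set G)) := by
    classical
    have hmem₁ : a₁ ∈ Subgroup.closure ({a₁, b₁} : Set G) := _root_.Subgroup.subset_closure (by simp)
    have hmem₂ : b₁ ∈ Subgroup.closure ({a₁, b₁} : Set G) := _root_.Subgroup.subset_closure (by simp)
    let f : Fin 3 → Subgroup.closure ({a₁, b₁} : Set G) := ![1, ⟨a₁, hmem₁⟩, ⟨b₁, hmem₂⟩]
    have hf : Function.Injective f := by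
      intro i j hij
      have h1' : (1 : Subgroup.closure ({a₁, b₁} : Set G)) ≠ ⟨a₁, hmem₁⟩ := fun h =>
        h1 (congrArg Subtype.val h).symm
      have h2' : (1 : Subgroup.closure ({a₁, b₁} : Set G)) ≠ ⟨b₁, hmem₂⟩ := fun h =>
        h2 (congrArg Subtype.val h).symm
      have h3' : (⟨a₁, hmem₁⟩ : Subgroup.closure ({a₁, b₁} : Set G)) ≠ ⟨b₁, hmem₂⟩ := fun h =>
        h3 (congrArg Subtype.val h)
      fin_cases i <;> fin_cases j <;> simp_all only [f, _root_.ne_eq, _root_.Subgroup.closure_le, _root_.Subtype.mk.injEq, _root_.not_false_eq_true, _root_.Fin.zero_eta, _root_.Fin.isValue, _root_.Matrix.cons_val_zero, _root_.Fin.mk_one, _root_.Matrix.cons_val_one, _root_.Fin.reduceFinMk, _root_.Matrix.cons_val, _root_.Subgroup.mk_eq_one, _root_.Fin.reduceEq, _root_.not_true_eq_false]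
    have := Nat.card_le_card_of_injective f hf
    simpa only [_root_.ge_iff_le, _root_.Nat.card_eq_fintype_card, _root_.Fintype.card_fin] using this
  have h4 : Nat.card (Subgroup.closure ({a₁, b₁} : Set G)) = 4 := by
    have hle4 := Nat.le_of_dvd (by norm_num) hdvd
    interval_cases h : Nat.card (Subgroup.closure ({a₁, b₁} : Set G))
    · norm_num at hdvd
    · rfl
  exact (Subgroup.eq_of_le_of_card_ge hle (by rw [hc4, h4])).ge

/-- `⁅O_a ∩ C(b), A₁⁆ ≤ O_b` when `b ∉ A₂`. -/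
theorem commutator_core_le {a b : G} (ha : a ∈ A₁ ⊔ A₂) (ha1 : a ≠ 1) (hb : b ∈ A₁ ⊔ A₂)
    (hb1 : b ≠ 1) (hb2 : b ∉ A₂) :
    ⁅centralizerPPrimeCore 2 a ⊓ centralizer ({b} : Set G), A₁⁆ ≤ centralizerPPrimeCore 2 b := by
  have : Fact (Nat.Prime 2) := ⟨Nat.prime_two⟩
  have hab : a ∈ centralizer ({b} : Set G) := (sup_le_centralizer hcs hb) ha
  have hA₁b : A₁ ≤ centralizer ({b} : Set G) := le_sup_left.trans (sup_le_centralizer hcs hb)
  have hA₂b : A₂ ≤ centralizer ({b} : Set G) := le_sup_right.trans (sup_le_centralizer hcs hb)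
  apply le_of_bar_eq_bot ((commutator_mono inf_le_right hA₁b).trans (commutator_le_self _))
  rw [bar_commutator inf_le_right hA₁b]
  obtain ⟨a₁, ha₁, a₂, ha₂, haa⟩ := (mem_sup_iff' hcs).mp ha
  obtain ⟨b₁, hb₁, b₂, hb₂, hbb⟩ := (mem_sup_iff' hcs).mp hb
  have hb₁1 : b₁ ≠ 1 := by
    rintro rfl
    rw [one_mul] at hbb
    exact hb2 (hbb ▸ hb₂)
  have hbC : b ∈ centralizer ({b} : Set G) := mem_centralizer_singleton_iff.mpr rfl
  refine commutator_eq_bot (Lib.PComponents.pPrimeCore_quotient_eq_bot 2) (bar b A₁) (bar b A₂) _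
    (QuotientGroup.mk' _ ⟨a, hab⟩) (QuotientGroup.mk' _ ⟨a₁, hA₁b ha₁⟩)
    (QuotientGroup.mk' _ ⟨a₂, hA₂b ha₂⟩)
    (QuotientGroup.mk' _ ⟨b₁, hA₁b hb₁⟩) (QuotientGroup.mk' _ ⟨b₂, hA₂b hb₂⟩)
    (orderOf_bar hcs ha ha1 hab) ?_ (mem_bar _ ha₁) (mem_bar _ ha₂) (mem_bar _ hb₁) (mem_bar _ hb₂)
    ?_ ?_ (bar_core_le hcs ha ha1 hab) ?_ (sep_bar hcs hb hb1)
  · rw [← map_mul]
    congr 1
    exact Subtype.ext haa.symm
  · rw [← map_mul]
    have h1 : (⟨b₁, hA₁b hb₁⟩ * ⟨b₂, hA₂b hb₂⟩ : ↥(centralizer ({b} : Set G))) = ⟨b, hbC⟩ :=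
      Subtype.ext hbb
    rw [h1, mem_center_iff]
    intro z
    obtain ⟨z, rfl⟩ := QuotientGroup.mk'_surjective _ z
    rw [← map_mul, ← map_mul]
    congr 1
    ext
    exact mem_centralizer_singleton_iff.mp z.2
  · intro h1 h2
    have h1' : a₁ ≠ 1 := by
      rintro rfl
      exact h1 (map_one _)
    have h2' : a₁ ≠ b₁ := by
      rintro rfl
      exact h2 rfl
    have hcl := le_closure_pair hcs ha₁ hb₁ h1' hb₁1 h2'
    rintro _ ⟨x, hx, rfl⟩
    set K := Subgroup.closure ({QuotientGroup.mk' (pPrimeCore 2 ↥(centralizer ({b} : Set G)))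
      ⟨a₁, hA₁b ha₁⟩, QuotientGroup.mk' (pPrimeCore 2 ↥(centralizer ({b} : Set G)))
      ⟨b₁, hA₁b hb₁⟩} : Set _) with hK
    have h3 : Subgroup.closure ({a₁, b₁} : Set G) ≤
        (K.comap (QuotientGroup.mk' (pPrimeCore 2 ↥(centralizer ({b} : Set G))))).map
          (centralizer ({b} : Set G)).subtype := by
      rw [Subgroup.closure_le]
      rintro y (rfl | hy)
      · exact ⟨⟨y, hA₁b ha₁⟩, _root_.Subgroup.subset_closure (Set.mem_insert _ _), rfl⟩
      · rw [Set.mem_singleton_iff] at hy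
        subst hy
        exact ⟨⟨y, hA₁b hb₁⟩, _root_.Subgroup.subset_closure (Set.mem_insert_of_mem _ rfl), rfl⟩
    obtain ⟨y, hy, hyx⟩ := h3 (hcl (show (x : G) ∈ A₁ from hx))
    have : y = x := Subtype.ext hyx
    rw [← this]
    exact hy
  · have hn : A₁ ≤ normalizer ((centralizerPPrimeCore 2 a ⊓ centralizer ({b} : Set G) :
        Subgroup G) : Set G) := by
      refine le_trans (le_inf ?_ ?_) inf_normalizer
      · exact le_sup_left.trans (sup_le_normalizer_core hcs ha)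
      · exact hA₁b.trans le_normalizer
    rintro _ ⟨x, hx, rfl⟩
    rw [mem_normalizer_iff]
    have key : ∀ x ∈ A₁.subgroupOf (centralizer ({b} : Set G)), ∀ y ∈ bar b (centralizerPPrimeCore 2 a ⊓ centralizer ({b} : Set G)),
        QuotientGroup.mk' (pPrimeCore 2 ↥(centralizer ({b} : Set G))) x * y *
          (QuotientGroup.mk' (pPrimeCore 2 ↥(centralizer ({b} : Set G))) x)⁻¹ ∈
        bar b (centralizerPPrimeCore 2 a ⊓ centralizer ({b} : Set G)) := by
      rintro x hx _ ⟨y, hy, rfl⟩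
      refine ⟨x * y * x⁻¹, ?_, by rw [map_mul, map_mul, map_inv]⟩
      exact (mem_normalizer_iff.mp (hn hx) _).mp hy
    intro y
    refine ⟨key x hx y, fun h => ?_⟩
    have := key x⁻¹ (inv_mem hx) _ h
    simpa only [mul_assoc, _root_.QuotientGroup.mk'_apply, _root_.QuotientGroup.mk_inv, _root_.inv_mul_cancel_left, _root_.inv_inv, _root_.inv_mul_cancel, _root_.mul_one] using this

omit [Finite G] in
theorem not_mem_of_mem {b : G} (hb : b ∈ A₁) (hb1 : b ≠ 1) : b ∉ A₂ := by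
  intro h
  have h1 : b ∈ A₁ ⊓ A₂ := ⟨hb, h⟩
  rw [hcs.2.2.2.2.2.1, mem_bot] at h1
  exact hb1 h1

omit [Finite G] in
/-- `A₁` is not cyclic. -/
theorem ne_bot_of_isCyclic_quotient {B₀ : Subgroup G}
    (h : ∀ [(B₀.subgroupOf A₁).Normal], IsCyclic (↥A₁ ⧸ B₀.subgroupOf A₁)) : B₀ ≠ ⊥ := by
  rintro rfl
  have hn : ((⊥ : Subgroup G).subgroupOf A₁).Normal := by
    rw [bot_subgroupOf]; infer_instance
  have hcyc : IsCyclic (↥A₁ ⧸ (⊥ : Subgroup G).subgroupOf A₁) := h
  obtain ⟨g, hg⟩ := hcyc.exists_generator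
  have hfin : Finite A₁ := Nat.finite_of_card_ne_zero (by rw [hcs.2.2.1]; norm_num)
  have hcard : Nat.card (↥A₁ ⧸ (⊥ : Subgroup G).subgroupOf A₁) = 4 := by
    rw [← Subgroup.index, bot_subgroupOf, Subgroup.index_bot]
    exact hcs.2.2.1
  have ho : orderOf g = 4 := by rw [orderOf_eq_card_of_forall_mem_zpowers hg, hcard]
  obtain ⟨x, rfl⟩ := QuotientGroup.mk'_surjective _ g
  have hx : x ^ 2 = 1 := Subtype.ext (hcs.1.2 x x.2)
  have h2 : (QuotientGroup.mk' ((⊥ : Subgroup G).subgroupOf A₁) x) ^ 2 = 1 := by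
    rw [← map_pow, hx, map_one]
  have h3 := orderOf_dvd_of_pow_eq_one h2
  rw [ho] at h3
  norm_num at h3

/-- `[O_a, A₁] ∩ C(A₁) ≤ O(C(A₁))`, given the generation statement S1329. -/
theorem commutator_inf_centralizer_le
    (h29 : ∀ A Y : Subgroup G, IsPGroup 2 A → IsMulCommutative A → Odd (Nat.card Y) →
      A ≤ normalizer (Y : Set G) → ⁅Y, A⁆ = Y → Y ⊓ centralizer (A : Set G) ≤
      ⨆ B₀ : {B₀ : Subgroup G // B₀ ≤ A ∧ ∀ [(B₀.subgroupOf A).Normal],
        IsCyclic (↥A ⧸ B₀.subgroupOf A)},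
        Y ⊓ centralizer (A : Set G) ⊓ ⁅Y ⊓ centralizer ((B₀ : Subgroup G) : Set G), A⁆)
    {a : G} (ha : a ∈ A₁ ⊔ A₂) (ha1 : a ≠ 1) :
    ⁅centralizerPPrimeCore 2 a, A₁⁆ ⊓ centralizer (A₁ : Set G) ≤ coreC A₁ := by
  have : Fact (Nat.Prime 2) := ⟨Nat.prime_two⟩
  have hn : A₁ ≤ normalizer (centralizerPPrimeCore 2 a : Set G) :=
    le_sup_left.trans (sup_le_normalizer_core hcs ha)
  have hle : ⁅centralizerPPrimeCore 2 a, A₁⁆ ≤ centralizerPPrimeCore 2 a :=
    Lib.CoprimeCommutator.commutator_le_left hn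
  have hodd : (Nat.card (centralizerPPrimeCore 2 a)).Coprime 2 :=
    CoreOfCentralizer.card_centralizerPPrimeCore_coprime 2 a
  have hcop : (Nat.card A₁).Coprime (Nat.card (centralizerPPrimeCore 2 a)) := by
    rw [hcs.2.2.1, show 4 = 2 ^ 2 from rfl]
    exact hodd.symm.pow_left 2
  refine (h29 A₁ ⁅centralizerPPrimeCore 2 a, A₁⁆ (isPGroup_of_elementary hcs.1) hcs.1.1
    ?_ (Lib.CoprimeCommutator.right_le_normalizer_commutator _ _)
    (Lib.CoprimeCommutator.commutator_commutator_eq _ _ hn hcop)).trans ?_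
  · rw [← Nat.coprime_two_right]
    exact Nat.Coprime.coprime_dvd_left (Subgroup.card_dvd_of_le hle) hodd
  · refine iSup_le ?_
    rintro ⟨B₀, hB₀, hcyc⟩
    have hne := ne_bot_of_isCyclic_quotient hcs hcyc
    obtain ⟨⟨b, hbB⟩, hb1⟩ := Subgroup.ne_bot_iff_exists_ne_one.mp hne
    have hb1' : (b : G) ≠ 1 := fun h => hb1 (Subtype.ext h)
    have hbA : (b : G) ∈ A₁ := hB₀ hbB
    have h1 : ⁅⁅centralizerPPrimeCore 2 a, A₁⁆ ⊓ centralizer ((B₀ : Subgroup G) : Set G), A₁⁆ ≤
        centralizerPPrimeCore 2 (b : G) := by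
      refine le_trans (Subgroup.commutator_mono (inf_le_inf hle (centralizer_le ?_)) le_rfl)
        (commutator_core_le hcs ha ha1 (mem_sup_left hbA) hb1' (not_mem_of_mem hcs hbA hb1'))
      intro x hx
      rw [Set.mem_singleton_iff] at hx
      rw [hx]
      exact hbB
    refine le_trans ?_ (core_inf_le_coreC hbA)
    exact le_inf (inf_le_right.trans h1) (inf_le_left.trans inf_le_right)

theorem thetaAux_le {a : G} (ha : a ∈ A₁ ⊔ A₂) :
    thetaAux A₁ a ≤ centralizerPPrimeCore 2 a :=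
  sup_le (Lib.CoprimeCommutator.commutator_le_left
    (le_sup_left.trans (sup_le_normalizer_core hcs ha))) inf_le_left

omit [Finite G] in
theorem sup_le_centralizer_left : A₁ ⊔ A₂ ≤ centralizer (A₁ : Set G) := by
  intro x hx
  rw [mem_centralizer_iff]
  intro y hy
  exact commute_of_mem_sup hcs (mem_sup_left hy) hx

theorem sup_le_normalizer_thetaAux {a : G} (ha : a ∈ A₁ ⊔ A₂) :
    A₁ ⊔ A₂ ≤ normalizer (thetaAux A₁ a : Set G) := by
  have h1 := sup_le_normalizer_core hcs ha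
  have h2 : A₁ ⊔ A₂ ≤ normalizer (A₁ : Set G) :=
    (sup_le_centralizer_left hcs).trans (centralizer_le_normalizer _)
  have h3 : A₁ ⊔ A₂ ≤ normalizer (coreC A₁ : Set G) :=
    (sup_le_centralizer_left hcs).trans (centralizer_le_normalizer_coreC A₁)
  have h4 : A₁ ⊔ A₂ ≤ normalizer ((⁅centralizerPPrimeCore 2 a, A₁⁆ : Subgroup G) : Set G) :=
    (le_inf h1 h2).trans normalizer_commutator
  have h5 : A₁ ⊔ A₂ ≤ normalizer ((centralizerPPrimeCore 2 a ⊓ coreC A₁ : Subgroup G) : Set G) :=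
    (le_inf h1 h3).trans inf_normalizer
  have key : ∀ g ∈ A₁ ⊔ A₂, ∀ x ∈ thetaAux A₁ a, g * x * g⁻¹ ∈ thetaAux A₁ a := by
    intro g hg x hx
    have hle : thetaAux A₁ a ≤ (thetaAux A₁ a).comap (MulAut.conj g).toMonoidHom := by
      refine sup_le ?_ ?_
      · intro y hy
        exact mem_sup_left ((mem_normalizer_iff.mp (h4 hg) y).mp hy)
      · intro y hy
        exact mem_sup_right ((mem_normalizer_iff.mp (h5 hg) y).mp hy)
    exact hle hx
  intro g hg
  rw [mem_normalizer_iff]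
  intro x
  refine ⟨key g hg x, fun h => ?_⟩
  have := key g⁻¹ (inv_mem hg) _ h
  simpa [mul_assoc] using this

/-- `θ_1(a) ∩ C(A₁) ≤ O(C(A₁))`. -/
theorem thetaAux_inf_le
    (h29 : ∀ A Y : Subgroup G, IsPGroup 2 A → IsMulCommutative A → Odd (Nat.card Y) →
      A ≤ normalizer (Y : Set G) → ⁅Y, A⁆ = Y → Y ⊓ centralizer (A : Set G) ≤
      ⨆ B₀ : {B₀ : Subgroup G // B₀ ≤ A ∧ ∀ [(B₀.subgroupOf A).Normal],
        IsCyclic (↥A ⧸ B₀.subgroupOf A)},
        Y ⊓ centralizer (A : Set G) ⊓ ⁅Y ⊓ centralizer ((B₀ : Subgroup G) : Set G), A⁆)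
    {a : G} (ha : a ∈ A₁ ⊔ A₂) (ha1 : a ≠ 1) :
    thetaAux A₁ a ⊓ centralizer (A₁ : Set G) ≤ coreC A₁ := by
  rintro x ⟨hx, hxC⟩
  have hn : centralizerPPrimeCore 2 a ⊓ coreC A₁ ≤
      normalizer ((⁅centralizerPPrimeCore 2 a, A₁⁆ : Subgroup G) : Set G) :=
    inf_le_left.trans (Lib.CoprimeCommutator.left_le_normalizer_commutator _ _)
  obtain ⟨y, hy, t, ht, rfl⟩ := (CoprimeBasic.mem_sup_iff hn _).mp hx
  have htC : t ∈ centralizer (A₁ : Set G) := coreC_le A₁ ht.2
  have hyC : y ∈ centralizer (A₁ : Set G) := by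
    have h1 := Subgroup.mul_mem _ hxC (Subgroup.inv_mem _ htC)
    simpa using h1
  exact mul_mem (commutator_inf_centralizer_le hcs h29 ha ha1 ⟨hy, hyC⟩) ht.2

/-- The decomposition of an `A₁`-invariant subgroup of `θ_1(a)`. -/
theorem le_commutator_sup
    (h29 : ∀ A Y : Subgroup G, IsPGroup 2 A → IsMulCommutative A → Odd (Nat.card Y) →
      A ≤ normalizer (Y : Set G) → ⁅Y, A⁆ = Y → Y ⊓ centralizer (A : Set G) ≤
      ⨆ B₀ : {B₀ : Subgroup G // B₀ ≤ A ∧ ∀ [(B₀.subgroupOf A).Normal],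
        IsCyclic (↥A ⧸ B₀.subgroupOf A)},
        Y ⊓ centralizer (A : Set G) ⊓ ⁅Y ⊓ centralizer ((B₀ : Subgroup G) : Set G), A⁆)
    {a : G} (ha : a ∈ A₁ ⊔ A₂) (ha1 : a ≠ 1) {R : Subgroup G} (hR : R ≤ thetaAux A₁ a)
    (hRn : A₁ ≤ normalizer (R : Set G)) : R ≤ ⁅R, A₁⁆ ⊔ (R ⊓ coreC A₁) := by
  have : Fact (Nat.Prime 2) := ⟨Nat.prime_two⟩
  intro k hk
  have hodd : (Nat.card R).Coprime 2 := Nat.Coprime.coprime_dvd_left
    (Subgroup.card_dvd_of_le (hR.trans (thetaAux_le hcs ha)))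
    (CoreOfCentralizer.card_centralizerPPrimeCore_coprime 2 a)
  obtain ⟨m, hm, c, hc, rfl⟩ := Lib.CoprimeCommutator.exists_commutator_mul_fixed_of_isPGroup 2
    A₁ R (isPGroup_of_elementary hcs.1) hRn
    ((Nat.prime_two.coprime_iff_not_dvd).mp hodd.symm) k hk
  exact mul_mem (mem_sup_left hm) (mem_sup_right ⟨hc.1, thetaAux_inf_le hcs h29 ha ha1
    ⟨hR hc.1, hc.2⟩⟩)

/-- The balance condition, first half. -/
theorem inf_centralizer_le_core
    (h29 : ∀ A Y : Subgroup G, IsPGroup 2 A → IsMulCommutative A → Odd (Nat.card Y) →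
      A ≤ normalizer (Y : Set G) → ⁅Y, A⁆ = Y → Y ⊓ centralizer (A : Set G) ≤
      ⨆ B₀ : {B₀ : Subgroup G // B₀ ≤ A ∧ ∀ [(B₀.subgroupOf A).Normal],
        IsCyclic (↥A ⧸ B₀.subgroupOf A)},
        Y ⊓ centralizer (A : Set G) ⊓ ⁅Y ⊓ centralizer ((B₀ : Subgroup G) : Set G), A⁆)
    {a b : G} (ha : a ∈ A₁ ⊔ A₂) (ha1 : a ≠ 1) (hb : b ∈ A₁ ⊔ A₂) (hb1 : b ≠ 1)
    {R : Subgroup G} (hR₁ : R ≤ thetaAux A₁ a) (hR₂ : R ≤ thetaAux A₂ a)
    (hRb : R ≤ centralizer ({b} : Set G)) (hRn : A₁ ⊔ A₂ ≤ normalizer (R : Set G)) :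
    R ≤ centralizerPPrimeCore 2 b := by
  have : Fact (Nat.Prime 2) := ⟨Nat.prime_two⟩
  have hcs' := coreSeparated_symm hcs
  have hab : a ∈ centralizer ({b} : Set G) := (sup_le_centralizer hcs hb) ha
  have hA₁b : A₁ ≤ centralizer ({b} : Set G) := le_sup_left.trans (sup_le_centralizer hcs hb)
  have hA₂b : A₂ ≤ centralizer ({b} : Set G) := le_sup_right.trans (sup_le_centralizer hcs hb)
  apply le_of_bar_eq_bot hRb
  have hdec₁ := le_commutator_sup hcs h29 ha ha1 hR₁ (le_sup_left.trans hRn)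
  have hdec₂ := le_commutator_sup hcs' h29 (by rwa [sup_comm]) ha1 hR₂
    (le_sup_right.trans hRn)
  have aux : ∀ A : Subgroup G, A ≤ centralizer ({b} : Set G) → R ≤ ⁅R, A⁆ ⊔ (R ⊓ coreC A) →
      bar b R ≤ ⁅bar b R, bar b A⁆ ⊔ bar b (coreC A ⊓ centralizer ({b} : Set G)) := by
    intro A hA hdec
    rw [← bar_commutator hRb hA]
    rintro _ ⟨x, hx, rfl⟩
    have hn : R ⊓ coreC A ≤ normalizer ((⁅R, A⁆ : Subgroup G) : Set G) :=
      inf_le_left.trans (Lib.CoprimeCommutator.left_le_normalizer_commutator _ _)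
    obtain ⟨y, hy, t, ht, hyt⟩ := (CoprimeBasic.mem_sup_iff hn _).mp (hdec hx)
    have htb : t ∈ centralizer ({b} : Set G) := hRb ht.1
    have hyb : y ∈ centralizer ({b} : Set G) :=
      ((Subgroup.commutator_mono hRb hA).trans (Subgroup.commutator_le_self _)) hy
    have hx' : x = ⟨y, hyb⟩ * ⟨t, htb⟩ := Subtype.ext hyt.symm
    rw [hx', map_mul]
    exact mul_mem (mem_sup_left (mem_bar hyb hy)) (mem_sup_right (mem_bar htb ⟨ht.2, htb⟩))
  have hodd : ∀ A : Subgroup G,
      (Nat.card (bar b (coreC A ⊓ centralizer ({b} : Set G)))).Coprime 2 := fun A =>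
    Nat.Coprime.coprime_dvd_left ((card_bar_dvd _ inf_le_right).trans
      (Subgroup.card_dvd_of_le inf_le_left)) (card_coreC_coprime A)
  have hnorm : ∀ A : Subgroup G, A ≤ centralizer ({b} : Set G) → IsPGroup 2 A →
      centralizer (bar b A : Set (↥(centralizer ({b} : Set G)) ⧸
        pPrimeCore 2 ↥(centralizer ({b} : Set G)))) ≤
        normalizer (bar b (coreC A ⊓ centralizer ({b} : Set G)) : Set _) := by
    intro A hA hA2
    apply centralizer_bar_le_normalizer hA hA2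
    refine le_trans ?_ inf_normalizer
    exact le_inf (inf_le_left.trans (centralizer_le_normalizer_coreC A))
      (inf_le_right.trans le_normalizer)
  refine eq_bot_of_le_sup (Lib.PComponents.pPrimeCore_quotient_eq_bot 2) (bar b A₁) (bar b A₂) _
    (bar b (coreC A₁ ⊓ centralizer ({b} : Set G))) (bar b (coreC A₂ ⊓ centralizer ({b} : Set G)))
    (QuotientGroup.mk' _ ⟨a, hab⟩)
    (orderOf_bar hcs ha ha1 hab) ?_ (hodd A₁) (hodd A₂)
    (hnorm A₁ hA₁b (isPGroup_of_elementary hcs.1)) (hnorm A₂ hA₂b (isPGroup_of_elementary hcs.2.1))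
    (aux A₁ hA₁b hdec₁) (aux A₂ hA₂b hdec₂) (sep_bar hcs hb hb1)
  exact (bar_mono (le_inf (hR₁.trans (thetaAux_le hcs ha)) hRb)).trans (bar_core_le hcs ha ha1 hab)

/-- **Goldschmidt's functor** (given the generation statement S1329). -/
theorem isSignalizerFunctor
    (h29 : ∀ A Y : Subgroup G, IsPGroup 2 A → IsMulCommutative A → Odd (Nat.card Y) →
      A ≤ normalizer (Y : Set G) → ⁅Y, A⁆ = Y → Y ⊓ centralizer (A : Set G) ≤
      ⨆ B₀ : {B₀ : Subgroup G // B₀ ≤ A ∧ ∀ [(B₀.subgroupOf A).Normal],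
        IsCyclic (↥A ⧸ B₀.subgroupOf A)},
        Y ⊓ centralizer (A : Set G) ⊓ ⁅Y ⊓ centralizer ((B₀ : Subgroup G) : Set G), A⁆) :
    IsSignalizerFunctor 2 (A₁ ⊔ A₂) (fun a => thetaAux A₁ a ⊓ thetaAux A₂ a) := by
  have : Fact (Nat.Prime 2) := ⟨Nat.prime_two⟩
  have hcs' := coreSeparated_symm hcs
  refine ⟨?_, ?_, ?_, ?_⟩
  · intro a ha _
    exact inf_le_left.trans ((thetaAux_le hcs ha).trans
      (CoreOfCentralizer.centralizerPPrimeCore_le 2 a))
  · intro a ha _
    have h1 : (Nat.card ((thetaAux A₁ a ⊓ thetaAux A₂ a : Subgroup G))).Coprime 2 :=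
      Nat.Coprime.coprime_dvd_left
        (Subgroup.card_dvd_of_le (inf_le_left.trans (thetaAux_le hcs ha)))
        (CoreOfCentralizer.card_centralizerPPrimeCore_coprime 2 a)
    exact (Nat.prime_two.coprime_iff_not_dvd).mp h1.symm
  · intro a ha _ b hb x hx
    have ha' : a ∈ A₂ ⊔ A₁ := by rwa [sup_comm]
    have hb' : b ∈ A₂ ⊔ A₁ := by rwa [sup_comm]
    exact ⟨(mem_normalizer_iff.mp (sup_le_normalizer_thetaAux hcs ha hb) x).mp hx.1,
      (mem_normalizer_iff.mp (sup_le_normalizer_thetaAux hcs' ha' hb') x).mp hx.2⟩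
  · intro a ha ha1 b hb hb1
    have ha' : a ∈ A₂ ⊔ A₁ := by rwa [sup_comm]
    have hn₁ := sup_le_normalizer_thetaAux hcs ha
    have hn₂ := sup_le_normalizer_thetaAux hcs' ha'
    rw [sup_comm] at hn₂
    have hnb : A₁ ⊔ A₂ ≤ normalizer ((centralizer ({b} : Set G) : Subgroup G) : Set G) :=
      (sup_le_centralizer hcs hb).trans le_normalizer
    have hRn : A₁ ⊔ A₂ ≤ normalizer (((thetaAux A₁ a ⊓ thetaAux A₂ a) ⊓
        centralizer ({b} : Set G) : Subgroup G) : Set G) :=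
      (le_inf ((le_inf hn₁ hn₂).trans inf_normalizer) hnb).trans inf_normalizer
    set R := (thetaAux A₁ a ⊓ thetaAux A₂ a) ⊓ centralizer ({b} : Set G) with hRdef
    have hR₁ : R ≤ thetaAux A₁ a := inf_le_left.trans inf_le_left
    have hR₂ : R ≤ thetaAux A₂ a := inf_le_left.trans inf_le_right
    have hRb : R ≤ centralizer ({b} : Set G) := inf_le_right
    have hRO := inf_centralizer_le_core hcs h29 ha ha1 hb hb1 hR₁ hR₂ hRb hRn
    change R ≤ thetaAux A₁ b ⊓ thetaAux A₂ b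
    refine le_inf ?_ ?_
    · refine (le_commutator_sup hcs h29 ha ha1 hR₁ (le_sup_left.trans hRn)).trans ?_
      exact sup_le_sup (Subgroup.commutator_mono hRO le_rfl) (inf_le_inf hRO le_rfl)
    · refine (le_commutator_sup hcs' h29 ha' ha1 hR₂ (le_sup_right.trans hRn)).trans ?_
      exact sup_le_sup (Subgroup.commutator_mono hRO le_rfl) (inf_le_inf hRO le_rfl)

end Sep

end Functor

end Cfsg.Agent.SignalizersComponents.GoldschmidtFunctor
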