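import Cfsg.Prelude.Def_Local
import Cfsg.Agent.Lib.Cores
import Cfsg.Agent.Lib.ComponentSolvable
import Cfsg.Agent.Lib.ThompsonPQ
set_option linter.all false

set_option autoImplicit false

namespace Cfsg.Agent.SignalizersComponents.LocalLayer

open Subgroup Cfsg

/-- A component commutes with every normal `p`-subgroup (finite group). -/
theorem component_commutator_pGroup {N : Type*} [Group N] [Finite N] {p : ℕ} [Fact p.Prime]
    {L T : Subgroup N} (hL : IsComponent L) (hT : T.Normal) (hp : IsPGroup p T) : ⁅L, T⁆ = ⊥ := by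
  have h1 : Group.IsNilpotent T := hp.isNilpotent
  exact Cfsg.Agent.Lib.ComponentSolvable.commutator_component_solvable_eq_bot hL
    inferInstance (by rw [normalizer_eq_top]; exact le_top)

/-- The layer commutes with every normal `p`-subgroup (finite group). -/
theorem layer_commutator_pGroup {N : Type*} [Group N] [Finite N] {p : ℕ} [Fact p.Prime]
    {T : Subgroup N} (hT : T.Normal) (hp : IsPGroup p T) : ⁅layer N, T⁆ = ⊥ := by
  have h1 : Group.IsNilpotent T := hp.isNilpotent
  exact commutator_eq_bot_iff_le_centralizer.mpr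
    (Cfsg.Agent.Lib.ComponentSolvable.layer_le_centralizer_of_normal_solvable hT inferInstance)

/-- The layer is perfect. -/
theorem layer_perfect (N : Type*) [Group N] : ⁅layer N, layer N⁆ = layer N := by
  apply le_antisymm (Subgroup.commutator_le_self _)
  apply sSup_le
  intro K hK
  have hKK : ⁅K, K⁆ = K := Subgroup.isPerfect_iff.mp hK.2.1
  rw [← hKK]
  exact commutator_mono (le_sSup hK) (le_sSup hK)

/-- The preimage in `N` of the layer of `N / O_{p'}(N)`. -/
def preLayer (p : ℕ) (N : Type*) [Group N] : Subgroup N :=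
  (layer (N ⧸ pPrimeCore p N)).comap (QuotientGroup.mk' (pPrimeCore p N))

theorem preLayer_def (p : ℕ) (N : Type*) [Group N] : preLayer p N =
  (layer (N ⧸ pPrimeCore p N)).comap (QuotientGroup.mk' (pPrimeCore p N)) := rfl

theorem pPrimeCore_le_preLayer (p : ℕ) (N : Type*) [Group N] : pPrimeCore p N ≤ preLayer p N := by
  intro x hx
  rw [preLayer_def, mem_comap]
  have : QuotientGroup.mk' (pPrimeCore p N) x = 1 := by
    rwa [← MonoidHom.mem_ker, QuotientGroup.ker_mk']
  rw [this]
  exact one_mem _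

/-- `K = [K, K] O_{p'}(N)` for the preimage `K` of the layer of `N / O_{p'}(N)`. -/
theorem preLayer_eq (p : ℕ) (N : Type*) [Group N] :
    preLayer p N = ⁅preLayer p N, preLayer p N⁆ ⊔ pPrimeCore p N := by
  have hs := QuotientGroup.mk'_surjective (pPrimeCore p N)
  have h1 : (preLayer p N).map (QuotientGroup.mk' (pPrimeCore p N)) =
      layer (N ⧸ pPrimeCore p N) := by
    rw [preLayer_def, map_comap_eq_self_of_surjective hs]
  have h2 : (⁅preLayer p N, preLayer p N⁆).map (QuotientGroup.mk' (pPrimeCore p N)) =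
      layer (N ⧸ pPrimeCore p N) := by
    rw [map_commutator, h1, layer_perfect]
  have h3 := congrArg (Subgroup.comap (QuotientGroup.mk' (pPrimeCore p N))) h2
  rw [comap_map_eq, QuotientGroup.ker_mk', ← preLayer_def] at h3
  exact h3.symm

/-- The preimage of the layer of `N / O_{p'}(N)` commutes with every normal `p`-subgroup of `N`. -/
theorem preLayer_commutator_pGroup {N : Type*} [Group N] [Finite N] {p : ℕ} [Fact p.Prime]
    {T : Subgroup N} (hT : T.Normal) (hp : IsPGroup p T) : ⁅preLayer p N, T⁆ = ⊥ := by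
  have hs := QuotientGroup.mk'_surjective (pPrimeCore p N)
  have h1 : ⁅preLayer p N, T⁆ ≤ pPrimeCore p N := by
    have h2 : (⁅preLayer p N, T⁆).map (QuotientGroup.mk' (pPrimeCore p N)) = ⊥ := by
      rw [map_commutator, preLayer_def, map_comap_eq_self_of_surjective hs]
      exact layer_commutator_pGroup (p := p) (hT.map _ hs) (hp.map _)
    rwa [Subgroup.map_eq_bot_iff, QuotientGroup.ker_mk'] at h2
  have h2 : ⁅preLayer p N, T⁆ ≤ T := commutator_le_right _ _
  have h3 : T ≤ pCore p N := Cfsg.Agent.Lib.Cores.le_pCore hT hp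
  have h4 := Cfsg.Agent.Lib.Cores.pCore_inf_pPrimeCore (G := N) p
  rw [eq_bot_iff, ← h4]
  exact le_inf (h2.trans h3) h1

/-- If `K ≤ C_G(P)` and `K` commutes with `Q ∩ C_G(P)`, where `P` is a `p`-subgroup and `Q` is a
`p`-subgroup normalized by `K` and `P`, then some `p`-power of each element of `K`
centralizes `Q`, and each element of `K` of order prime to `p` centralizes `Q`. -/
theorem mem_centralizer_of_coprime {G : Type*} [Group G] [Finite G] {p : ℕ} [Fact p.Prime]
    {P Q K : Subgroup G} (hP : IsPGroup p P) (hQ : IsPGroup p Q)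
    (hPQ : P ≤ normalizer (Q : Set G)) (hKQ : K ≤ normalizer (Q : Set G))
    (hKP : K ≤ centralizer (P : Set G))
    (hK : Q ⊓ centralizer (P : Set G) ≤ centralizer (K : Set G)) {x : G} (hx : x ∈ K)
    (hxo : (orderOf x).Coprime p) : x ∈ centralizer (Q : Set G) := by
  have hz : zpowers x ≤ K := zpowers_le.mpr hx
  refine Cfsg.Agent.Lib.ThompsonPQ.thompson_p_times_q p P (zpowers x) Q hP
    (by rwa [Nat.card_zpowers]) hQ ?_ hPQ (hz.trans hKQ) ?_ (mem_zpowers x)
  · exact le_centralizer_iff.mp (hz.trans hKP)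
  · exact hK.trans (centralizer_le hz)

theorem exists_pow_mem_centralizer {G : Type*} [Group G] [Finite G] {p : ℕ} [hp : Fact p.Prime]
    {P Q K : Subgroup G} (hP : IsPGroup p P) (hQ : IsPGroup p Q)
    (hPQ : P ≤ normalizer (Q : Set G)) (hKQ : K ≤ normalizer (Q : Set G))
    (hKP : K ≤ centralizer (P : Set G))
    (hK : Q ⊓ centralizer (P : Set G) ≤ centralizer (K : Set G)) {x : G} (hx : x ∈ K) :
    ∃ n : ℕ, x ^ p ^ n ∈ centralizer (Q : Set G) := by
  obtain ⟨n, m, hm, hxo⟩ := Nat.exists_eq_pow_mul_and_not_dvd (orderOf_pos x).ne' p hp.out.ne_one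
  refine ⟨n, mem_centralizer_of_coprime hP hQ hPQ hKQ hKP hK (pow_mem hx _) ?_⟩
  have h1 : orderOf (x ^ p ^ n) = m := by
    rw [orderOf_pow_of_dvd (pow_ne_zero _ hp.out.ne_zero) (hxo ▸ Dvd.intro _ rfl), hxo]
    exact Nat.mul_div_cancel_left _ (pow_pos hp.out.pos n)
  rw [h1]
  exact ((Nat.Prime.coprime_iff_not_dvd hp.out).mpr hm).symm

/-- A subgroup `K` with `K = [K, K] X`, `X` of order prime to `p`, such that `K` centralizes the
`p`-subgroup `P` and `Q ∩ C_G(P)`, where `Q` is a normal `p`-subgroup, centralizes `Q`. -/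
theorem le_centralizer_of_perfect {G : Type*} [Group G] [Finite G] {p : ℕ} [Fact p.Prime]
    {P Q K X : Subgroup G} (hP : IsPGroup p P) (hQ : IsPGroup p Q) (hQn : Q.Normal)
    (hKP : K ≤ centralizer (P : Set G))
    (hK : Q ⊓ centralizer (P : Set G) ≤ centralizer (K : Set G))
    (hX : (Nat.card X).Coprime p) (hKX : K = ⁅K, K⁆ ⊔ X) : K ≤ centralizer (Q : Set G) := by
  have hn : ∀ H : Subgroup G, H ≤ normalizer (Q : Set G) := fun H => by
    rw [normalizer_eq_top]; exact le_top
  have hC : (centralizer (Q : Set G)).Normal := Subgroup.normal_centralizer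
  let f := QuotientGroup.mk' (centralizer (Q : Set G))
  have hker : f.ker = centralizer (Q : Set G) := QuotientGroup.ker_mk' _
  have hXK : X ≤ K := hKX ▸ le_sup_right
  have hXC : X ≤ centralizer (Q : Set G) := by
    intro x hx
    refine mem_centralizer_of_coprime hP hQ (hn P) (hn K) hKP hK (hXK hx) ?_
    have := orderOf_dvd_natCard (⟨x, hx⟩ : X)
    rw [Subgroup.orderOf_mk] at this
    exact Nat.Coprime.coprime_dvd_left this hX
  have hmap : K.map f = ⁅K.map f, K.map f⁆ := by
    conv_lhs => rw [hKX, Subgroup.map_sup, map_commutator]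
    have : X.map f = ⊥ := by rw [Subgroup.map_eq_bot_iff, hker]; exact hXC
    rw [this, sup_bot_eq]
  have hpg : IsPGroup p (K.map f) := by
    rintro ⟨_, x, hx, rfl⟩
    obtain ⟨n, hn'⟩ := exists_pow_mem_centralizer hP hQ (hn P) (hn K) hKP hK hx
    refine ⟨n, Subtype.ext ?_⟩
    show (f x) ^ p ^ n = 1
    rw [← map_pow, ← MonoidHom.mem_ker, hker]
    exact hn'
  have hperf : Group.IsPerfect (K.map f) := Subgroup.isPerfect_iff.mpr hmap.symm
  have hnil : Group.IsNilpotent (K.map f) := hpg.isNilpotent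
  have hbot : K.map f = ⊥ := by
    by_contra hne
    have : Nontrivial (K.map f) := (Subgroup.nontrivial_iff_ne_bot _).mpr hne
    exact Group.IsPerfect.not_isNilpotent _ hnil
  rwa [Subgroup.map_eq_bot_iff, hker] at hbot

/-- Let `Q` be a normal `p`-subgroup and `P` a `p`-subgroup of `G`, `N = N_G(P)`; a subgroup `K` of
`N` that commutes with all normal `p`-subgroups of `N`, and equals `[K, K] X` with `X` of
order prime to `p`, centralizes `Q`. -/
theorem le_centralizer_of_normalizer {G : Type*} [Group G] [Finite G] {p : ℕ} [Fact p.Prime]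
    {P Q N : Subgroup G} (hN : N = normalizer (P : Set G))
    (hP : IsPGroup p P) (hQ : IsPGroup p Q) (hQn : Q.Normal)
    {K X : Subgroup N}
    (hK : ∀ T : Subgroup N, T.Normal → IsPGroup p T → ⁅K, T⁆ = ⊥)
    (hX : (Nat.card X).Coprime p) (hKX : K = ⁅K, K⁆ ⊔ X) :
    K.map N.subtype ≤ centralizer (Q : Set G) := by
  have hPN : P ≤ N := hN ▸ le_normalizer
  have key : ∀ T : Subgroup G, T ≤ N → (T.subgroupOf N).Normal → IsPGroup p T →
      ⁅K.map N.subtype, T⁆ = ⊥ := by
    intro T hTN hTn hTp
    have h1 := hK (T.subgroupOf N) hTn (hTp.comap_of_injective _ N.subtype_injective)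
    have h2 := congrArg (Subgroup.map N.subtype) h1
    rwa [map_commutator, map_subgroupOf_eq_of_le hTN, Subgroup.map_bot] at h2
  have hKP : K.map N.subtype ≤ centralizer (P : Set G) :=
    commutator_eq_bot_iff_le_centralizer.mp (key P hPN (by subst hN; exact normal_in_normalizer) hP)
  have hKQ : ⁅K.map N.subtype, Q ⊓ N⁆ = ⊥ := by
    apply key _ inf_le_right
    · have : (Q ⊓ N).subgroupOf N = Q.subgroupOf N := by simp
      rw [this]; exact normal_subgroupOf
    · exact hQ.to_le inf_le_left
  have hCP : centralizer (P : Set G) ≤ N := by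
    intro x hx
    rw [hN, mem_normalizer_iff]
    intro y
    constructor
    · intro hy
      have := (mem_centralizer_iff.mp hx) y hy
      have h2 : x * y * x⁻¹ = y := by rw [← this]; group
      rwa [h2]
    · intro hy
      have := (mem_centralizer_iff.mp hx) _ hy
      have h2 : x * y * x⁻¹ = y := by
        have h3 : x⁻¹ * (x * y * x⁻¹ * x) = x⁻¹ * (x * (x * y * x⁻¹)) := by rw [this]
        have h4 : x⁻¹ * (x * y * x⁻¹ * x) = y := by group
        have h5 : x⁻¹ * (x * (x * y * x⁻¹)) = x * y * x⁻¹ := by group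
        rw [h4, h5] at h3
        exact h3.symm
      rwa [h2] at hy
  refine le_centralizer_of_perfect (X := X.map N.subtype) hP hQ hQn hKP ?_ ?_ ?_
  · have h1 : Q ⊓ centralizer (P : Set G) ≤ Q ⊓ N := inf_le_inf le_rfl hCP
    rw [commutator_comm] at hKQ
    exact h1.trans (commutator_eq_bot_iff_le_centralizer.mp hKQ)
  · rwa [Nat.card_congr (X.equivMapOfInjective N.subtype N.subtype_injective).toEquiv.symm]
  · conv_lhs => rw [hKX, Subgroup.map_sup, map_commutator]

end Cfsg.Agent.SignalizersComponents.LocalLayer
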