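import Mathlib
import Cfsg.Prelude.Def_Local
import Cfsg.Prelude.Def_ClassificationK
import Cfsg.Prelude.Def_Involutions
import Cfsg.Agent.Lib.Cores
import Cfsg.Agent.Lib.GenFitting
import Cfsg.Agent.Lib.KleinGen
import Cfsg.Agent.S0542
import Cfsg.Agent.SignalizersComponents.Components
import Cfsg.Agent.SignalizersComponents.CompBasic
import Cfsg.Agent.SignalizersComponents.CompOrbit
import Cfsg.Agent.SignalizersComponents.BalanceCore
import Cfsg.Agent.SignalizersComponents.FStarNormal
import Cfsg.Agent.TwoGenCore.Basic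
import Cfsg.Agent.TwoGenCore.Involution
set_option linter.all false

-- part: SignalizersComponents/BalRed
section
/-!
# Completed balance functors: reduction to simple groups with a proper 2-generated core

`Setup S W` : the odd order subgroup `W` meets `C_G(x)` in `O(C_G(x))` for every involution `x` of the
Sylow 2-subgroup `S`, and is normalized by the normalizers of the subgroups of `S` of 2-rank at
least 2.  If `O(G) = 1` and `W ≠ 1`, then `F*(G) = L` is a nonabelian simple group.
-/

set_option autoImplicit false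

namespace Cfsg.Agent.SignalizersComponents.BalRed

open Cfsg Subgroup
open Cfsg.Agent.TwoGenCore (Four fourSub)
open Cfsg.Agent.SignalizersComponents

variable {G : Type*} [Group G]

/-- `W` completes the functor `x ↦ O(C_G(x))` over the involutions of `S`. -/
structure Setup (S : Sylow 2 G) (W : Subgroup G) : Prop where
  odd : Odd (Nat.card W)
  fix : ∀ x ∈ (S : Subgroup G), orderOf x = 2 → W ⊓ centralizer {x} = centralizerPPrimeCore 2 x
  norm : ∀ X : Subgroup G, X ≤ (S : Subgroup G) → ¬ PRankLE 2 1 X →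
    normalizer (X : Set G) ≤ normalizer (W : Set G)
  rank : ¬ PRankLE 2 1 (S : Subgroup G)

/-! ### general lemmas -/

theorem le_centralizer_of_inf_eq_bot {A B : Subgroup G} (hA : A ≤ normalizer (B : Set G))
    (hB : B ≤ normalizer (A : Set G)) (h : A ⊓ B = ⊥) : A ≤ centralizer (B : Set G) := by
  rw [← commutator_eq_bot_iff_le_centralizer, eq_bot_iff, ← h, commutator_le]
  intro a ha b hb
  rw [commutatorElement_def]
  refine ⟨?_, ?_⟩
  · have h1 : b * a⁻¹ * b⁻¹ ∈ A := (mem_normalizer_iff.mp (hB hb) _).mp (A.inv_mem ha)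
    have := A.mul_mem ha h1
    simpa [mul_assoc] using this
  · have h1 : a * b * a⁻¹ ∈ B := (mem_normalizer_iff.mp (hA ha) _).mp hb
    exact B.mul_mem h1 (B.inv_mem hb)

theorem inf_eq_bot_of_odd [Finite G] {A B : Subgroup G} (hA : Odd (Nat.card A))
    (hB : IsPGroup 2 B) : A ⊓ B = ⊥ := by
  obtain ⟨n, hn⟩ := IsPGroup.iff_card.mp hB
  refine (disjoint_of_coprime_natCard ?_).eq_bot
  rw [hn]
  exact Nat.Coprime.pow_right n (Nat.coprime_two_right.mpr hA)

theorem orderOf_eq_two {x : G} (h1 : x ≠ 1) (h2 : x * x = 1) : orderOf x = 2 :=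
  orderOf_eq_prime (by rw [pow_two]; exact h2) h1

/-- A Sylow 2-subgroup of a group with two commuting involutions has two commuting involutions. -/
theorem four_sylow [Finite G] (h : Four (⊤ : Subgroup G)) (Q : Sylow 2 G) :
    Four (Q : Subgroup G) := by
  obtain ⟨x, -, y, -, h1, h2, h3, h4, h5, h6⟩ := h
  have hV : IsPGroup 2 (fourSub x y h4 h5 h6) := by
    rintro ⟨a, ha⟩
    refine ⟨1, Subtype.ext ?_⟩
    show a ^ (2 ^ 1) = 1
    rw [pow_one, pow_two]
    rcases ha with rfl | rfl | rfl | rfl
    · simp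
    · exact h4
    · exact h5
    · calc x * y * (x * y) = x * y * (y * x) := by rw [h6]
        _ = x * (y * y) * x := by group
        _ = 1 := by rw [h5, mul_one, h4]
  obtain ⟨P, hP⟩ := hV.exists_le_sylow
  have hFP : Four (P : Subgroup G) :=
    ⟨x, hP (Or.inr (Or.inl rfl)), y, hP (Or.inr (Or.inr (Or.inl rfl))), h1, h2, h3, h4, h5, h6⟩
  obtain ⟨g, hg⟩ := MulAction.exists_smul_eq G P Q
  have := hFP.conj g
  rw [← hg]
  exact this

/-- `O(C_G(x))` centralizes every component of `G` which commutes with `x`, if `O(G) = 1`. -/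
theorem core_le_centralizer_component [Finite G] (hO : pPrimeCore 2 G = ⊥) {K : Subgroup G}
    (hK : IsComponent K) {x : G} (hx : K ≤ centralizer {x}) :
    centralizerPPrimeCore 2 x ≤ centralizer (K : Set G) := by
  have hK' := Components.isComponent_subgroupOf hx hK
  have hR : (pPrimeCore 2 ↥(centralizer ({x} : Set G))).Normal := Lib.Cores.pPrimeCore_normal 2
  rcases Components.component_le_or_commutator_eq_bot hK' hR.isSubnormal with h | h
  · exfalso
    have hc : (Nat.card K).Coprime 2 := by
      have h1 := Lib.Cores.pPrimeCore_coprime (G := ↥(centralizer ({x} : Set G))) 2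
      have h2 := card_dvd_of_le h
      have h3 : Nat.card (K.subgroupOf (centralizer ({x} : Set G))) = Nat.card K :=
        Nat.card_congr (subgroupOfEquivOfLe hx).toEquiv
      rw [h3] at h2
      exact h1.coprime_dvd_left h2
    have h4 := CompBasic.subnormal_coprime_le_pPrimeCore hK.1 hc
    rw [hO, le_bot_iff] at h4
    exact Components.component_ne_bot hK h4
  · have h1 := congrArg (Subgroup.map (centralizer ({x} : Set G)).subtype) h
    rw [map_commutator, Subgroup.map_bot, subgroupOf_map_subtype, inf_eq_left.2 hx] at h1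
    rw [← commutator_eq_bot_iff_le_centralizer, commutator_comm]
    exact h1

/-- An odd order subgroup centralizing the components and `O_2(G)` is trivial if `O(G) = 1`. -/
theorem eq_bot_of_centralizes [Finite G] (hO : pPrimeCore 2 G = ⊥) {W : Subgroup G}
    (hodd : Odd (Nat.card W)) (h1 : ∀ K : Subgroup G, IsComponent K → W ≤ centralizer (K : Set G))
    (h2 : W ≤ centralizer (pCore 2 G : Set G)) : W = ⊥ := by
  have hl : W ≤ centralizer (layer G : Set G) := by
    rw [le_centralizer_iff, Components.layer_le_iff]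
    intro K hK
    rw [le_centralizer_iff]
    exact h1 K hK
  have hF : W ≤ centralizer (fittingSubgroup G : Set G) := by
    rw [le_centralizer_iff] at h2 ⊢
    exact (CompOrbit.fittingSubgroup_le_pCore hO).trans h2
  have hFs : W ≤ centralizer (generalizedFittingSubgroup G : Set G) := by
    rw [le_centralizer_iff] at hl hF ⊢
    exact sup_le hl hF
  have h3 : W ≤ generalizedFittingSubgroup G ⊓
      centralizer (generalizedFittingSubgroup G : Set G) :=
    le_inf (hFs.trans Lib.GenFitting.centralizer_genFitting_le) hFs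
  have h4 := h3.trans
    (CompOrbit.inf_centralizer_self_le_pCore hO Lib.GenFitting.genFitting_normal)
  have h5 := inf_eq_bot_of_odd hodd (Lib.Cores.pCore_isPGroup (G := G) 2)
  rwa [inf_eq_left.2 h4] at h5

section

variable {S : Sylow 2 G} {W : Subgroup G}

theorem Setup.le_normalizer (h : Setup S W) : (S : Subgroup G) ≤ normalizer (W : Set G) :=
  Subgroup.le_normalizer.trans (h.norm _ le_rfl h.rank)

/-- Generation of `W` by the fixed points of two commuting involutions of `S` and their
product. -/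
theorem Setup.le_of_four [Finite G] (h : Setup S W) {x y : G} (hx : x ∈ (S : Subgroup G))
    (hy : y ∈ (S : Subgroup G)) (hx2 : x * x = 1) (hy2 : y * y = 1) (hxy : x * y = y * x)
    {M : Subgroup G} (h1 : W ⊓ centralizer {x} ≤ M) (h2 : W ⊓ centralizer {y} ≤ M)
    (h3 : W ⊓ centralizer {x * y} ≤ M) : W ≤ M :=
  Lib.KleinGen.le_of_klein W M h.odd x y hx2 hy2 hxy
    (fun w hw => (mem_normalizer_iff.mp (h.le_normalizer hx) w).mp hw)
    (fun w hw => (mem_normalizer_iff.mp (h.le_normalizer hy) w).mp hw) h1 h2 h3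

/-- Step 1: `O_2(G) = 1`. -/
theorem Setup.pCore_eq_bot [Finite G] (h : Setup S W) (hO : pPrimeCore 2 G = ⊥) (hW : W ≠ ⊥) :
    pCore 2 G = ⊥ := by
  by_contra hne
  apply hW
  have hp := Lib.Cores.pCore_isPGroup (G := G) 2
  have hcent : W ≤ centralizer (pCore 2 G : Set G) := by
    refine le_centralizer_of_inf_eq_bot ?_ ?_ (inf_eq_bot_of_odd h.odd hp)
    · rw [normalizer_eq_top_iff.mpr (Lib.Cores.pCore_normal 2)]
      exact le_top
    · exact (Lib.Cores.pCore_le_sylow S).trans h.le_normalizer
  -- a central involution of `O_2(G)`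
  have : Nontrivial (pCore 2 G) := (nontrivial_iff_ne_bot _).mpr hne
  have : Nontrivial (center (pCore 2 G)) := hp.center_nontrivial
  have hcp : IsPGroup 2 (center (pCore 2 G)) := hp.to_subgroup _
  obtain ⟨n, hn, hcard⟩ := hcp.nontrivial_iff_card.mp this
  have hdvd : 2 ∣ Nat.card (center (pCore 2 G)) := by
    rw [hcard]; exact dvd_pow_self 2 (by omega)
  obtain ⟨z, hz⟩ := exists_prime_orderOf_dvd_card' 2 hdvd
  set t : G := ((z : pCore 2 G) : G) with ht
  have ht2 : orderOf t = 2 := by
    rw [ht, Subgroup.orderOf_coe, Subgroup.orderOf_coe]; exact hz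
  have htc : pCore 2 G ≤ centralizer {t} := by
    intro x hx
    rw [mem_centralizer_singleton_iff]
    have := mem_center_iff.mp z.2 ⟨x, hx⟩
    exact congrArg Subtype.val this
  have htO : t ∈ pCore 2 G := (z : pCore 2 G).2
  have htS : t ∈ (S : Subgroup G) := Lib.Cores.pCore_le_sylow S htO
  have hWt : W = centralizerPPrimeCore 2 t := by
    rw [← h.fix t htS ht2]
    refine (inf_eq_left.2 ?_).symm
    intro w hw
    rw [mem_centralizer_singleton_iff]
    exact ((mem_centralizer_iff.mp (hcent hw)) t htO).symm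
  refine eq_bot_of_centralizes hO h.odd ?_ hcent
  intro K hK
  rw [hWt]
  refine core_le_centralizer_component hO hK ?_
  -- components centralize `O_2(G)`
  have hs : ⁅K, pCore 2 G⁆ = ⊥ := by
    refine Components.component_commutator_solvable hK ?_ ?_
    · rw [normalizer_eq_top_iff.mpr (Lib.Cores.pCore_normal 2)]
      exact le_top
    · have := hp.isNilpotent
      infer_instance
  intro k hk
  rw [mem_centralizer_singleton_iff]
  have := (mem_centralizer_iff.mp (commutator_eq_bot_iff_le_centralizer.mp hs hk)) t htO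
  exact this.symm

/-- Step 2a: if `K` is a component of 2-rank at least 2, `W` centralizes the other components. -/
theorem Setup.le_centralizer_of_ne [Finite G] (h : Setup S W) (hO : pPrimeCore 2 G = ⊥)
    {K L : Subgroup G} (hK : IsComponent K) (hr : ¬ PRankLE 2 1 K) (hL : IsComponent L)
    (hne : L ≠ K) : W ≤ centralizer (L : Set G) := by
  obtain ⟨Q, hQ⟩ := Cfsg.Agent.S0542.result 2 K hK.1 S
  have hF : Four (⊤ : Subgroup K) := by
    rw [← Cfsg.Agent.TwoGenCore.not_pRankLE_one_iff]
    intro h1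
    apply hr
    exact Cfsg.Agent.TwoGenCore.Involution.pRankLE_of_injective
      (topEquiv (G := K)).symm.toMonoidHom (topEquiv (G := K)).symm.injective h1
  obtain ⟨x, hx, y, hy, h1, h2, h3, h4, h5, h6⟩ := four_sylow hF Q
  rw [hQ, mem_subgroupOf] at hx hy
  have hxK : (x : G) ∈ K := x.2
  have hyK : (y : G) ∈ K := y.2
  have h1' : (x : G) ≠ 1 := fun e => h1 (Subtype.ext e)
  have h2' : (y : G) ≠ 1 := fun e => h2 (Subtype.ext e)
  have h4' : (x : G) * x = 1 := congrArg Subtype.val h4
  have h5' : (y : G) * y = 1 := congrArg Subtype.val h5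
  have h6' : (x : G) * y = y * x := congrArg Subtype.val h6
  have h3' : (x : G) * y ≠ 1 := by
    intro e
    apply h3
    apply Subtype.ext
    have : (x : G) * y = x * x := by rw [e, h4']
    exact (mul_left_cancel this).symm
  have h7 : ((x : G) * y) * (x * y) = 1 := by
    calc (x : G) * y * (x * y) = x * y * (y * x) := by rw [h6']
      _ = x * (y * y) * x := by group
      _ = 1 := by rw [h5', mul_one, h4']
  have key : ∀ z ∈ K, z ∈ (S : Subgroup G) → z ≠ 1 → z * z = 1 →
      W ⊓ centralizer {z} ≤ centralizer (L : Set G) := by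
    intro z hzK hzS hz1 hz2
    rw [h.fix z hzS (orderOf_eq_two hz1 hz2)]
    refine core_le_centralizer_component hO hL ?_
    intro l hl
    rw [mem_centralizer_singleton_iff]
    exact (mem_centralizer_iff.mp (Components.component_le_centralizer_of_ne hL hK hne hl)
      z hzK).symm
  exact h.le_of_four hx hy h4' h5' h6' (key x hxK hx h1' h4') (key y hyK hy h2' h5')
    (key _ (K.mul_mem hxK hyK) ((S : Subgroup G).mul_mem hx hy) h3' h7)

/-- Step 2: `F*(G)` is simple. The hypothesis `hBS` (Brauer–Suzuki and transfer) says that components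
have 2-rank at least 2. -/
theorem Setup.exists_simple [Finite G] (h : Setup S W) (hO : pPrimeCore 2 G = ⊥) (hW : W ≠ ⊥)
    (hBS : ∀ K : Subgroup G, IsComponent K → center K = ⊥ → Even (Nat.card K) →
      ¬ PRankLE 2 1 K) :
    ∃ L : Subgroup G, L.Normal ∧ IsSimpleGroup L ∧ ¬ IsMulCommutative L ∧ Even (Nat.card L) ∧
      ¬ PRankLE 2 1 L ∧ centralizer (L : Set G) = ⊥ := by
  have hp := h.pCore_eq_bot hO hW
  have hF : fittingSubgroup G = ⊥ := by
    rw [eq_bot_iff, ← hp]
    exact CompOrbit.fittingSubgroup_le_pCore hO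
  have hcW : W ≤ centralizer (pCore 2 G : Set G) := by
    rw [hp, le_centralizer_iff]
    exact bot_le
  have hcenter : ∀ K : Subgroup G, IsComponent K → center K = ⊥ := by
    intro K hK
    have hn : Group.IsNilpotent (center K) := open scoped IsMulCommutative in inferInstance
    have h1 : ((center K).map K.subtype).IsSubnormal :=
      (Normal.isSubnormal (inferInstance : (center K).Normal)).trans' hK.1
    have h2 : Group.IsNilpotent ((center K).map K.subtype) :=
      FStarNormal.isNilpotent_map _ _ hn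
    have h3 := FStarNormal.le_fitting_of_subnormal h1 h2
    rw [hF, le_bot_iff, Subgroup.map_eq_bot_iff, ker_subtype, le_bot_iff] at h3
    exact h3
  have heven : ∀ K : Subgroup G, IsComponent K → Even (Nat.card K) := by
    intro K hK
    by_contra hodd
    rw [Nat.not_even_iff_odd] at hodd
    have h4 := CompBasic.subnormal_coprime_le_pPrimeCore (p := 2) hK.1
      (Nat.coprime_two_right.mpr hodd)
    rw [hO, le_bot_iff] at h4
    exact Components.component_ne_bot hK h4
  have hrank : ∀ K : Subgroup G, IsComponent K → ¬ PRankLE 2 1 K :=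
    fun K hK => hBS K hK (hcenter K hK) (heven K hK)
  -- existence of a component
  obtain ⟨K, hK⟩ : ∃ K : Subgroup G, IsComponent K := by
    by_contra hno
    push Not at hno
    exact hW (eq_bot_of_centralizes hO h.odd (fun K hK => absurd hK (hno K)) hcW)
  -- uniqueness
  have huniq : ∀ L : Subgroup G, IsComponent L → L = K := by
    intro L hL
    by_contra hne
    apply hW
    refine eq_bot_of_centralizes hO h.odd (fun M hM => ?_) hcW
    by_cases hMK : M = K
    · exact h.le_centralizer_of_ne hO hL (hrank L hL) hM (by rw [hMK]; exact fun e => hne e.symm)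
    · exact h.le_centralizer_of_ne hO hK (hrank K hK) hM hMK
  have hnormal : K.Normal := by
    refine ⟨fun n hn g => ?_⟩
    have h1 := huniq _ (Components.isComponent_conj g hK)
    rw [← h1]
    exact ⟨n, hn, rfl⟩
  refine ⟨K, hnormal, ?_, Components.quasisimple_not_isMulCommutative hK.2, heven K hK,
    hrank K hK, ?_⟩
  · have h1 : IsSimpleGroup (K ⧸ center K) := hK.2.2
    have e : K ⧸ center K ≃* K :=
      (QuotientGroup.quotientMulEquivOfEq (hcenter K hK)).trans (QuotientGroup.quotientBot (G := K))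
    exact (MulEquiv.isSimpleGroup_congr e).mp h1
  · have h1 : layer G = K := by
      apply le_antisymm
      · rw [Components.layer_le_iff]
        intro L hL
        rw [huniq L hL]
      · exact Components.component_le_layer hK
    have h2 : generalizedFittingSubgroup G = K := by
      rw [Lib.GenFitting.genFitting_def, h1, hF, sup_bot_eq]
    have h3 := Lib.GenFitting.centralizer_genFitting_le (G := G)
    have h4 := CompOrbit.inf_centralizer_self_le_pCore hO
      (Lib.GenFitting.genFitting_normal (G := G))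
    rw [inf_eq_right.2 h3, hp, le_bot_iff, h2] at h4
    exact h4

end

end Cfsg.Agent.SignalizersComponents.BalRed
end

-- part: SignalizersComponents/BalRedTwo
section
/-!
# Completed balance functors: `W` meets the simple group `F*(G)` nontrivially
-/

set_option autoImplicit false

namespace Cfsg.Agent.SignalizersComponents.BalRedTwo

open Cfsg Subgroup
open Cfsg.Agent.TwoGenCore (Four fourSub)
open Cfsg.Agent.TwoGenCore.Involution (Closed pRankLE_map normalizer_conj mem_conj_iff)
open Cfsg.Agent.SignalizersComponents Cfsg.Agent.SignalizersComponents.BalRed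

universe u

variable {G : Type u} [Group G]

/-- Conjugation of a 2-subgroup of `H ≥ S` into `S` inside `H`. -/
theorem exists_conj_le [Finite G] (S : Sylow 2 G) {H X : Subgroup G} (hSH : (S : Subgroup G) ≤ H)
    (hX : X ≤ H) (hp : IsPGroup 2 X) :
    ∃ h ∈ H, X.map (MulAut.conj h).toMonoidHom ≤ (S : Subgroup G) := by
  have hpH : IsPGroup 2 (X.subgroupOf H) := hp.comap_of_injective H.subtype H.subtype_injective
  obtain ⟨P, hXP⟩ := hpH.exists_le_sylow
  obtain ⟨h, hh⟩ := MulAction.exists_smul_eq H P (S.subtype hSH)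
  refine ⟨h, h.2, ?_⟩
  rintro _ ⟨x, hx, rfl⟩
  have h1 : (⟨x, hX hx⟩ : H) ∈ (P : Subgroup H) :=
    hXP (Subgroup.mem_subgroupOf.mpr hx)
  have h2 : h * ⟨x, hX hx⟩ * h⁻¹ ∈ ((h • P : Sylow 2 H) : Subgroup H) := by
    rw [Sylow.coe_subgroup_smul, Subgroup.mem_pointwise_smul_iff_inv_smul_mem]
    simpa [MulAut.smul_def, MulAut.conj_apply, mul_assoc] using h1
  rw [hh] at h2
  have h3 : h * ⟨x, hX hx⟩ * h⁻¹ ∈ (S : Subgroup G).subgroupOf H := h2
  rw [Subgroup.mem_subgroupOf] at h3
  simpa [MulAut.conj_apply] using h3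

/-- A subgroup containing `S` and the normalizers of the subgroups of `S` of 2-rank at least 2 is
closed. -/
theorem closed_of_le [Finite G] (S : Sylow 2 G) {H : Subgroup G} (hSH : (S : Subgroup G) ≤ H)
    (hn : ∀ X : Subgroup G, X ≤ (S : Subgroup G) → ¬ PRankLE 2 1 X → normalizer (X : Set G) ≤ H) :
    Closed H := by
  intro X hX hp hr
  obtain ⟨h, hh, hconj⟩ := exists_conj_le S hSH hX hp
  have hr' : ¬ PRankLE 2 1 (X.map (MulAut.conj h).toMonoidHom) := by
    rwa [pRankLE_map _ (MulAut.conj h).injective]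
  have h4 := hn _ hconj hr'
  rw [normalizer_conj] at h4
  intro x hx
  have h5 : h * x * h⁻¹ ∈ H := h4 ⟨x, hx, by simp [MulAut.conj_apply]⟩
  have h6 := H.mul_mem (H.mul_mem (H.inv_mem hh) h5) hh
  simpa [mul_assoc] using h6

/-- `C_G(x)` normalizes `O(C_G(x))`. -/
theorem centralizer_le_normalizer_core (x : G) :
    centralizer ({x} : Set G) ≤ normalizer (centralizerPPrimeCore 2 x : Set G) := by
  intro c hc
  have hN : (pPrimeCore 2 ↥(centralizer ({x} : Set G))).Normal := Lib.Cores.pPrimeCore_normal 2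
  rw [mem_normalizer_iff]
  intro g
  constructor
  · rintro ⟨y, hy, rfl⟩
    exact ⟨⟨c, hc⟩ * y * ⟨c, hc⟩⁻¹, hN.conj_mem y hy _, rfl⟩
  · rintro ⟨y, hy, hyg⟩
    refine ⟨⟨c, hc⟩⁻¹ * y * ⟨c, hc⟩⁻¹⁻¹, hN.conj_mem y hy _, ?_⟩
    have h1 : (y : G) = c * g * c⁻¹ := hyg
    show c⁻¹ * (y : G) * (c⁻¹)⁻¹ = g
    rw [h1]
    group

variable {S : Sylow 2 G} {W : Subgroup G}

theorem Setup.closed [Finite G] (h : Setup S W) : Closed (normalizer (W : Set G)) :=
  closed_of_le S h.le_normalizer h.norm

/-- An element of order 2 of `S ∩ L`, for `L` normal of 2-rank at least 2. -/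
theorem exists_four_inf [Finite G] (S : Sylow 2 G) {L : Subgroup G} (hL : L.Normal)
    (hr : ¬ PRankLE 2 1 L) : Four ((S : Subgroup G) ⊓ L) := by
  obtain ⟨Q, hQ⟩ := Cfsg.Agent.S0542.result 2 L hL.isSubnormal S
  have hF : Four (⊤ : Subgroup L) := by
    rw [← Cfsg.Agent.TwoGenCore.not_pRankLE_one_iff]
    intro h1
    apply hr
    exact Cfsg.Agent.TwoGenCore.Involution.pRankLE_of_injective
      (topEquiv (G := L)).symm.toMonoidHom (topEquiv (G := L)).symm.injective h1
  obtain ⟨x, hx, y, hy, h1, h2, h3, h4, h5, h6⟩ := four_sylow hF Q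
  rw [hQ, mem_subgroupOf] at hx hy
  exact ⟨x, ⟨hx, x.2⟩, y, ⟨hy, y.2⟩, fun e => h1 (Subtype.ext e), fun e => h2 (Subtype.ext e),
    fun e => h3 (Subtype.ext e), congrArg Subtype.val h4, congrArg Subtype.val h5,
    congrArg Subtype.val h6⟩

/-- Step 3: `W` meets the simple normal subgroup `L` nontrivially, by the theorem on the cores of
strongly embedded subgroups (hypothesis `hSE`, statement S1221). -/
theorem Setup.inf_ne_bot [Finite G] (h : Setup S W) (hW : W ≠ ⊥) {L : Subgroup G} (hL : L.Normal)
    (hsimple : IsSimpleGroup L) (heven : Even (Nat.card L)) (hr : ¬ PRankLE 2 1 L)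
    (hcent : centralizer (L : Set G) = ⊥)
    (hSE : ∀ (J : Subgroup G) (H : Subgroup J), IsStronglyEmbedded H →
      (oddCore ↥H).map H.subtype ≤ oddCore J) :
    W ⊓ L ≠ ⊥ := by
  intro hbot
  apply hW
  set M := normalizer (W : Set G) with hM
  have hSM : (S : Subgroup G) ≤ M := h.le_normalizer
  have hWM : W ≤ M := Subgroup.le_normalizer
  -- `M ∩ L` centralizes `W`
  have hML : M ⊓ L ≤ centralizer (W : Set G) := by
    refine le_centralizer_of_inf_eq_bot inf_le_left ?_ ?_
    · intro w hw
      rw [mem_normalizer_iff]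
      intro x
      constructor
      · rintro ⟨h1, h2⟩
        exact ⟨M.mul_mem (M.mul_mem (hWM hw) h1) (M.inv_mem (hWM hw)), hL.conj_mem _ h2 w⟩
      · rintro ⟨h1, h2⟩
        refine ⟨?_, ?_⟩
        · have := M.mul_mem (M.mul_mem (M.inv_mem (hWM hw)) h1) (hWM hw)
          simpa [mul_assoc] using this
        · have := hL.conj_mem _ h2 w⁻¹
          simpa [mul_assoc] using this
    · rw [eq_bot_iff, ← hbot]
      exact fun x hx => ⟨hx.2, hx.1.2⟩
  -- centralizers of involutions of `M ∩ L`
  have hcx : ∀ x ∈ (S : Subgroup G) ⊓ L, orderOf x = 2 → centralizer ({x} : Set G) ≤ M := by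
    rintro x ⟨hxS, hxL⟩ hx2
    have h1 : W = centralizerPPrimeCore 2 x := by
      rw [← h.fix x hxS hx2]
      refine (inf_eq_left.2 ?_).symm
      intro w hw
      rw [mem_centralizer_singleton_iff]
      exact (mem_centralizer_iff.mp (hML ⟨hSM hxS, hxL⟩)) w hw
    rw [hM, h1]
    exact centralizer_le_normalizer_core x
  have hct : ∀ t ∈ M ⊓ L, orderOf t = 2 → centralizer ({t} : Set G) ≤ M := by
    rintro t ⟨htM, htL⟩ ht2
    have hZ : IsPGroup 2 (zpowers t) := by
      rw [IsPGroup.iff_card]
      exact ⟨1, by rw [Nat.card_zpowers, ht2, pow_one]⟩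
    obtain ⟨m, hm, hconj⟩ := exists_conj_le S hSM (by rw [zpowers_le]; exact htM) hZ
    have hx : m * t * m⁻¹ ∈ (S : Subgroup G) ⊓ L :=
      ⟨hconj ⟨t, mem_zpowers t, by simp [MulAut.conj_apply]⟩, hL.conj_mem _ htL m⟩
    have hx2 : orderOf (m * t * m⁻¹) = 2 := by
      rw [← ht2]
      have := orderOf_injective (MulAut.conj m).toMonoidHom (MulAut.conj m).injective t
      simpa [MulAut.conj_apply] using this
    have h2 := hcx _ hx hx2
    intro c hc
    have h3 : m * c * m⁻¹ ∈ M := by
      apply h2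
      rw [mem_centralizer_singleton_iff] at hc ⊢
      calc m * c * m⁻¹ * (m * t * m⁻¹) = m * (c * t) * m⁻¹ := by group
        _ = m * (t * c) * m⁻¹ := by rw [hc]
        _ = m * t * m⁻¹ * (m * c * m⁻¹) := by group
    have := M.mul_mem (M.mul_mem (M.inv_mem hm) h3) hm
    simpa [mul_assoc] using this
  obtain ⟨x, hx, y, hy, hx1, -, -, hx2, -, -⟩ := exists_four_inf S hL hr
  have hxo : orderOf x = 2 := orderOf_eq_two hx1 hx2
  -- the strongly embedded subgroup of `W L`
  set J := W ⊔ L with hJ
  have hLJ : L ≤ J := le_sup_right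
  have hWJ : W ≤ J := le_sup_left
  set H := M.subgroupOf J with hH
  have hclosed : Closed H := (Setup.closed h).subgroupOf J
  have htop : H ≠ ⊤ := by
    intro e
    rw [hH, subgroupOf_eq_top] at e
    have h1 : L ≤ centralizer (W : Set G) := fun l hl => hML ⟨e (hLJ hl), hl⟩
    rw [le_centralizer_iff, hcent, le_bot_iff] at h1
    exact hW h1
  have hevenH : Even (Nat.card H) := by
    have h1 : (⟨⟨x, hLJ hx.2⟩, hSM hx.1⟩ : H) ≠ 1 := by
      intro e
      apply hx1
      exact congrArg (fun z : H => ((z : J) : G)) e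
    have h2 : orderOf (⟨⟨x, hLJ hx.2⟩, hSM hx.1⟩ : H) = 2 := by
      rw [← Subgroup.orderOf_coe, ← Subgroup.orderOf_coe]
      exact hxo
    rw [even_iff_two_dvd, ← h2]
    exact orderOf_dvd_natCard _
  have hodd : ∀ t ∈ J, orderOf t = 2 → t ∈ L := by
    intro t ht ht2
    rw [← QuotientGroup.eq_one_iff (N := L)]
    have h1 : (QuotientGroup.mk' L t) ∈ W.map (QuotientGroup.mk' L) := by
      have h2 : (QuotientGroup.mk' L t) ∈ J.map (QuotientGroup.mk' L) := ⟨t, ht, rfl⟩
      have h3 : L.map (QuotientGroup.mk' L) = ⊥ :=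
        (Subgroup.map_eq_bot_iff _).mpr (by rw [QuotientGroup.ker_mk'])
      rw [hJ, Subgroup.map_sup, h3, sup_bot_eq] at h2
      exact h2
    have h3 : Odd (Nat.card (W.map (QuotientGroup.mk' L))) := by
      obtain ⟨k, hk⟩ := Subgroup.card_map_dvd (H := W) (QuotientGroup.mk' L)
      have := h.odd
      rw [hk, Nat.odd_mul] at this
      exact this.1
    have h4 : orderOf (QuotientGroup.mk' L t) ∣ 2 := by
      apply orderOf_dvd_of_pow_eq_one
      rw [← map_pow, ← ht2, pow_orderOf_eq_one, map_one]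
    have h5 : orderOf (QuotientGroup.mk' L t) ∣ Nat.card (W.map (QuotientGroup.mk' L)) :=
      Subgroup.orderOf_dvd_natCard _ h1
    have h6 : orderOf (QuotientGroup.mk' L t) = 1 := by
      rcases (Nat.dvd_prime Nat.prime_two).mp h4 with h7 | h7
      · exact h7
      · exfalso
        rw [h7] at h5
        rw [Nat.odd_iff] at h3
        omega
    exact orderOf_eq_one_iff.mp h6
  have hse : IsStronglyEmbedded H := by
    refine hclosed.isStronglyEmbedded htop hevenH ?_
    intro t ht ht2 c hc
    rw [hH, mem_subgroupOf]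
    have ht2' : orderOf (t : G) = 2 := by rw [Subgroup.orderOf_coe]; exact ht2
    refine hct t ⟨ht, hodd t t.2 ht2'⟩ ht2' ?_
    rw [mem_centralizer_singleton_iff] at hc ⊢
    exact congrArg Subtype.val hc
  have hcore := hSE J H hse
  -- `W ≤ O(H)`
  have hWO : (W.subgroupOf J).subgroupOf H ≤ oddCore H := by
    refine Lib.Cores.le_pPrimeCore ?_ ?_
    · refine ⟨fun w hw g => ?_⟩
      rw [mem_subgroupOf, mem_subgroupOf] at hw ⊢
      have hg : ((g : J) : G) ∈ normalizer (W : Set G) := g.2
      exact (mem_normalizer_iff.mp hg _).mp hw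
    · have h1 : Nat.card ((W.subgroupOf J).subgroupOf H) ∣ Nat.card W := by
        have h2 := Subgroup.card_dvd_of_injective
          (((J.subtype.comp H.subtype).subgroupMap ((W.subgroupOf J).subgroupOf H)))
          (by
            intro a b hab
            have := congrArg Subtype.val hab
            exact Subtype.ext (Subtype.ext (Subtype.ext this)))
        refine h2.trans (card_dvd_of_le ?_)
        rintro _ ⟨a, ha, rfl⟩
        exact ha
      exact (Nat.coprime_two_right.mpr h.odd).coprime_dvd_left h1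
  have hWO2 : W.subgroupOf J ≤ oddCore J := by
    refine le_trans ?_ hcore
    intro w hw
    exact ⟨⟨w, hWM hw⟩, hWO (by
      rw [mem_subgroupOf]
      exact hw), rfl⟩
  set R := (oddCore J).map J.subtype with hR
  have hRodd : Odd (Nat.card R) := by
    have h1 := Lib.Cores.pPrimeCore_coprime (G := J) 2
    rw [Nat.coprime_two_right] at h1
    rw [hR, card_map_of_injective J.subtype_injective]
    exact h1
  have hRJ : R ≤ J := map_subtype_le _
  have hLR : L ≤ normalizer (R : Set G) := by
    refine hLJ.trans ?_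
    have hn : (oddCore J).Normal := Lib.Cores.pPrimeCore_normal 2
    intro g hg
    rw [mem_normalizer_iff]
    intro r
    constructor
    · rintro ⟨r', hr', rfl⟩
      exact ⟨_, hn.conj_mem r' hr' ⟨g, hg⟩, rfl⟩
    · rintro ⟨r', hr', hrr⟩
      refine ⟨_, hn.conj_mem r' hr' ⟨g, hg⟩⁻¹, ?_⟩
      have h1 : (r' : G) = g * r * g⁻¹ := hrr
      show g⁻¹ * (r' : G) * (g⁻¹)⁻¹ = r
      rw [h1]
      group
  have hRL : R ⊓ L = ⊥ := by
    have hn : ((R ⊓ L).subgroupOf L).Normal := by
      rw [inf_subgroupOf_right]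
      exact normal_subgroupOf_of_le_normalizer hLR
    rcases hn.eq_bot_or_eq_top with e | e
    · rwa [subgroupOf_eq_bot, disjoint_iff, inf_assoc, inf_idem] at e
    · exfalso
      rw [subgroupOf_eq_top] at e
      have h1 := card_dvd_of_le (e.trans inf_le_left)
      obtain ⟨k, hk⟩ := h1
      rw [hk, Nat.odd_mul] at hRodd
      exact (Nat.not_even_iff_odd.mpr hRodd.1) heven
  have hRc : R ≤ centralizer (L : Set G) := by
    refine le_centralizer_of_inf_eq_bot ?_ hLR hRL
    rw [normalizer_eq_top_iff.mpr hL]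
    exact le_top
  rw [hcent] at hRc
  refine le_bot_iff.mp (le_trans ?_ hRc)
  intro w hw
  exact ⟨⟨w, hWJ hw⟩, hWO2 hw, rfl⟩

end Cfsg.Agent.SignalizersComponents.BalRedTwo
end

-- part: SignalizersComponents/BalLocal
section
/-!
# Local setup on a simple group

`LocalSetup T W` : `W` has odd order, `C_W(x)` is normal in `C_L(x)` for every involution `x` of the
Sylow 2-subgroup `T` of `L`, and the normalizers of the subgroups of `T` of 2-rank at least 2
normalize `W`.
-/

set_option autoImplicit false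

namespace Cfsg.Agent.SignalizersComponents.BalLocal

open Cfsg Subgroup
open Cfsg.Agent.TwoGenCore (Four fourSub)
open Cfsg.Agent.TwoGenCore.Involution (Closed pRankLE_map pRankLE_of_injective)
open Cfsg.Agent.SignalizersComponents Cfsg.Agent.SignalizersComponents.BalRed
open Cfsg.Agent.SignalizersComponents.BalRedTwo

universe u

variable {L : Type u} [Group L]

/-- See the header of the file. -/
structure LocalSetup (T : Sylow 2 L) (W : Subgroup L) : Prop where
  odd : Odd (Nat.card W)
  fix : ∀ x ∈ (T : Subgroup L), orderOf x = 2 →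
    centralizer ({x} : Set L) ≤ normalizer ((W ⊓ centralizer {x} : Subgroup L) : Set L)
  equi : ∀ x ∈ (T : Subgroup L), orderOf x = 2 → ∀ g : L, g * x * g⁻¹ ∈ (T : Subgroup L) →
    ∀ w ∈ W, w * x = x * w → g * w * g⁻¹ ∈ W
  norm : ∀ X : Subgroup L, X ≤ (T : Subgroup L) → ¬ PRankLE 2 1 X →
    normalizer (X : Set L) ≤ normalizer (W : Set L)
  rank : ¬ PRankLE 2 1 (T : Subgroup L)

variable {T : Sylow 2 L} {W : Subgroup L}

/-- Equivariance of the subgroups `C_W(x)`. -/
theorem LocalSetup.map_conj (h : LocalSetup T W) {x : L} (hx : x ∈ (T : Subgroup L))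
    (hx2 : orderOf x = 2) {g : L} (hg : g * x * g⁻¹ ∈ (T : Subgroup L)) :
    (W ⊓ centralizer {x}).map (MulAut.conj g).toMonoidHom = W ⊓ centralizer {g * x * g⁻¹} := by
  ext y
  constructor
  · rintro ⟨w, ⟨hw, hwx⟩, rfl⟩
    have hwx' := mem_centralizer_singleton_iff.mp hwx
    refine ⟨h.equi x hx hx2 g hg w hw hwx', ?_⟩
    show g * w * g⁻¹ ∈ centralizer ({g * x * g⁻¹} : Set L)
    rw [mem_centralizer_singleton_iff]
    calc g * w * g⁻¹ * (g * x * g⁻¹) = g * (w * x) * g⁻¹ := by group
      _ = g * (x * w) * g⁻¹ := by rw [hwx']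
      _ = g * x * g⁻¹ * (g * w * g⁻¹) := by group
  · rintro ⟨hy, hyx⟩
    have hyx' := mem_centralizer_singleton_iff.mp hyx
    have hx' : orderOf (g * x * g⁻¹) = 2 := by
      rw [← hx2]
      have := orderOf_injective (MulAut.conj g).toMonoidHom (MulAut.conj g).injective x
      simpa [MulAut.conj_apply] using this
    have h1 : g⁻¹ * (g * x * g⁻¹) * g⁻¹⁻¹ = x := by group
    have h2 := h.equi (g * x * g⁻¹) hg hx' g⁻¹ (by rw [h1]; exact hx) y hy hyx'
    refine ⟨g⁻¹ * y * g⁻¹⁻¹, ⟨h2, ?_⟩, ?_⟩
    · show g⁻¹ * y * g⁻¹⁻¹ ∈ centralizer ({x} : Set L)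
      rw [mem_centralizer_singleton_iff]
      calc g⁻¹ * y * g⁻¹⁻¹ * x = g⁻¹ * (y * (g * x * g⁻¹)) * g := by group
        _ = g⁻¹ * ((g * x * g⁻¹) * y) * g := by rw [hyx']
        _ = x * (g⁻¹ * y * g⁻¹⁻¹) := by group
    · show g * (g⁻¹ * y * g⁻¹⁻¹) * g⁻¹ = y
      group

theorem LocalSetup.le_normalizer (h : LocalSetup T W) : (T : Subgroup L) ≤ normalizer (W : Set L) :=
  Subgroup.le_normalizer.trans (h.norm _ le_rfl h.rank)

theorem LocalSetup.le_of_four (h : LocalSetup T W) {x y : L} (hx : x ∈ (T : Subgroup L))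
    (hy : y ∈ (T : Subgroup L)) (hx2 : x * x = 1) (hy2 : y * y = 1) (hxy : x * y = y * x)
    {M : Subgroup L} (h1 : W ⊓ centralizer {x} ≤ M) (h2 : W ⊓ centralizer {y} ≤ M)
    (h3 : W ⊓ centralizer {x * y} ≤ M) : W ≤ M :=
  Lib.KleinGen.le_of_klein W M h.odd x y hx2 hy2 hxy
    (fun w hw => (mem_normalizer_iff.mp (h.le_normalizer hx) w).mp hw)
    (fun w hw => (mem_normalizer_iff.mp (h.le_normalizer hy) w).mp hw) h1 h2 h3

theorem LocalSetup.closed [Finite L] (h : LocalSetup T W) : Closed (normalizer (W : Set L)) :=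
  closed_of_le T h.le_normalizer h.norm

/-- `C_W(x) ≤ O(C_L(x))`. -/
theorem LocalSetup.inf_le_core [Finite L] (h : LocalSetup T W) {x : L} (hx : x ∈ (T : Subgroup L))
    (hx2 : orderOf x = 2) : W ⊓ centralizer {x} ≤ centralizerPPrimeCore 2 x := by
  have h1 : (W ⊓ centralizer {x}).subgroupOf (centralizer ({x} : Set L)) ≤
      pPrimeCore 2 (centralizer ({x} : Set L)) := by
    refine Lib.Cores.le_pPrimeCore ?_ ?_
    · exact normal_subgroupOf_of_le_normalizer (h.fix x hx hx2)
    · have h2 : Nat.card ((W ⊓ centralizer {x}).subgroupOf (centralizer ({x} : Set L))) =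
          Nat.card (W ⊓ centralizer {x} : Subgroup L) :=
        Nat.card_congr (subgroupOfEquivOfLe inf_le_right).toEquiv
      rw [h2]
      exact (Nat.coprime_two_right.mpr h.odd).coprime_dvd_left (card_dvd_of_le inf_le_left)
  intro w hw
  exact ⟨⟨w, hw.2⟩, h1 hw, rfl⟩

/-- If the centralizers of the involutions of `L` have trivial cores, then `W = 1`. -/
theorem LocalSetup.eq_bot_of_core [Finite L] (h : LocalSetup T W)
    (hc : ∀ x : L, orderOf x = 2 → centralizerPPrimeCore 2 x = ⊥) : W = ⊥ := by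
  obtain ⟨x, hx, y, hy, hx1, hy1, hne, hx2, hy2, hxy⟩ :=
    Cfsg.Agent.TwoGenCore.not_pRankLE_one_iff.mp h.rank
  have key : ∀ z ∈ (T : Subgroup L), z ≠ 1 → z * z = 1 → W ⊓ centralizer {z} ≤ ⊥ := by
    intro z hz hz1 hz2
    rw [← hc z (orderOf_eq_two hz1 hz2)]
    exact h.inf_le_core hz (orderOf_eq_two hz1 hz2)
  have hxy1 : x * y ≠ 1 := by
    intro e
    apply hne
    have : x * y = x * x := by rw [e, hx2]
    exact (mul_left_cancel this).symm
  have hxy2 : (x * y) * (x * y) = 1 := by
    calc x * y * (x * y) = x * y * (y * x) := by rw [hxy]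
      _ = x * (y * y) * x := by group
      _ = 1 := by rw [hy2, mul_one, hx2]
  exact le_bot_iff.mp (h.le_of_four hx hy hx2 hy2 hxy (key x hx hx1 hx2) (key y hy hy1 hy2)
    (key _ ((T : Subgroup L).mul_mem hx hy) hxy1 hxy2))

/-- A simple group with a nontrivial local setup has a proper 2-generated core. -/
theorem LocalSetup.hasProperTwoGeneratedCore [Finite L] [IsSimpleGroup L] (h : LocalSetup T W)
    (hW : W ≠ ⊥) : HasProperTwoGeneratedCore L := by
  refine h.closed.hasProperTwoGeneratedCore ?_ h.le_normalizer T.isPGroup' h.rank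
  intro e
  rw [normalizer_eq_top_iff] at e
  rcases e.eq_bot_or_eq_top with e' | e'
  · exact hW e'
  · -- `L` would have odd order
    obtain ⟨x, hx, y, hy, hx1, hy1, hne, hx2, hy2, hxy⟩ :=
      Cfsg.Agent.TwoGenCore.not_pRankLE_one_iff.mp h.rank
    have h1 := h.odd
    rw [e', Nat.card_congr topEquiv.toEquiv] at h1
    have h2 := orderOf_dvd_natCard x
    rw [orderOf_eq_two hx1 hx2] at h2
    rw [Nat.odd_iff] at h1
    omega

/-- Transport of a local setup along an isomorphism. -/
theorem LocalSetup.map_equiv [Finite L] {L' : Type*} [Group L'] (h : LocalSetup T W)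
    (e : L ≃* L') : ∃ T' : Sylow 2 L', LocalSetup T' (W.map e.toMonoidHom) := by
  have : Finite L' := Finite.of_equiv _ e.toEquiv
  have hsurj : Function.Surjective e.toMonoidHom := e.surjective
  refine ⟨T.mapSurjective hsurj, ?_⟩
  have hT' : ∀ x : L', x ∈ ((T.mapSurjective hsurj : Sylow 2 L') : Subgroup L') ↔
      e.symm x ∈ (T : Subgroup L) := by
    intro x
    rw [Sylow.coe_mapSurjective, Subgroup.mem_map]
    constructor
    · rintro ⟨y, hy, rfl⟩
      simpa using hy
    · intro hx
      exact ⟨_, hx, by simp⟩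
  have hmem : ∀ (K : Subgroup L) (x : L'), x ∈ K.map e.toMonoidHom ↔ e.symm x ∈ K := by
    intro K x
    rw [Subgroup.mem_map]
    constructor
    · rintro ⟨y, hy, rfl⟩
      simpa using hy
    · intro hx
      exact ⟨_, hx, by simp⟩
  refine ⟨?_, ?_, ?_, ?_, ?_⟩
  · rw [card_map_of_injective e.injective]
    exact h.odd
  · intro x hx hx2 c hc
    have h1 := h.fix (e.symm x) ((hT' x).mp hx) (by rw [← hx2]; exact MulEquiv.orderOf_eq e.symm x)
    have hc' : e.symm c ∈ centralizer ({e.symm x} : Set L) := by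
      rw [mem_centralizer_singleton_iff] at hc ⊢
      rw [← map_mul, hc, map_mul]
    have h2 := mem_normalizer_iff.mp (h1 hc')
    rw [mem_normalizer_iff]
    intro g
    have h3 := h2 (e.symm g)
    have h4 : ∀ g : L', g ∈ (W.map e.toMonoidHom ⊓ centralizer {x} : Subgroup L') ↔
        e.symm g ∈ (W ⊓ centralizer {e.symm x} : Subgroup L) := by
      intro g
      rw [mem_inf, mem_inf, hmem, mem_centralizer_singleton_iff, mem_centralizer_singleton_iff,
        ← map_mul, ← map_mul, e.symm.injective.eq_iff]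
    rw [h4, h4, h3, map_mul, map_mul, map_inv]
  · intro x hx hx2 g hg w hw hwx
    rw [hmem] at hw ⊢
    have h1 := h.equi (e.symm x) ((hT' x).mp hx)
      (by rw [← hx2]; exact MulEquiv.orderOf_eq e.symm x) (e.symm g)
      (by
        have := (hT' _).mp hg
        rwa [map_mul, map_mul, map_inv] at this) (e.symm w) hw (by rw [← map_mul, hwx, map_mul])
    rwa [map_mul, map_mul, map_inv]
  · intro X hX hr c hc
    have hX' : X.map e.symm.toMonoidHom ≤ (T : Subgroup L) := by
      rintro _ ⟨y, hy, rfl⟩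
      exact (hT' y).mp (hX hy)
    have h1 := h.norm _ hX' (by rwa [pRankLE_map _ e.symm.injective])
    have hc' : e.symm c ∈ normalizer ((X.map e.symm.toMonoidHom : Subgroup L) : Set L) := by
      rw [mem_normalizer_iff] at hc ⊢
      intro g
      have h2 : ∀ g : L, g ∈ X.map e.symm.toMonoidHom ↔ e g ∈ X := by
        intro g
        rw [Subgroup.mem_map]
        constructor
        · rintro ⟨y, hy, rfl⟩
          simpa using hy
        · intro hx
          exact ⟨_, hx, by simp⟩
      rw [h2, h2, hc (e g), map_mul, map_mul, map_inv, e.apply_symm_apply]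
    have h2 := mem_normalizer_iff.mp (h1 hc')
    rw [mem_normalizer_iff]
    intro g
    rw [hmem, hmem, h2 (e.symm g), map_mul, map_mul, map_inv]
  · intro h1
    apply h.rank
    have h2 : ((T.mapSurjective hsurj : Sylow 2 L') : Subgroup L') =
        (T : Subgroup L).map e.toMonoidHom := Sylow.coe_mapSurjective _ _
    rw [h2, pRankLE_map _ e.injective] at h1
    exact h1

section Global

variable {G : Type u} [Group G] {S : Sylow 2 G} {V : Subgroup G}

theorem core_conj (g x : G) : (centralizerPPrimeCore 2 x).map (MulAut.conj g).toMonoidHom =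
    centralizerPPrimeCore 2 (g * x * g⁻¹) := by
  have hc : ∀ c : G, c ∈ centralizer ({x} : Set G) ↔
      g * c * g⁻¹ ∈ centralizer ({g * x * g⁻¹} : Set G) := by
    intro c
    rw [mem_centralizer_singleton_iff, mem_centralizer_singleton_iff]
    have h1 : g * c * g⁻¹ * (g * x * g⁻¹) = g * (c * x) * g⁻¹ := by group
    have h2 : g * x * g⁻¹ * (g * c * g⁻¹) = g * (x * c) * g⁻¹ := by group
    rw [h1, h2, mul_left_inj, mul_right_inj]
  have hmap : (centralizer ({x} : Set G)).map (MulAut.conj g).toMonoidHom =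
      centralizer ({g * x * g⁻¹} : Set G) := by
    ext y
    constructor
    · rintro ⟨c, hc', rfl⟩
      exact (hc c).mp hc'
    · intro hy
      refine ⟨g⁻¹ * y * g, (hc _).mpr ?_, ?_⟩
      · have : g * (g⁻¹ * y * g) * g⁻¹ = y := by group
        rwa [this]
      · show g * (g⁻¹ * y * g) * g⁻¹ = y
        group
  let e : centralizer ({x} : Set G) ≃* centralizer ({g * x * g⁻¹} : Set G) :=
    ((MulAut.conj g).subgroupMap (centralizer ({x} : Set G))).trans (MulEquiv.subgroupCongr hmap)
  have he : ∀ c, ((e c : centralizer ({g * x * g⁻¹} : Set G)) : G) = g * c * g⁻¹ := fun c => rfl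
  have h1 := Lib.Cores.map_equiv_pPrimeCore e 2
  unfold centralizerPPrimeCore
  rw [← h1, Subgroup.map_map, Subgroup.map_map]
  rfl

/-- Equivariance of the subgroups `C_W(x)` of a setup. -/
theorem Setup.equi (h : Setup S V) (x : G) (hx : x ∈ (S : Subgroup G)) (hx2 : orderOf x = 2)
    (g : G) (hg : g * x * g⁻¹ ∈ (S : Subgroup G)) (w : G) (hw : w ∈ V) (hwx : w * x = x * w) :
    g * w * g⁻¹ ∈ V := by
  have hx' : orderOf (g * x * g⁻¹) = 2 := by
    rw [← hx2]
    have := orderOf_injective (MulAut.conj g).toMonoidHom (MulAut.conj g).injective x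
    simpa [MulAut.conj_apply] using this
  have h1 : w ∈ V ⊓ centralizer {x} := ⟨hw, mem_centralizer_singleton_iff.mpr hwx⟩
  rw [h.fix x hx hx2] at h1
  have h2 : g * w * g⁻¹ ∈ centralizerPPrimeCore 2 (g * x * g⁻¹) := by
    rw [← core_conj]
    exact ⟨w, h1, rfl⟩
  rw [← h.fix _ hg hx'] at h2
  exact h2.1

/-- A setup of `G` induces a local setup on each normal subgroup of 2-rank at least 2. -/
theorem Setup.localSetup [Finite G] (h : Setup S V) {K : Subgroup G} (hK : K.Normal)
    (hr : ¬ PRankLE 2 1 K) : ∃ T : Sylow 2 K, LocalSetup T (V.subgroupOf K) := by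
  obtain ⟨T, hT⟩ := Cfsg.Agent.S0542.result 2 K hK.isSubnormal S
  refine ⟨T, ?_, ?_, ?_, ?_, ?_⟩
  · have h1 : Nat.card (V.subgroupOf K) ∣ Nat.card V := by
      have h2 := Subgroup.card_dvd_of_injective (K.subtype.subgroupMap (V.subgroupOf K))
        (by
          intro a b hab
          have := congrArg Subtype.val hab
          exact Subtype.ext (Subtype.ext this))
      refine h2.trans (card_dvd_of_le ?_)
      rintro _ ⟨a, ha, rfl⟩
      exact ha
    obtain ⟨k, hk⟩ := h1
    have := h.odd
    rw [hk, Nat.odd_mul] at this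
    exact this.1
  · intro x hx hx2 c hc
    rw [hT, mem_subgroupOf] at hx
    have hx2' : orderOf (x : G) = 2 := by rw [Subgroup.orderOf_coe]; exact hx2
    have h1 := h.fix x hx hx2'
    have hc' : (c : G) ∈ centralizer ({(x : G)} : Set G) := by
      rw [mem_centralizer_singleton_iff] at hc ⊢
      exact congrArg Subtype.val hc
    have h2 := centralizer_le_normalizer_core (x : G) hc'
    rw [← h1] at h2
    rw [mem_normalizer_iff] at h2 ⊢
    intro g
    have h3 := h2 (g : G)
    have h4 : ∀ g : K, g ∈ (V.subgroupOf K ⊓ centralizer {x} : Subgroup K) ↔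
        (g : G) ∈ (V ⊓ centralizer {(x : G)} : Subgroup G) := by
      intro g
      rw [mem_inf, mem_inf, mem_subgroupOf, mem_centralizer_singleton_iff,
        mem_centralizer_singleton_iff]
      constructor
      · rintro ⟨h5, h6⟩
        exact ⟨h5, congrArg Subtype.val h6⟩
      · rintro ⟨h5, h6⟩
        exact ⟨h5, Subtype.ext h6⟩
    rw [h4, h4, h3]
    rfl
  · intro x hx hx2 g hg w hw hwx
    rw [hT, mem_subgroupOf] at hx hg
    rw [mem_subgroupOf] at hw ⊢
    have hx2' : orderOf (x : G) = 2 := by rw [Subgroup.orderOf_coe]; exact hx2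
    exact Setup.equi h x hx hx2' g hg w hw (congrArg Subtype.val hwx)
  · intro X hX hr' c hc
    have hX' : X.map K.subtype ≤ (S : Subgroup G) := by
      rintro _ ⟨y, hy, rfl⟩
      have := hX hy
      rw [hT, mem_subgroupOf] at this
      exact this
    have h1 := h.norm _ hX' (by rwa [pRankLE_map _ K.subtype_injective])
    have hc' : (c : G) ∈ normalizer ((X.map K.subtype : Subgroup G) : Set G) := by
      rw [mem_normalizer_iff] at hc ⊢
      intro g
      constructor
      · rintro ⟨y, hy, rfl⟩
        exact ⟨_, (hc y).mp hy, rfl⟩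
      · rintro ⟨y, hy, hyg⟩
        have hg : g = ((c⁻¹ * y * c⁻¹⁻¹ : K) : G) := by
          have h2 : (y : G) = c * g * (c : G)⁻¹ := hyg
          push_cast
          rw [h2]
          group
        have h3 : c * (c⁻¹ * y * c⁻¹⁻¹) * c⁻¹ = y := by group
        exact ⟨c⁻¹ * y * c⁻¹⁻¹, (hc _).mpr (by rw [h3]; exact hy), hg.symm⟩
    have h2 := mem_normalizer_iff.mp (h1 hc')
    rw [mem_normalizer_iff]
    intro g
    rw [mem_subgroupOf, mem_subgroupOf, h2 (g : G)]
    rfl
  · rw [Cfsg.Agent.TwoGenCore.not_pRankLE_one_iff]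
    apply four_sylow
    rw [← Cfsg.Agent.TwoGenCore.not_pRankLE_one_iff]
    intro h1
    apply hr
    exact pRankLE_of_injective (topEquiv (G := K)).symm.toMonoidHom
      (topEquiv (G := K)).symm.injective h1

/-- The reduction theorem. -/
theorem Setup.eq_bot [Finite G] (h : Setup S V) (hO : oddCore G = ⊥)
    (hBS : ∀ K : Subgroup G, IsComponent K → center K = ⊥ → Even (Nat.card K) →
      ¬ PRankLE 2 1 K)
    (hSE : ∀ (J : Subgroup G) (H : Subgroup J), IsStronglyEmbedded H →
      (oddCore ↥H).map H.subtype ≤ oddCore J)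
    (hEnd : ∀ (K : Subgroup G) (T : Sylow 2 K) (V' : Subgroup K), IsSimpleGroup K →
      ¬ IsMulCommutative K → HasProperTwoGeneratedCore K → LocalSetup T V' → V' = ⊥) : V = ⊥ := by
  by_contra hV
  obtain ⟨K, hK, hs, hna, heven, hr, hc⟩ := Setup.exists_simple h hO hV hBS
  have h1 := Setup.inf_ne_bot h hV hK hs heven hr hc hSE
  obtain ⟨T, hT⟩ := Setup.localSetup h hK hr
  have h2 : V.subgroupOf K ≠ ⊥ := by
    intro e
    rw [subgroupOf_eq_bot, disjoint_iff] at e
    exact h1 e
  exact h2 (hEnd K T _ hs hna (hT.hasProperTwoGeneratedCore h2) hT)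

end Global

end Cfsg.Agent.SignalizersComponents.BalLocal
end
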